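import Mathlib
import Cfsg.Prelude.Def_BaumannBlocks
import Cfsg.Agent.H34.Thompson
import Cfsg.Agent.H20.FixedPoints
import Cfsg.Agent.H74.Isolated
import Cfsg.Agent.H72.PCore
import Cfsg.Agent.H72.CharP

/-!
The Baumann subgroup is determined by any Sylow subgroup containing it, and a `p`-group normalized
by a block and by its Baumann subgroup normalizes the block.
-/

set_option linter.style.haveILetI false
set_option linter.unusedSectionVars false

namespace Cfsg.Agent.H51

open Subgroup Cfsg
open scoped Pointwise commutatorElement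

section Maps

variable {G G' : Type*} [Group G] [Group G'] {p : ℕ}

theorem map_centerThompsonOf_equiv (e : G ≃* G') (T : Subgroup G) :
    (centerThompsonOf p T).map e.toMonoidHom = centerThompsonOf p (T.map e.toMonoidHom) := by
  rw [centerThompsonOf, centerThompsonOf, Subgroup.map_inf _ _ _ e.injective,
    H34.map_centralizer, H34.map_thompsonSubgroupOf]

theorem map_baumannSubgroupOf (e : G ≃* G') (T : Subgroup G) :
    (baumannSubgroupOf p T).map e.toMonoidHom = baumannSubgroupOf p (T.map e.toMonoidHom) := by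
  rw [baumannSubgroupOf, baumannSubgroupOf, Subgroup.map_inf _ _ _ e.injective,
    H34.map_centralizer, H34.map_omegaOne _ e.injective, map_centerThompsonOf_equiv]

theorem map_omegaOneCenter (e : G ≃* G') (X : Subgroup G) :
    (omegaOneCenter p X).map e.toMonoidHom = omegaOneCenter p (X.map e.toMonoidHom) := by
  rw [omegaOneCenter, omegaOneCenter, H34.map_omegaOne _ e.injective,
    Subgroup.map_inf _ _ _ e.injective, H34.map_centralizer]

/-- Whatever normalizes `E` normalizes `Ω₁(Z(O_p(E)))` and its fixed points. -/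
theorem normalizer_le_normalizer_omegaCore (E : Subgroup G) :
    normalizer (E : Set G) ≤ normalizer (omegaOneCenter p (pCoreOf p E) : Set G) := by
  intro g hg
  rw [mem_normalizer_iff_map_conj_eq] at hg ⊢
  refine (map_omegaOneCenter (MulAut.conj g) _).trans (congrArg _ ?_)
  exact (H72.pCoreOf_map_equiv (MulAut.conj g) p E).symm.trans (congrArg _ hg)

theorem normalizer_le_normalizer_omegaCore_fixed (E : Subgroup G) :
    normalizer (E : Set G) ≤ normalizer
      ((omegaOneCenter p (pCoreOf p E) ⊓ centralizer (E : Set G) : Subgroup G) : Set G) := by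
  intro g hg
  refine inf_normalizer_le_normalizer_inf ⟨normalizer_le_normalizer_omegaCore E hg, ?_⟩
  show g ∈ normalizer (centralizer (E : Set G) : Set G)
  rw [mem_normalizer_iff_map_conj_eq] at hg ⊢
  exact (H34.map_centralizer (MulAut.conj g) E).trans (by rw [show E.map (MulAut.conj g).toMonoidHom = E from hg])

theorem thompsonSubgroupOf_le_baumann (T : Subgroup G) :
    thompsonSubgroupOf p T ≤ baumannSubgroupOf p T :=
  le_inf (H34.thompsonSubgroupOf_le T)
    (le_centralizer_iff.mp ((H34.omegaOne_le _).trans inf_le_right))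

end Maps

variable {G : Type*} [Group G] [Finite G] {p : ℕ} [hp : Fact p.Prime]

/-- A Sylow subgroup containing `J(T)` has the same Thompson subgroup. -/
theorem thompson_eq_of_le (T T' : Sylow p G)
    (h : thompsonSubgroupOf p (T : Subgroup G) ≤ (T' : Subgroup G)) :
    thompsonSubgroupOf p (T : Subgroup G) = thompsonSubgroupOf p (T' : Subgroup G) := by
  obtain ⟨g, hg⟩ := MulAction.exists_smul_eq G T T'
  have hmap : (T : Subgroup G).map (MulAut.conj g).toMonoidHom = (T' : Subgroup G) := by
    rw [← hg]; rfl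
  refine eq_of_le_of_card_ge ?_ (le_of_eq ?_)
  · rw [H34.thompsonSubgroupOf_sylow, H34.thompsonSubgroupOf_sylow]
    refine sSup_le fun B hB => le_sSup ⟨?_, hB.2⟩
    refine le_trans ?_ h
    rw [H34.thompsonSubgroupOf_sylow]
    exact le_sSup hB
  · rw [← hmap, ← H34.map_thompsonSubgroupOf, card_map_of_injective (MulAut.conj g).injective]

/-- A Sylow subgroup containing `B(T)` has the same Baumann subgroup. -/
theorem baumann_eq_of_le (T T' : Sylow p G)
    (h : baumannSubgroupOf p (T : Subgroup G) ≤ (T' : Subgroup G)) :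
    baumannSubgroupOf p (T : Subgroup G) = baumannSubgroupOf p (T' : Subgroup G) := by
  have hJ := thompson_eq_of_le T T' ((thompsonSubgroupOf_le_baumann _).trans h)
  obtain ⟨g, hg⟩ := MulAction.exists_smul_eq G T T'
  have hmap : (T : Subgroup G).map (MulAut.conj g).toMonoidHom = (T' : Subgroup G) := by
    rw [← hg]; rfl
  refine eq_of_le_of_card_ge (le_inf h ?_) (le_of_eq ?_)
  · refine inf_le_right.trans (le_of_eq ?_)
    rw [centerThompsonOf, centerThompsonOf, hJ]
  · rw [← hmap, ← map_baumannSubgroupOf, card_map_of_injective (MulAut.conj g).injective]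

/-- A Sylow subgroup normalizes its Baumann subgroup. -/
theorem le_normalizer_baumann (T : Subgroup G) :
    T ≤ normalizer (baumannSubgroupOf p T : Set G) := by
  intro g hg
  rw [mem_normalizer_iff_map_conj_eq]
  exact (map_baumannSubgroupOf (MulAut.conj g) T).trans
    (congrArg _ (mem_normalizer_iff_map_conj_eq.mp (le_normalizer hg)))

/-- `B(T)` normalizes a subgroup `E = [E, B(T)]`. -/
theorem baumann_le_normalizer_of_commutator_eq {B E : Subgroup G} (h : ⁅E, B⁆ = E) :
    B ≤ normalizer (E : Set G) := by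
  have := normalizer_commutator_ge_right E B
  rwa [h] at this

/-- A `p`-group normalized by a block and by `B(T)` normalizes the block. -/
theorem le_normalizer_of_baumann (T : Sylow p G) {E Q : Subgroup G} (hres : pResidualOf p E = E)
    (hEB : ⁅E, baumannSubgroupOf p (T : Subgroup G)⁆ = E) (hQ : IsPGroup p Q)
    (hBQ : baumannSubgroupOf p (T : Subgroup G) ≤ normalizer (Q : Set G))
    (hEQ : E ≤ normalizer (Q : Set G)) : Q ≤ normalizer (E : Set G) := by
  set B := baumannSubgroupOf p (T : Subgroup G) with hB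
  have hBN : B ≤ normalizer (E : Set G) := baumann_le_normalizer_of_commutator_eq hEB
  obtain ⟨T', hT'⟩ := ((T.isPGroup'.to_le inf_le_left : IsPGroup p B).to_sup_of_normal_right' hQ
    hBQ).exists_le_sylow
  have hBe := baumann_eq_of_le T T' (le_sup_left.trans hT')
  have hQB : Q ≤ normalizer (B : Set G) := by
    rw [hB, hBe]
    exact (le_sup_right.trans hT').trans (le_normalizer_baumann _)
  set N := Q ⊓ normalizer (E : Set G) with hN
  have hnn : ∀ g ∈ normalizer (Q : Set G), g ∈ normalizer (E : Set G) →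
      g ∈ normalizer (N : Set G) := fun g h1 h2 =>
    inf_normalizer_le_normalizer_inf ⟨h1, le_normalizer h2⟩
  let K : Subgroup G :=
    { carrier := {g | g ∈ normalizer (Q : Set G) ∧ g ∈ normalizer (N : Set G) ∧ ∀ x ∈ Q, ⁅g, x⁆ ∈ N}
      one_mem' := ⟨one_mem _, one_mem _, fun x _ => by simp⟩
      mul_mem' := by
        rintro g h ⟨hg1, hg2, hg3⟩ ⟨hh1, hh2, hh3⟩
        refine ⟨mul_mem hg1 hh1, mul_mem hg2 hh2, fun x hx => ?_⟩
        rw [show ⁅g * h, x⁆ = g * ⁅h, x⁆ * g⁻¹ * ⁅g, x⁆ from by
          simp only [commutatorElement_def]; group]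
        exact mul_mem ((mem_normalizer_iff.mp hg2 _).mp (hh3 x hx)) (hg3 x hx)
      inv_mem' := by
        rintro g ⟨hg1, hg2, hg3⟩
        refine ⟨inv_mem hg1, inv_mem hg2, fun x hx => ?_⟩
        rw [show ⁅g⁻¹, x⁆ = g⁻¹ * ⁅g, x⁆⁻¹ * g from by simp only [commutatorElement_def]; group]
        exact (mem_normalizer_iff''.mp hg2 _).mp (inv_mem (hg3 x hx)) }
  have hBK : B ≤ K := fun b hb => by
    refine ⟨hBQ hb, hnn b (hBQ hb) (hBN hb), fun x hx => ⟨?_, hBN ?_⟩⟩
    · show ⁅b, x⁆ ∈ Q
      rw [commutatorElement_def]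
      exact mul_mem ((mem_normalizer_iff.mp (hBQ hb) x).mp hx) (inv_mem hx)
    · rw [commutatorElement_def, mul_assoc b x, mul_assoc b]
      exact mul_mem hb ((mem_normalizer_iff.mp (hQB hx) b⁻¹).mp (inv_mem hb))
  have hEK : E ≤ normalizer (K : Set G) := by
    refine fun e he => H74.mem_normalizer_of_conj_mem ?_
    rintro k ⟨hk1, hk2, hk3⟩
    have heQ := hEQ he
    have heN := hnn e heQ (le_normalizer he)
    refine ⟨mul_mem (mul_mem heQ hk1) (inv_mem heQ), mul_mem (mul_mem heN hk2) (inv_mem heN),
      fun x hx => ?_⟩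
    rw [show ⁅e * k * e⁻¹, x⁆ = e * ⁅k, e⁻¹ * x * e⁆ * e⁻¹ from by
      simp only [commutatorElement_def]; group]
    exact (mem_normalizer_iff.mp heN _).mp (hk3 _ ((mem_normalizer_iff''.mp heQ x).mp hx))
  have hEleK : E ≤ K := by
    rw [← hEB, commutator_le]
    intro e he b hb
    rw [commutatorElement_def]
    exact mul_mem ((mem_normalizer_iff.mp (hEK he) b).mp (hBK hb)) (inv_mem (hBK hb))
  have hEsub : E = closure {e : G | e ∈ E ∧ (orderOf e).Coprime p} := by
    conv_lhs => rw [← hres]
    exact H72.pResidual_map_eq E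
  intro x hx
  refine H74.mem_normalizer_of_conj_mem ?_
  have hle : E ≤ E.comap (MulAut.conj x).toMonoidHom := by
    refine hEsub.le.trans ((closure_le _).mpr ?_)
    rintro e ⟨he, hcop⟩
    set C := zpowers e with hC
    have hCE : C ≤ E := zpowers_le.mpr he
    have hcop' : (Nat.card C).Coprime (Nat.card Q) := by
      obtain ⟨k, hk⟩ := hQ.exists_card_eq
      rw [hk, Nat.card_zpowers]
      exact hcop.pow_right k
    have hsolv : Group.IsSolvable C ∨ Group.IsSolvable Q := by
      haveI := hQ.isNilpotent; exact Or.inr inferInstance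
    have h1 : ⁅Q, C⁆ ≤ N := by
      rw [commutator_comm, commutator_le]
      exact fun c hc y hy => (hEleK (hCE hc)).2.2 y hy
    have h2 : ⁅Q, C⁆ ≤ E := by
      rw [← H20.commutator_commutator_eq (hCE.trans hEQ) hcop' hsolv, commutator_le]
      intro n hn c hc
      rw [commutatorElement_def]
      exact mul_mem ((mem_normalizer_iff.mp (h1 hn).2 c).mp (hCE hc)) (inv_mem (hCE hc))
    have h3 : ⁅x, e⁆ ∈ E := h2 (commutator_mem_commutator hx (mem_zpowers e))
    have h4 := mul_mem h3 he
    rw [commutatorElement_def, inv_mul_cancel_right] at h4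
    exact h4
  exact fun d hd => hle hd

end Cfsg.Agent.H51
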