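import Mathlib
import Cfsg.Agent.H51.FStar
import Cfsg.Agent.H51.PAction
import Cfsg.Agent.H51.Balance
import Cfsg.Agent.H20.Sylow
import Cfsg.Agent.H20.Abelian
import Cfsg.Agent.H19.ActionContra
import Cfsg.Agent.H24.PGroupBasic
import Cfsg.Agent.H32.Subnormal
import Cfsg.Agent.H72.CharP

/-!
The normal closure `Y` of the residual `X` of an isolated `p`-minimal subgroup, in a group with
trivial `p`-core: `Y` is a `t`-group of class at most two equal to `X`, or a product of components
permuted transitively by a Sylow `p`-subgroup.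
-/

set_option linter.style.haveILetI false

namespace Cfsg.Agent.H51

open Subgroup Cfsg
open scoped Pointwise commutatorElement

/-- The image of an isolated `p`-minimal configuration in `G / O_p(G)`: `X` the residual of the
`p`-minimal subgroup, `Y` its normal closure, `L` the complementary overgroup, `R` its `p`-core. -/
structure IsolatedSetting (p : ℕ) {H : Type*} [Group H] (S X R L Y : Subgroup H) : Prop where
  isPGroup : IsPGroup p S
  core : Cfsg.pCore p H = ⊥
  normal : Y.Normal
  X_le : X ≤ Y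
  Y_le : ∀ N : Subgroup H, N.Normal → X ≤ N → Y ≤ N
  S_norm : S ≤ normalizer (X : Set H)
  dich : ∀ U : Subgroup H, S ≤ normalizer (U : Set H) → X ≤ U ∨ U ≤ L
  R_le : R ≤ S
  S_le : S ≤ L
  L_norm : L ≤ normalizer (R : Set H)
  not_central : ¬ R ≤ centralizer (X : Set H)
  sup_eq : Y ⊔ L = ⊤

/-- Subgroups of coprime orders meet trivially. -/
theorem inf_bot_of_coprime {H : Type*} [Group H] {A B : Subgroup H}
    (h : (Nat.card A).Coprime (Nat.card B)) : A ⊓ B = ⊥ :=
  (disjoint_of_coprime_natCard h).eq_bot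

/-- Commutators of products with factors commuting with everything in sight. -/
theorem commutatorElement_mul_central {H : Type*} [Group H] {u v u' v' : H} (h1 : Commute v u')
    (h2 : Commute v v') (h3 : Commute v' u) :
    ⁅u * v, u' * v'⁆ = ⁅u, u'⁆ := by
  simp only [commutatorElement_def, mul_inv_rev]
  have a1 : v * (u' * v') = (u' * v') * v := (h1.mul_right h2).eq
  have a2 : v' * u⁻¹ = u⁻¹ * v' := h3.inv_right.eq
  calc u * v * (u' * v') * (v⁻¹ * u⁻¹) * (v'⁻¹ * u'⁻¹)
      = u * (v * (u' * v')) * v⁻¹ * u⁻¹ * v'⁻¹ * u'⁻¹ := by group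
    _ = u * ((u' * v') * v) * v⁻¹ * u⁻¹ * v'⁻¹ * u'⁻¹ := by rw [a1]
    _ = u * u' * (v' * u⁻¹) * v'⁻¹ * u'⁻¹ := by group
    _ = u * u' * (u⁻¹ * v') * v'⁻¹ * u'⁻¹ := by rw [a2]
    _ = u * u' * u⁻¹ * u'⁻¹ := by group

/-- Two subgroups of coprime index multiply to the whole group. -/
theorem exists_mul_of_coprime_index {K : Type*} [Group K] [Finite K] {D N : Subgroup K}
    (h : Nat.Coprime D.index N.index) (y : K) : ∃ d ∈ D, ∃ n ∈ N, y = d * n := by
  let f : ↥D ⧸ N.subgroupOf D → K ⧸ N := Quotient.map' (fun d : ↥D => (d : K)) fun a b hab => by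
    rw [QuotientGroup.leftRel_apply] at hab ⊢
    exact hab
  have hinj : Function.Injective f := by
    rintro ⟨a⟩ ⟨b⟩ hab
    have h' : (QuotientGroup.mk (a : K) : K ⧸ N) = QuotientGroup.mk (b : K) := hab
    exact QuotientGroup.eq.mpr (mem_subgroupOf.mpr (QuotientGroup.eq.mp h'))
  have hcard : N.index ≤ (N.subgroupOf D).index := by
    have h1 : D.index * N.index ∣ (D ⊓ N).index :=
      h.mul_dvd_of_dvd_of_dvd (index_dvd_of_le inf_le_left) (index_dvd_of_le inf_le_right)
    have h2 := relIndex_mul_index (show D ⊓ N ≤ D from inf_le_left)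
    rw [inf_relIndex_left] at h2
    rw [← h2, mul_comm D.index] at h1
    exact Nat.le_of_dvd (Nat.pos_of_ne_zero index_ne_zero_of_finite)
      (Nat.dvd_of_mul_dvd_mul_right (Nat.pos_of_ne_zero index_ne_zero_of_finite) h1)
  obtain ⟨⟨d⟩, hd⟩ := ((Nat.bijective_iff_injective_and_card f).mpr
    ⟨hinj, le_antisymm (Nat.card_le_card_of_injective f hinj) hcard⟩).2 (y : K ⧸ N)
  exact ⟨d, d.2, (d : K)⁻¹ * y, QuotientGroup.eq.mp hd, by group⟩

namespace IsolatedSetting

variable {p : ℕ} [hp : Fact p.Prime] {H : Type*} [Group H] [Finite H] {S X R L Y : Subgroup H}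
variable (h : IsolatedSetting p S X R L Y)
include h

omit hp [Finite H] in
theorem R_le_L : R ≤ L := h.R_le.trans h.S_le

omit hp [Finite H] in
theorem R_isPGroup : IsPGroup p R := h.isPGroup.to_le h.R_le

omit hp [Finite H] in
/-- An `S`-invariant subnormal subgroup lying in `L` is centralized by `R`. -/
theorem subnormal_le_centralizer {U : Subgroup H} (hU : U.IsSubnormal) (hUL : U ≤ L)
    (hSU : S ≤ normalizer (U : Set H)) : R ≤ centralizer (U : Set H) := by
  have hUR : U ≤ normalizer (R : Set H) := hUL.trans h.L_norm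
  have h1 : ⁅U, R⁆ ≤ U ⊓ R := by
    rw [commutator_le]
    intro u hu r hr
    refine ⟨?_, ?_⟩
    · have := (mem_normalizer_iff.mp (hSU (h.R_le hr)) u⁻¹).mp (inv_mem hu)
      rw [commutatorElement_def, mul_assoc u r, mul_assoc u]
      exact mul_mem hu this
    · show ⁅u, r⁆ ∈ R
      rw [commutatorElement_def]
      exact mul_mem ((mem_normalizer_iff.mp (hUR hu) r).mp hr) (inv_mem hr)
  have hn : ((U ⊓ R).subgroupOf U).Normal :=
    (normal_subgroupOf_iff_le_normalizer inf_le_left).mpr
      (le_trans (le_inf le_normalizer hUR) inf_normalizer_le_normalizer_inf)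
  have hbot : U ⊓ R = ⊥ := le_bot_iff.mp (h.core ▸ H72.le_pCore_of_isSubnormal
    (Subgroup.IsSubnormal.step _ _ inf_le_left hU hn) (h.R_isPGroup.to_le inf_le_right))
  rw [hbot, le_bot_iff, commutator_comm] at h1
  exact commutator_eq_bot_iff_le_centralizer.mp h1

/-- A normal subgroup contains `Y` or centralizes it. -/
theorem normal_dich (N : Subgroup H) [N.Normal] : Y ≤ N ∨ Y ≤ centralizer (N : Set H) := by
  haveI : (centralizer (N : Set H)).Normal := inferInstance
  have hnn : ∀ M : Subgroup H, M.Normal → S ≤ normalizer (M : Set H) := fun M hM => by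
    haveI := hM; exact le_normalizer_of_normal
  rcases h.dich N (hnn N ‹_›) with h1 | h1
  · exact Or.inl (h.Y_le N ‹_› h1)
  have hR := h.subnormal_le_centralizer (Normal.isSubnormal ‹_›) h1 (hnn N ‹_›)
  rcases h.dich _ (hnn (centralizer (N : Set H)) inferInstance) with h2 | h2
  · exact Or.inr (h.Y_le _ inferInstance h2)
  refine absurd ?_ h.not_central
  have hR2 := h.subnormal_le_centralizer (Normal.isSubnormal inferInstance) h2 (hnn _ inferInstance)
  have hn : (R.subgroupOf (centralizer (N : Set H))).Normal :=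
    (normal_subgroupOf_iff_le_normalizer hR).mpr (h2.trans h.L_norm)
  have hbot : R = ⊥ := le_bot_iff.mp (h.core ▸ H72.le_pCore_of_isSubnormal
    (Subgroup.IsSubnormal.step _ _ hR (Normal.isSubnormal inferInstance) hn) h.R_isPGroup)
  rw [hbot]; exact bot_le

omit hp [Finite H] in
/-- `R` does not centralize `Y`. -/
theorem not_centralizes : ¬ R ≤ centralizer (Y : Set H) := fun hR =>
  h.not_central (hR.trans (centralizer_le (SetLike.coe_subset_coe.mpr h.X_le)))

/-- `Y` lies in the generalized Fitting subgroup. -/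
theorem le_fstar : Y ≤ Cfsg.generalizedFittingSubgroup H := by
  haveI := generalizedFittingSubgroup_normal H
  rcases h.normal_dich (Cfsg.generalizedFittingSubgroup H) with h1 | h1
  · exact h1
  · exact h1.trans (centralizer_generalizedFitting_le H)

/-- In the case of order prime to `p`, `Y` is a `q`-group equal to `[Y, R]`. -/
theorem pPrime_case (hpY : ¬ p ∣ Nat.card Y) :
    ∃ q : ℕ, q.Prime ∧ q ≠ p ∧ IsPGroup q Y ∧ ⁅Y, R⁆ = Y := by
  haveI := h.normal
  have hcop : (Nat.card S).Coprime (Nat.card Y) := by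
    obtain ⟨k, hk⟩ := h.isPGroup.exists_card_eq
    rw [hk]
    exact Nat.Coprime.pow_left k (hp.out.coprime_iff_not_dvd.mpr hpY)
  have hsolv : Group.IsSolvable S ∨ Group.IsSolvable Y := by
    haveI := h.isPGroup.isNilpotent; exact Or.inl inferInstance
  have hSY : S ≤ normalizer (Y : Set H) := le_normalizer_of_normal
  have hXne : X ≠ ⊥ := fun e => h.not_central (e ▸ by
    intro r hr; rw [mem_centralizer_iff]; intro x hx
    rw [SetLike.mem_coe, mem_bot] at hx; simp [hx])
  have hsmall : ∀ W : Subgroup H, W ≤ Y → W ≤ L → S ≤ normalizer (W : Set H) →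
      R ≤ centralizer (W : Set H) := by
    intro W hWY hWL hSW
    refine commutator_eq_bot_iff_le_centralizer.mp (le_bot_iff.mp ?_)
    rw [commutator_le]
    intro r hr w hw
    have hY' : ⁅r, w⁆ ∈ Y := by
      rw [commutatorElement_def]
      exact mul_mem (h.normal.conj_mem w (hWY hw) r) (inv_mem (hWY hw))
    have hR' : ⁅r, w⁆ ∈ R := by
      rw [commutatorElement_def, mul_assoc r w, mul_assoc r]
      exact mul_mem hr ((mem_normalizer_iff.mp (hWL.trans h.L_norm hw) r⁻¹).mp (inv_mem hr))
    have : R ⊓ Y = ⊥ := inf_bot_of_coprime (hcop.coprime_dvd_left (card_dvd_of_le h.R_le))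
    exact this ▸ ⟨hR', hY'⟩
  obtain ⟨q, hq, Q, hQ, hXQ⟩ : ∃ q : ℕ, q.Prime ∧ ∃ Q : Sylow q ↥Y,
      S ≤ normalizer (((Q : Subgroup ↥Y).map Y.subtype : Subgroup H) : Set H) ∧
        X ≤ (Q : Subgroup ↥Y).map Y.subtype := by
    by_contra hno
    push Not at hno
    refine h.not_centralizes ?_
    have : (centralizer (R : Set H)).subgroupOf Y = ⊤ := by
      refine eq_top_of_forall_sylow_le _ fun r hr _ => ?_
      haveI := Fact.mk hr
      obtain ⟨W, hW⟩ := H20.exists_invariant_sylow hSY hcop hsolv r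
      refine ⟨W, fun w hw => mem_subgroupOf.mpr ?_⟩
      exact le_centralizer_iff.mp (hsmall _ (map_subtype_le _)
        ((h.dich _ hW).resolve_left (hno r hr W hW)) hW) ⟨w, hw, rfl⟩
    rw [le_centralizer_iff]
    exact subgroupOf_eq_top.mp this
  haveI := Fact.mk hq
  set D := (centralizer (R : Set H)).subgroupOf Y with hD
  set Qm := (Q : Subgroup ↥Y).map Y.subtype with hQm
  have hD' : ∀ r : ℕ, r.Prime → r ≠ q → ¬ r ∣ D.index := by
    intro r hr hrq hdvd
    haveI := Fact.mk hr
    obtain ⟨W, hW⟩ := H20.exists_invariant_sylow hSY hcop hsolv r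
    rcases h.dich _ hW with h1 | h1
    · refine hXne (le_bot_iff.mp ((le_inf hXQ h1).trans (le_of_eq (inf_bot_of_coprime ?_))))
      obtain ⟨i, hi⟩ := (Q.isPGroup'.map Y.subtype).exists_card_eq
      obtain ⟨j, hj⟩ := (W.isPGroup'.map Y.subtype).exists_card_eq
      rw [hi, hj]
      exact ((Nat.coprime_primes hq hr).mpr (Ne.symm hrq)).pow _ _
    · refine W.not_dvd_index (hdvd.trans (index_dvd_of_le fun w hw => mem_subgroupOf.mpr ?_))
      exact le_centralizer_iff.mp (hsmall _ (map_subtype_le _) h1 hW) ⟨w, hw, rfl⟩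
  have hcopI : Nat.Coprime D.index (normalizer ((Q : Subgroup ↥Y) : Set ↥Y)).index := by
    refine Nat.coprime_of_dvd fun r hr h1 h2 => ?_
    obtain rfl : r = q := by_contra fun hne => hD' r hr hne h1
    exact Q.not_dvd_index (h2.trans (index_dvd_of_le le_normalizer))
  -- every Sylow `q`-subgroup of `Y` is normalized by `R`
  have hall : ∀ y : ↥Y, R ≤ normalizer ((Qm.map (MulAut.conj (y : H)).toMonoidHom : Subgroup H) : Set H) := by
    intro y
    obtain ⟨d, hd, n, hn, rfl⟩ := exists_mul_of_coprime_index hcopI y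
    have e : Qm.map (MulAut.conj ((d * n : ↥Y) : H)).toMonoidHom =
        Qm.map (MulAut.conj (d : H)).toMonoidHom := by
      have hn' : (n : H) ∈ normalizer (Qm : Set H) := by
        rw [mem_normalizer_iff]
        intro z
        constructor
        · rintro ⟨w, hw, rfl⟩
          exact ⟨n * w * n⁻¹, (mem_normalizer_iff.mp hn w).mp hw, rfl⟩
        · rintro ⟨w, hw, hwz⟩
          refine ⟨n⁻¹ * w * n, (mem_normalizer_iff''.mp hn w).mp hw, ?_⟩
          have hwz' : (w : H) = n * z * (n : H)⁻¹ := hwz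
          simp [hwz', mul_assoc]
      rw [coe_mul, ← map_conj_map_conj, mem_normalizer_iff_map_conj_eq.mp hn']
    rw [e]
    intro a ha
    rw [mem_normalizer_iff_map_conj_eq, map_conj_map_conj,
      ← (mem_centralizer_iff.mp (mem_subgroupOf.mp hd) a ha).symm, ← map_conj_map_conj,
      mem_normalizer_iff_map_conj_eq.mp (hQ (h.R_le ha))]
  have hMn : (⁅Y, R⁆ : Subgroup H).Normal := by
    rw [← normalizer_eq_top_iff, ← top_le_iff, ← h.sup_eq, sup_le_iff]
    constructor
    · exact normalizer_commutator_ge_left Y R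
    · intro l hl
      have eY : Y.map (MulAut.conj l).toMonoidHom = Y := Normal.map_conj_eq Y l
      rw [mem_normalizer_iff_map_conj_eq, map_commutator]
      exact congrArg₂ (fun A B => ⁅A, B⁆) eY (mem_normalizer_iff_map_conj_eq.mp (h.L_norm hl))
  have hMY : ⁅Y, R⁆ ≤ Y := commutator_le_left Y R
  have hM : ⁅Y, R⁆ = Y := by
    refine le_antisymm hMY ?_
    haveI := hMn
    rcases h.dich _ (le_normalizer_of_normal (H := ⁅Y, R⁆)) with h1 | h1
    · exact h.Y_le _ hMn h1
    refine absurd (H20.le_centralizer_of_commutator_commutator_eq_bot (A := R) (K := Y)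
      le_normalizer_of_normal (hcop.coprime_dvd_left (card_dvd_of_le h.R_le))
      (by haveI := h.R_isPGroup.isNilpotent; exact Or.inl inferInstance) ?_) h.not_centralizes
    rw [commutator_comm]
    exact commutator_eq_bot_iff_le_centralizer.mpr
      (hsmall _ hMY h1 le_normalizer_of_normal)
  have hnormQ : Y ≤ normalizer (Qm : Set H) := by
    rw [← hM, commutator_le]
    intro y hy a ha
    have h2 : y * a * y⁻¹ ∈ normalizer (Qm : Set H) := by
      rw [mem_normalizer_iff_map_conj_eq, ← map_conj_map_conj, ← map_conj_map_conj]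
      have h3 := mem_normalizer_iff_map_conj_eq.mp (hall ⟨y⁻¹, inv_mem hy⟩ ha)
      simp only at h3
      rw [h3, map_conj_map_conj, mul_inv_cancel, map_conj_one]
    have h4 : a ∈ normalizer (Qm : Set H) := hQ (h.R_le ha)
    rw [commutatorElement_def]
    exact mul_mem h2 (inv_mem h4)
  have hQn : (Q : Subgroup ↥Y).Normal := by
    have := (normal_subgroupOf_iff_le_normalizer (map_subtype_le (Q : Subgroup ↥Y))).mpr hnormQ
    rwa [subgroupOf, comap_map_eq_self_of_injective Y.subtype_injective] at this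
  haveI := Q.characteristic_of_normal hQn
  have hYQ : Y ≤ Qm := h.Y_le Qm inferInstance hXQ
  have hYq : IsPGroup q Y := (Q.isPGroup'.map Y.subtype).to_le hYQ
  refine ⟨q, hq, ?_, hYq, hM⟩
  rintro rfl
  obtain ⟨k, hk⟩ := hYq.exists_card_eq
  rcases Nat.eq_zero_or_pos k with rfl | hk0
  · rw [pow_zero] at hk
    exact hXne (le_bot_iff.mp (h.X_le.trans (card_eq_one.mp hk).le))
  · exact hpY (hk ▸ dvd_pow_self _ hk0.ne')

/-- A solvable `Y` is nilpotent of class at most two and of order prime to `p`. -/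
theorem solvable_class_two (hY : Group.IsSolvable Y) :
    ⁅⁅Y, Y⁆, Y⁆ = ⊥ ∧ ¬ p ∣ Nat.card Y := by
  haveI := h.normal
  have h2 : ⁅⁅Y, Y⁆, Y⁆ = ⊥ := by
    rcases h.normal_dich ⁅Y, Y⁆ with h1 | h1
    · have hbot : Y = ⊥ := by
        haveI : Group.IsPerfect Y := Subgroup.isPerfect_iff.mpr
          (le_antisymm (commutator_le_left Y Y) h1)
        by_contra hne
        haveI : Nontrivial Y := nontrivial_iff_ne_bot Y |>.mpr hne
        exact (Group.IsSolvable.commutator_lt_top_of_nontrivial (G := Y)).ne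
          Group.IsPerfect.commutator_eq_top
      rw [hbot]; simp
    · rw [commutator_comm]
      exact commutator_eq_bot_iff_le_centralizer.mpr h1
  refine ⟨h2, fun hdvd => ?_⟩
  haveI := isNilpotent_of_commutator_commutator_eq_bot h2
  exact hp.out.coprime_iff_not_dvd.mp (fittingSubgroup_coprime_of_pCore_eq_bot H h.core).symm
    (hdvd.trans (card_dvd_of_le (le_fittingSubgroup h.normal ‹_›)))

/-- If `Y` has order prime to `p` then `X = Y`. -/
theorem residual_eq (hpY : ¬ p ∣ Nat.card Y) : X = Y := by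
  haveI := h.normal
  obtain ⟨q, hq, hqp, hYq, hM⟩ := h.pPrime_case hpY
  haveI := Fact.mk hq
  set N := (frattini Y).map Y.subtype with hN
  haveI : N.Normal := inferInstance
  set π := QuotientGroup.mk' N with hπ
  have hsurj : Function.Surjective π := QuotientGroup.mk'_surjective N
  have hker : π.ker = N := QuotientGroup.ker_mk' N
  have hNY : N ≤ Y := map_subtype_le _
  set V := Y.map π with hV
  haveI : V.Normal := h.normal.map _ hsurj
  have hel : Cfsg.IsElementaryAbelian q V := by
    refine ⟨⟨⟨?_⟩⟩, ?_⟩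
    · rintro ⟨_, ⟨a, ha, rfl⟩⟩ ⟨_, ⟨b, hb, rfl⟩⟩
      have : (⁅(⟨a, ha⟩ : Y), ⟨b, hb⟩⁆ : Y) ∈ frattini Y :=
        H24.commutator_le_frattini hYq (commutator_mem_commutator (mem_top _) (mem_top _))
      have h1 : π ⁅a, b⁆ = 1 := by
        rw [← MonoidHom.mem_ker, hker]; exact ⟨_, this, rfl⟩
      rw [map_commutatorElement, commutatorElement_eq_one_iff_commute] at h1
      exact Subtype.ext h1.eq
    · rintro _ ⟨a, ha, rfl⟩
      rw [← map_pow, ← MonoidHom.mem_ker, hker]
      exact ⟨_, H24.pow_mem_frattini hYq ⟨a, ha⟩, rfl⟩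
  haveI : IsMulCommutative V := hel.1
  have hUV : X.map π ≤ V := map_mono h.X_le
  obtain ⟨W, hWV, hUW, hUWV⟩ := H19.exists_elementary_complement hel hUV
  have hcop : (Nat.card (S.map π)).Coprime (Nat.card V) := by
    obtain ⟨i, hi⟩ := (h.isPGroup.map π).exists_card_eq
    obtain ⟨j, hj⟩ := (hYq.map π).exists_card_eq
    rw [hi, hj]
    exact ((Nat.coprime_primes hp.out hq).mpr (Ne.symm hqp)).pow _ _
  obtain ⟨W', hW'V, hSW', hUW', hUW'V⟩ := H20.exists_invariant_complement le_normalizer_of_normal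
    hcop hUV ((map_mono h.S_norm).trans (le_normalizer_map π)) hWV hUW hUWV
  set U := Y ⊓ W'.comap π with hU
  have hSU : S ≤ normalizer (U : Set H) := by
    refine le_trans (le_inf le_normalizer_of_normal ?_) inf_normalizer_le_normalizer_inf
    rw [← comap_normalizer_eq_of_surjective _ hsurj]
    exact map_le_iff_le_comap.mp hSW'
  have hne : ¬ X ≤ N := by
    intro hXN
    have h1 : frattini Y = ⊤ := by
      refine eq_top_iff.mpr fun y _ => ?_
      obtain ⟨z, hz, hzy⟩ := h.Y_le N inferInstance hXN y.2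
      rwa [← Subtype.ext hzy]
    have h3 : (⊥ : Subgroup Y) = ⊤ := frattini_nongenerating (by rw [h1, bot_sup_eq])
    refine h.not_central (fun r _ => ?_)
    rw [mem_centralizer_iff]
    intro x hx
    have : (⟨x, h.X_le hx⟩ : Y) ∈ (⊥ : Subgroup Y) := h3 ▸ mem_top _
    rw [mem_bot] at this
    have hx1 : x = 1 := congrArg Subtype.val this
    simp [hx1]
  rcases h.dich U hSU with h1 | h1
  · refine absurd ?_ hne
    have : X.map π ≤ X.map π ⊓ W' :=
      le_inf le_rfl (map_le_iff_le_comap.mpr (h1.trans inf_le_right))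
    rw [hUW', le_bot_iff, Subgroup.map_eq_bot_iff, hker] at this
    exact this
  have hRU : R ≤ centralizer (U : Set H) := by
    refine commutator_eq_bot_iff_le_centralizer.mp (le_bot_iff.mp ?_)
    have : R ⊓ Y = ⊥ := by
      refine inf_bot_of_coprime ?_
      obtain ⟨i, hi⟩ := h.R_isPGroup.exists_card_eq
      rw [hi]
      exact Nat.Coprime.pow_left i (hp.out.coprime_iff_not_dvd.mpr hpY)
    rw [commutator_le]
    intro r hr u hu
    refine this ▸ ⟨?_, ?_⟩
    · rw [commutatorElement_def, mul_assoc r u, mul_assoc r]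
      exact mul_mem hr ((mem_normalizer_iff.mp (h1.trans h.L_norm hu) r⁻¹).mp (inv_mem hr))
    · rw [commutatorElement_def]
      have hu' : u ∈ Y := hu.1
      show r * u * r⁻¹ * u⁻¹ ∈ Y
      exact mul_mem (h.normal.conj_mem u hu' r) (inv_mem hu')
  have hYX : Y ≤ (X.map π).comap π := by
    rw [← hM, commutator_le]
    intro y hy a ha
    have hVeq : π y ∈ X.map π ⊔ W' := hUW'V.symm ▸ mem_map_of_mem π hy
    have hnorm : X.map π ≤ normalizer (W' : Set (H ⧸ N)) := by
      refine H20.le_normalizer_of_le_centralizer fun z hz => mem_centralizer_iff.mpr fun w hw => ?_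
      exact congrArg Subtype.val (hel.1.is_comm.comm ⟨w, hW'V hw⟩ ⟨z, hUV hz⟩)
    rw [← SetLike.mem_coe, coe_mul_of_left_le_normalizer_right _ _ hnorm] at hVeq
    obtain ⟨_, ⟨x, hx, rfl⟩, w, hw, hxw⟩ := hVeq
    have hu : x⁻¹ * y ∈ U := by
      refine ⟨(mul_mem (inv_mem (h.X_le hx)) hy : x⁻¹ * y ∈ Y), ?_⟩
      show π (x⁻¹ * y) ∈ W'
      rw [map_mul, map_inv, ← hxw, inv_mul_cancel_left]
      exact hw
    have hc : Commute (x⁻¹ * y) a := mem_centralizer_iff.mp (hRU ha) _ hu
    have he : ⁅y, a⁆ = ⁅x, a⁆ := by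
      have e1 : y = x * (x⁻¹ * y) := by group
      generalize x⁻¹ * y = v at hc e1
      subst e1
      rw [commutatorElement_def, commutatorElement_def, mul_inv_rev, mul_assoc x v a, hc.eq]
      group
    rw [mem_comap, he]
    refine mem_map_of_mem π ?_
    rw [commutatorElement_def, mul_assoc x a, mul_assoc x]
    exact mul_mem hx ((mem_normalizer_iff.mp (h.S_norm (h.R_le ha)) x⁻¹).mp (inv_mem hx))
  rw [comap_map_eq, hker] at hYX
  refine le_antisymm h.X_le fun y hy => ?_
  have h2 : X.subgroupOf Y ⊔ frattini Y = ⊤ := by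
    refine map_injective Y.subtype_injective ?_
    rw [Subgroup.map_sup, subgroupOf_map_subtype, inf_eq_left.mpr h.X_le,
      ← MonoidHom.range_eq_map, range_subtype]
    exact le_antisymm (sup_le h.X_le hNY) hYX
  have := frattini_nongenerating h2
  exact subgroupOf_eq_top.mp this hy

/-- A non-solvable `Y` has order divisible by `p` and is perfect. -/
theorem perfect_of_not_solvable (hY : ¬ Group.IsSolvable Y) : ⁅Y, Y⁆ = Y ∧ p ∣ Nat.card Y := by
  haveI := h.normal
  refine ⟨le_antisymm (commutator_le_left Y Y) ?_, by_contra fun hd => hY ?_⟩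
  · refine (h.normal_dich ⁅Y, Y⁆).resolve_right fun h1 => hY ?_
    haveI := isNilpotent_of_commutator_commutator_eq_bot (X := Y) (by
      rw [commutator_comm]
      exact commutator_eq_bot_iff_le_centralizer.mpr h1)
    infer_instance
  · obtain ⟨q, hq, -, hYq, -⟩ := h.pPrime_case hd
    haveI := Fact.mk hq
    haveI := hYq.isNilpotent
    infer_instance

/-- A non-solvable `Y` is the join of the components it contains. -/
theorem eq_sSup_components (hY : ¬ Group.IsSolvable Y) :
    Y = sSup {K : Subgroup H | Cfsg.IsComponent K ∧ K ≤ Y} := by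
  haveI := h.normal
  haveI := layer_normal H
  haveI := fittingSubgroup_normal H
  have hsolvF : ¬ Y ≤ Cfsg.fittingSubgroup H := by
    intro hYF
    haveI := fittingSubgroup_isSolvable H
    exact hY (Group.isSolvable_of_isSolvable_injective (Subgroup.inclusion_injective hYF))
  have hYF : Y ≤ centralizer (Cfsg.fittingSubgroup H : Set H) :=
    (h.normal_dich _).resolve_left hsolvF
  have hYE : Y ≤ Cfsg.layer H := by
    refine (h.normal_dich _).resolve_right fun h1 => hsolvF ?_
    refine le_trans ?_ (centralizer_generalizedFitting_le_fitting H)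
    rw [le_centralizer_iff]
    exact sup_le (le_centralizer_iff.mp h1) (le_centralizer_iff.mp hYF)
  set U := sSup {K : Subgroup H | Cfsg.IsComponent K ∧ K ≤ Y} with hU
  set V := sSup {K : Subgroup H | Cfsg.IsComponent K ∧ ¬ K ≤ Y} with hV
  have hUY : U ≤ Y := sSup_le fun K hK => hK.2
  have hVY : V ≤ centralizer (Y : Set H) := sSup_le fun K hK =>
    commutator_eq_bot_iff_le_centralizer.mp
      ((component_le_or_commute_of_normal hK.1 h.normal).resolve_left hK.2)
  have hE : Cfsg.layer H ≤ U ⊔ V := sSup_le fun K hK => by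
    by_cases hKY : K ≤ Y
    · exact le_sup_of_le_left (le_sSup ⟨hK, hKY⟩)
    · exact le_sup_of_le_right (le_sSup ⟨hK, hKY⟩)
  refine le_antisymm ?_ hUY
  rw [← (h.perfect_of_not_solvable hY).1, commutator_le]
  intro a ha b hb
  have hnorm : V ≤ normalizer (U : Set H) :=
    (hVY.trans (centralizer_le (SetLike.coe_subset_coe.mpr hUY))).trans (centralizer_le_normalizer _)
  have hmem : ∀ z ∈ Y, ∃ u ∈ U, ∃ v ∈ Y, z = u * v ∧ v ∈ centralizer (Y : Set H) := by
    intro z hz
    have h1 : z ∈ U ⊔ V := hE (hYE hz)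
    rw [← SetLike.mem_coe, coe_mul_of_right_le_normalizer_left _ _ hnorm] at h1
    obtain ⟨u, hu, v, hv, rfl⟩ := h1
    exact ⟨u, hu, v, by simpa using mul_mem (inv_mem (hUY hu)) hz, rfl, hVY hv⟩
  obtain ⟨u, hu, v, hv, rfl, hvc⟩ := hmem a ha
  obtain ⟨u', hu', v', hv', rfl, hvc'⟩ := hmem b hb
  have hcomm : ∀ {x z : H}, z ∈ centralizer (Y : Set H) → x ∈ Y → Commute z x :=
    fun hz hx => (mem_centralizer_iff.mp hz _ hx).symm
  rw [commutatorElement_mul_central (hcomm hvc (hUY hu')) (hcomm hvc hv') (hcomm hvc' (hUY hu))]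
  rw [commutatorElement_def]
  exact mul_mem (mul_mem (mul_mem hu hu') (inv_mem hu)) (inv_mem hu')

/-- `S` permutes the components in a non-solvable `Y` transitively. -/
theorem components_transitive (hY : ¬ Group.IsSolvable Y) {K₁ K₂ : Subgroup H}
    (hK₁ : Cfsg.IsComponent K₁) (h₁ : K₁ ≤ Y) (hK₂ : Cfsg.IsComponent K₂) (h₂ : K₂ ≤ Y) :
    ∃ s ∈ S, K₂ = K₁.map (MulAut.conj s).toMonoidHom := by
  haveI := h.normal
  have hYmap : ∀ (K : Subgroup H) (g : H), K ≤ Y → K.map (MulAut.conj g).toMonoidHom ≤ Y := by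
    intro K g hK
    exact (map_mono hK).trans (Normal.map_conj_eq Y g).le
  set O : Subgroup H → Set (Subgroup H) := fun K =>
    {K' | ∃ s ∈ S, K' = K.map (MulAut.conj s).toMonoidHom} with hO
  have hOcomp : ∀ K, Cfsg.IsComponent K → ∀ K' ∈ O K, Cfsg.IsComponent K' := by
    rintro K hK _ ⟨s, -, rfl⟩
    exact component_map_conj hK s
  have hOself : ∀ K, K ∈ O K := fun K => ⟨1, S.one_mem, (map_conj_one K).symm⟩
  have hOnorm : ∀ K, S ≤ normalizer ((sSup (O K) : Subgroup H) : Set H) := by
    intro K t ht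
    refine mem_normalizer_sSup_of_forall ?_
    rintro _ ⟨s, hs, rfl⟩
    exact ⟨t * s, mul_mem ht hs, by rw [map_conj_map_conj]⟩
  -- no component in `Y` is centralized by `R`
  set T := {K : Subgroup H | Cfsg.IsComponent K ∧ K ≤ Y ∧ R ≤ centralizer (K : Set H)} with hT
  have hTL : L ≤ normalizer ((sSup T : Subgroup H) : Set H) := by
    intro l hl
    refine mem_normalizer_sSup_of_forall ?_
    rintro K ⟨hK, hKY, hKR⟩
    refine ⟨component_map_conj hK l, hYmap K l hKY, ?_⟩
    have h1 := map_mono (f := (MulAut.conj l).toMonoidHom) (le_centralizer_iff.mp hKR)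
    refine le_centralizer_iff.mp (h1.trans ?_)
    rintro _ ⟨z, hz, rfl⟩
    rw [mem_centralizer_iff]
    intro r hr
    have hr' : l⁻¹ * r * l ∈ R := (mem_normalizer_iff''.mp (h.L_norm hl) r).mp hr
    have h3 : (l⁻¹ * r * l) * z = z * (l⁻¹ * r * l) := mem_centralizer_iff.mp hz _ hr'
    show r * (l * z * l⁻¹) = l * z * l⁻¹ * r
    calc r * (l * z * l⁻¹) = l * ((l⁻¹ * r * l) * z) * l⁻¹ := by group
      _ = l * (z * (l⁻¹ * r * l)) * l⁻¹ := by rw [h3]
      _ = l * z * l⁻¹ * r := by group
  have hTY : Y ≤ normalizer ((sSup T : Subgroup H) : Set H) := by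
    intro y hy
    refine mem_normalizer_sSup_of_forall fun K hK => ?_
    have hyE : y ∈ normalizer (K : Set H) := by
      have hle : Y ≤ Cfsg.layer H := by
        rw [h.eq_sSup_components hY]; exact sSup_le fun K hK => component_le_layer hK.1
      exact layer_le_normalizer_component hK.1 (hle hy)
    rw [mem_normalizer_iff_map_conj_eq.mp hyE]
    exact hK
  have hTn : (sSup T : Subgroup H).Normal := by
    rw [← normalizer_eq_top_iff, ← top_le_iff, ← h.sup_eq]
    exact sup_le hTY hTL
  have hT0 : ∀ K, Cfsg.IsComponent K → K ≤ Y → ¬ R ≤ centralizer (K : Set H) := by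
    intro K hK hKY hKR
    haveI := hTn
    rcases h.normal_dich (sSup T) with h3 | h3
    · refine h.not_centralizes (le_centralizer_iff.mpr (h3.trans ?_))
      exact sSup_le fun K' hK' => le_centralizer_iff.mp hK'.2.2
    · refine quasisimple_commutator_ne_bot hK.2 (commutator_eq_bot_iff_le_centralizer.mpr ?_)
      exact hKY.trans (h3.trans (centralizer_le (SetLike.coe_subset_coe.mpr (le_sSup ⟨hK, hKY, hKR⟩))))
  have hX : ∀ K, Cfsg.IsComponent K → K ≤ Y → X ≤ sSup (O K) := by
    intro K hK hKY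
    refine (h.dich _ (hOnorm K)).resolve_right fun hUL => hT0 K hK hKY ?_
    refine (h.subnormal_le_centralizer (H32.isSubnormal_sSup _ fun K' hK' => (hOcomp K hK K' hK').1)
      hUL (hOnorm K)).trans (centralizer_le (SetLike.coe_subset_coe.mpr (le_sSup (hOself K))))
  by_contra hno
  push Not at hno
  have hdisj : ∀ K ∈ O K₁, K ∉ O K₂ := by
    rintro _ ⟨s, hs, rfl⟩ ⟨t, ht, hst⟩
    refine hno (t⁻¹ * s) (mul_mem (inv_mem ht) hs) ?_
    rw [← map_conj_map_conj, hst, map_conj_map_conj, inv_mul_cancel, map_conj_one]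
  have hXY : Y ≤ centralizer (X : Set H) := by
    rw [h.eq_sSup_components hY]
    refine sSup_le fun K hK => ?_
    have hor : ∃ J : Subgroup H, Cfsg.IsComponent J ∧ J ≤ Y ∧ K ∉ O J := by
      by_cases hk : K ∈ O K₁
      · exact ⟨K₂, hK₂, h₂, hdisj K hk⟩
      · exact ⟨K₁, hK₁, h₁, hk⟩
    obtain ⟨J, hJ, hJY, hKJ⟩ := hor
    refine le_trans ?_ (centralizer_le (SetLike.coe_subset_coe.mpr (hX J hJ hJY)))
    refine commutator_eq_bot_iff_le_centralizer.mp (commutator_sSup_right_eq_bot fun K' hK' => ?_)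
    exact (component_eq_or_commute hK.1 (hOcomp J hJ K' hK')).resolve_left fun e => hKJ (e ▸ hK')
  have hXc : X ≤ centralizer (Y : Set H) := le_centralizer_iff.mp hXY
  have hYc : Y ≤ centralizer (Y : Set H) := h.Y_le _ inferInstance hXc
  refine quasisimple_commutator_ne_bot hK₁.2 (commutator_eq_bot_iff_le_centralizer.mpr ?_)
  exact h₁.trans (hYc.trans (centralizer_le (SetLike.coe_subset_coe.mpr h₁)))

end IsolatedSetting

end Cfsg.Agent.H51
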