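import Mathlib
import Cfsg.Prelude.Def_LocalEven

/-!
A subgroup containing a Sylow `p`-subgroup `S` is generated by its part of `N_G(S)` and its
`p`-minimal subgroups containing `S`.
-/

namespace Cfsg.Agent.H51

open Subgroup
open scoped Pointwise

variable {p : ℕ} [Fact p.Prime]

/-- `p`-minimality may be tested on one Sylow subgroup. -/
theorem isPMinimal_of_sylow {H : Type*} [Group H] [Finite H] (T : Sylow p H)
    (h1 : ¬ (T : Subgroup H).Normal)
    (h2 : ∀ M₁ M₂ : Subgroup H, IsCoatom M₁ → IsCoatom M₂ → (T : Subgroup H) ≤ M₁ →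
      (T : Subgroup H) ≤ M₂ → M₁ = M₂) : Cfsg.IsPMinimal p H := by
  intro S
  obtain ⟨g, hg⟩ := MulAction.exists_smul_eq H S T
  have hmap : (S : Subgroup H).map (MulAut.conj g).toMonoidHom = (T : Subgroup H) := by
    rw [← hg]; rfl
  have hSn : ¬ (S : Subgroup H).Normal := by
    intro hS
    rw [← hmap] at h1
    exact h1 (hS.map _ (MulAut.conj g).surjective)
  refine ⟨hSn, ?_⟩
  have hS1 : (S : Subgroup H) ≠ ⊤ := fun h => hSn (h ▸ inferInstance)
  obtain ⟨M, hM, hle⟩ := (eq_top_or_exists_le_coatom (S : Subgroup H)).resolve_left hS1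
  refine ⟨M, ⟨hM, hle⟩, fun M' hM' => ?_⟩
  have key : ∀ N : Subgroup H, IsCoatom N → IsCoatom (N.map (MulAut.conj g).toMonoidHom) :=
    fun N hN => ((MulAut.conj g).mapSubgroup.isCoatom_iff N).2 hN
  exact Subgroup.map_injective (MulAut.conj g).injective
    (h2 _ _ (key M' hM'.1) (key M hM) (hmap.ge.trans (map_mono hM'.2))
      (hmap.ge.trans (map_mono hle)))

variable {G : Type*} [Group G] [Finite G]

/-- A subgroup `H ≥ S` lies in every subgroup containing `N_H(S)` and all `p`-minimal subgroups of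
`H` containing `S`. -/
theorem le_of_pmin_le (S : Sylow p G) (K : Subgroup G) :
    ∀ H : Subgroup G, (S : Subgroup G) ≤ H →
      (∀ P' : Subgroup G, (S : Subgroup G) ≤ P' → P' ≤ H → Cfsg.IsPMinimal p ↥P' → P' ≤ K) →
      H ⊓ normalizer ((S : Subgroup G) : Set G) ≤ K → H ≤ K := by
  intro H
  induction hn : Nat.card H using Nat.strong_induction_on generalizing H with
  | _ n ih =>
    intro hSH hmin hN
    let T : Sylow p H := S.subtype hSH
    have hT : (T : Subgroup H) = (S : Subgroup G).subgroupOf H := rfl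
    by_cases hTn : (T : Subgroup H).Normal
    · rw [hT] at hTn
      exact le_trans (le_inf le_rfl ((normal_subgroupOf_iff_le_normalizer hSH).mp hTn)) hN
    by_cases hu : ∀ M₁ M₂ : Subgroup H, IsCoatom M₁ → IsCoatom M₂ → (T : Subgroup H) ≤ M₁ →
        (T : Subgroup H) ≤ M₂ → M₁ = M₂
    · exact hmin H hSH le_rfl (isPMinimal_of_sylow T hTn hu)
    push Not at hu
    obtain ⟨M₁, M₂, hM₁, hM₂, h1, h2, hne⟩ := hu
    have key : ∀ M : Subgroup H, IsCoatom M → (T : Subgroup H) ≤ M → M.map H.subtype ≤ K := by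
      intro M hM hTM
      have hle : M.map H.subtype ≤ H := map_subtype_le M
      have hne' : M.map H.subtype ≠ H := by
        intro h
        refine hM.1 (map_injective H.subtype_injective ?_)
        rw [h, ← MonoidHom.range_eq_map, range_subtype]
      refine ih _ ?_ _ rfl ?_ (fun P' hS' hP' => hmin P' hS' (hP'.trans hle))
        (le_trans (inf_le_inf_right _ hle) hN)
      · rw [← hn]
        exact lt_of_le_of_ne (Subgroup.card_le_of_le hle)
          fun h => hne' (eq_of_le_of_card_ge hle h.ge)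
      · intro x hx
        exact ⟨⟨x, hSH hx⟩, hTM (by rw [hT]; exact hx), rfl⟩
    calc H = (⊤ : Subgroup H).map H.subtype := by rw [← MonoidHom.range_eq_map, range_subtype]
      _ = M₁.map H.subtype ⊔ M₂.map H.subtype := by
        rw [← Subgroup.map_sup, hM₁.sup_eq_top_of_ne hM₂ hne]
      _ ≤ K := sup_le (key M₁ hM₁ h1) (key M₂ hM₂ h2)

end Cfsg.Agent.H51
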