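import Mathlib
import Cfsg.Prelude.Def_LocalEven
import Cfsg.Agent.H51.PMinGeneration
import Cfsg.Agent.H51.IsolatedSetting
import Cfsg.Agent.H19.Cores
import Cfsg.Agent.H22.PResidual
import Cfsg.Agent.H74.CharP
import Cfsg.Agent.H74.Isolated

/-!
An isolated `p`-minimal subgroup: passage to `G / O_p(G)`.
-/

set_option linter.style.haveILetI false
set_option linter.unusedSectionVars false

namespace Cfsg.Agent.H51

open Subgroup Cfsg
open scoped Pointwise commutatorElement

variable {p : ℕ} [hp : Fact p.Prime] {G : Type*} [Group G] [Finite G]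

omit hp [Finite G] in
/-- An element of order prime to `p` of `A S`, `S` a `p`-group normalizing `A`, lies in `A`. -/
theorem mem_of_coprime_mem_sup_pgroup {A S : Subgroup G} (hS : S ≤ normalizer (A : Set G))
    (hSp : IsPGroup p S) {x : G} (hx : x ∈ A ⊔ S) (hc : (orderOf x).Coprime p) : x ∈ A := by
  haveI : (A.subgroupOf (A ⊔ S)).Normal :=
    (normal_subgroupOf_iff_le_normalizer le_sup_left).mpr (sup_le le_normalizer hS)
  have hx' : x ∈ (A : Set G) * (S : Set G) := by
    rw [← coe_mul_of_right_le_normalizer_left _ _ hS]; exact hx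
  obtain ⟨a, ha, s, hs, has⟩ := hx'
  set q := QuotientGroup.mk' (A.subgroupOf (A ⊔ S)) with hq
  obtain ⟨k, hk⟩ := hSp ⟨s, hs⟩
  have hsk : (⟨s, mem_sup_right hs⟩ : ↥(A ⊔ S)) ^ p ^ k = 1 :=
    Subtype.ext (by have := congrArg Subtype.val hk; simpa using this)
  have e : q ⟨x, hx⟩ = q ⟨s, mem_sup_right hs⟩ := by
    rw [show (⟨x, hx⟩ : ↥(A ⊔ S)) = ⟨a, mem_sup_left ha⟩ * ⟨s, mem_sup_right hs⟩ from
      Subtype.ext has.symm, map_mul,
      show q ⟨a, mem_sup_left ha⟩ = 1 from (QuotientGroup.eq_one_iff _).mpr (mem_subgroupOf.mpr ha),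
      one_mul]
  have h1 : orderOf (q ⟨x, hx⟩) ∣ p ^ k :=
    orderOf_dvd_of_pow_eq_one (by rw [e, ← map_pow, hsk, map_one])
  have h2 : orderOf (q ⟨x, hx⟩) ∣ orderOf x :=
    (orderOf_map_dvd q _).trans (by rw [← Subgroup.orderOf_coe])
  have h3 := orderOf_eq_one_iff.mp (Nat.eq_one_of_dvd_coprimes (hc.pow_right k) h2 h1)
  exact mem_subgroupOf.mp ((QuotientGroup.eq_one_iff _).mp h3)

variable {S : Sylow p G} {P L : Subgroup G}

/-- The hypotheses on an isolated `p`-minimal subgroup. -/
structure IsIsolatedPMin (S : Sylow p G) (P L : Subgroup G) : Prop where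
  le : (S : Subgroup G) ≤ P
  pmin : Cfsg.IsPMinimal p ↥P
  eq_L : L = Subgroup.normalizer ((S : Subgroup G) : Set G) ⊔ ⨆ P' : {P' : Subgroup G //
    (S : Subgroup G) ≤ P' ∧ Cfsg.IsPMinimal p ↥P' ∧ P' ≠ P}, (P' : Subgroup G)
  isolated : ¬ (Cfsg.pCore p ↥L).map L.subtype ≤ (Cfsg.pCore p ↥P).map P.subtype

namespace IsIsolatedPMin

variable (h : IsIsolatedPMin S P L)
include h

theorem sylow_le_L : (S : Subgroup G) ≤ L := by
  rw [h.eq_L]; exact le_sup_of_le_left le_normalizer

theorem overgroup {H : Subgroup G} (hSH : (S : Subgroup G) ≤ H) : P ≤ H ∨ H ≤ L := by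
  by_cases hPH : P ≤ H
  · exact Or.inl hPH
  refine Or.inr (le_of_pmin_le S L H hSH (fun P' hS' hP' hm => ?_) ?_)
  · rw [h.eq_L]
    exact le_sup_of_le_right (le_iSup_of_le ⟨P', hS', hm, fun e => hPH (e ▸ hP')⟩ le_rfl)
  · rw [h.eq_L]
    exact le_sup_of_le_left inf_le_right

theorem sup_eq : P ⊔ L = ⊤ := by
  refine top_le_iff.mp (le_of_pmin_le S (P ⊔ L) ⊤ le_top (fun P' hS' _ hm => ?_) ?_)
  · by_cases e : P' = P
    · exact e ▸ le_sup_left
    · refine le_sup_of_le_right ?_
      rw [h.eq_L]
      exact le_sup_of_le_right (le_iSup_of_le ⟨P', hS', hm, e⟩ le_rfl)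
  · refine le_sup_of_le_right ?_
    rw [h.eq_L]
    exact le_sup_of_le_left inf_le_right

theorem residual_sup_sylow : (pResidual p ↥P).map P.subtype ⊔ (S : Subgroup G) = P := by
  have h1 := congrArg (map P.subtype) (H22.pResidual_sup_sylow (S.subtype h.le))
  rw [Subgroup.map_sup, ← MonoidHom.range_eq_map, range_subtype] at h1
  rw [show ((S.subtype h.le : Sylow p P) : Subgroup P) = (S : Subgroup G).subgroupOf P from rfl,
    map_subgroupOf_eq_of_le h.le] at h1
  exact h1

theorem closure_sup_eq {Y : Subgroup G}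
    (hY : Y = Subgroup.normalClosure (((pResidual p ↥P).map P.subtype : Subgroup G) : Set G)) :
    Y ⊔ L = ⊤ := by
  refine top_le_iff.mp (h.sup_eq.ge.trans (sup_le ?_ le_sup_right))
  calc P = (pResidual p ↥P).map P.subtype ⊔ (S : Subgroup G) := h.residual_sup_sylow.symm
    _ ≤ Y ⊔ L := sup_le_sup (hY.ge.trans' le_normalClosure) h.sylow_le_L

theorem pCore_L_le : pCoreOf p L ≤ (S : Subgroup G) := by
  have h1 := map_mono (f := L.subtype) (H74.pCore_le_sylow (S.subtype h.sylow_le_L))
  rwa [show ((S.subtype h.sylow_le_L : Sylow p L) : Subgroup L) = (S : Subgroup G).subgroupOf L from rfl,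
    map_subgroupOf_eq_of_le h.sylow_le_L] at h1

theorem pCore_le_pCore_L : pCore p G ≤ pCoreOf p L := by
  haveI := pCore_normal p G
  exact H74.le_pCoreOf ((H74.pCore_le_sylow S).trans h.sylow_le_L) le_normalizer_of_normal
    (pCore_isPGroup p G)

/-- The configuration in `G / O_p(G)`. -/
theorem setting {Y : Subgroup G}
    (hY : Y = Subgroup.normalClosure (((pResidual p ↥P).map P.subtype : Subgroup G) : Set G))
    [hn : (pCore p G).Normal] :
    IsolatedSetting p ((S : Subgroup G).map (QuotientGroup.mk' (pCore p G)))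
      (((pResidual p ↥P).map P.subtype).map (QuotientGroup.mk' (pCore p G)))
      ((pCoreOf p L).map (QuotientGroup.mk' (pCore p G)))
      (L.map (QuotientGroup.mk' (pCore p G))) (Y.map (QuotientGroup.mk' (pCore p G))) := by
  set π := QuotientGroup.mk' (pCore p G) with hπ
  have hsurj : Function.Surjective π := QuotientGroup.mk'_surjective _
  have hker : π.ker = pCore p G := QuotientGroup.ker_mk' _
  set X := (pResidual p ↥P).map P.subtype with hX
  have hYn : Y.Normal := hY ▸ normalClosure_normal
  refine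
    { isPGroup := S.isPGroup'.map π
      core := H19.pCore_quotient_pCore p
      normal := hYn.map π hsurj
      X_le := map_mono (hY.ge.trans' le_normalClosure)
      Y_le := fun N hN hXN => ?_
      S_norm := (map_mono ((h.le.trans le_normalizer).trans
        (H72.normalizer_le_normalizer_pResidual P))).trans (le_normalizer_map π)
      dich := fun U hU => ?_
      R_le := map_mono h.pCore_L_le
      S_le := map_mono h.sylow_le_L
      L_norm := (map_mono (H74.le_normalizer_pCoreOf L)).trans (le_normalizer_map π)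
      not_central := fun hc => h.isolated ?_
      sup_eq := by rw [← Subgroup.map_sup, h.closure_sup_eq hY, Subgroup.map_top_of_surjective π hsurj] }
  · haveI := hN
    rw [map_le_iff_le_comap, hY]
    exact normalClosure_le_normal (map_le_iff_le_comap.mp hXN)
  · have hSU : (S : Subgroup G) ≤ normalizer ((U.comap π : Subgroup G) : Set G) := by
      rw [← comap_normalizer_eq_of_surjective _ hsurj]
      exact map_le_iff_le_comap.mp hU
    rcases h.overgroup (H := U.comap π ⊔ (S : Subgroup G)) le_sup_right with h1 | h1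
    · refine Or.inl (map_le_iff_le_comap.mpr ?_)
      rw [hX, H72.pResidual_map_eq, closure_le]
      rintro x ⟨hx, hc⟩
      exact mem_of_coprime_mem_sup_pgroup hSU S.isPGroup' (h1 hx) hc
    · refine Or.inr ?_
      rw [← map_comap_eq_self_of_surjective hsurj U]
      exact map_mono (le_sup_left.trans h1)
  · have hRS := h.pCore_L_le
    have hXR : X ≤ normalizer (pCoreOf p L : Set G) := by
      refine fun x hx => H74.mem_normalizer_of_conj_mem fun r hr => ?_
      have h1 := mem_centralizer_iff.mp (hc (mem_map_of_mem π hr)) _ (mem_map_of_mem π hx)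
      have h2 : x * r * x⁻¹ * r⁻¹ ∈ pCore p G := by
        rw [← hker, MonoidHom.mem_ker, map_mul, map_mul, map_mul, h1, map_inv, map_inv]
        group
      have := mul_mem (h.pCore_le_pCore_L h2) hr
      rwa [inv_mul_cancel_right] at this
    exact H74.le_pCoreOf (hRS.trans h.le) (h.residual_sup_sylow.ge.trans (sup_le hXR
      (h.sylow_le_L.trans (H74.le_normalizer_pCoreOf L)))) (H74.pCoreOf_isPGroup L)

/-- If `X` covers `Y` modulo `O_p(G)` then `X = Y`. -/
theorem residual_eq_closure {Y : Subgroup G}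
    (hY : Y = Subgroup.normalClosure (((pResidual p ↥P).map P.subtype : Subgroup G) : Set G))
    [hn : (pCore p G).Normal]
    (he : ((pResidual p ↥P).map P.subtype).map (QuotientGroup.mk' (pCore p G)) =
      Y.map (QuotientGroup.mk' (pCore p G))) :
    (pResidual p ↥P).map P.subtype = Y := by
  set π := QuotientGroup.mk' (pCore p G) with hπ
  set X := (pResidual p ↥P).map P.subtype with hX
  have hXY : X ≤ Y := hY.ge.trans' le_normalClosure
  have hYP : Y ≤ P := by
    refine (le_comap_map π Y).trans ?_
    rw [← he, comap_map_eq, hπ, QuotientGroup.ker_mk']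
    exact sup_le (map_subtype_le _) ((H74.pCore_le_sylow S).trans h.le)
  have hYn : Y.Normal := hY ▸ normalClosure_normal
  have hXn : X.Normal := by
    refine ⟨fun x hx g => ?_⟩
    have hle : X ≤ X.comap (MulAut.conj g).toMonoidHom := by
      have e : X = closure {x : G | x ∈ P ∧ (orderOf x).Coprime p} := by
        rw [hX, H72.pResidual_map_eq]
      conv_lhs => rw [e]
      rw [closure_le]
      rintro y ⟨hy, hc⟩
      refine H72.mem_pResidual_map (hYP (hYn.conj_mem y (hXY ?_) g)) ?_
      · exact H72.mem_pResidual_map hy hc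
      · rw [MulEquiv.coe_toMonoidHom, MulEquiv.orderOf_eq]
        exact hc
    exact hle hx
  refine le_antisymm hXY ?_
  rw [hY]
  exact normalClosure_le_normal le_rfl

end IsIsolatedPMin

/-- The quotient of a normal subgroup by its `p`-core is its image modulo `O_p(G)`. -/
theorem exists_quotient_pCore_equiv (Y : Subgroup G) [Y.Normal] [hn : (pCore p G).Normal]
    [(pCore p ↥Y).Normal] :
    ∃ e : ↥Y ⧸ pCore p ↥Y ≃* ↥(Y.map (QuotientGroup.mk' (pCore p G))),
      ∀ y : ↥Y, ((e (QuotientGroup.mk' (pCore p ↥Y) y) : G ⧸ pCore p G)) =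
        QuotientGroup.mk' (pCore p G) y := by
  set π := QuotientGroup.mk' (pCore p G) with hπ
  have hker : (π.subgroupMap Y).ker = pCore p ↥Y := by
    refine le_antisymm ?_ ?_
    · refine le_pCore inferInstance ?_
      refine (pCore_isPGroup p G).of_injective
        ((Y.subtype.comp (π.subgroupMap Y).ker.subtype).codRestrict (pCore p G) ?_) ?_
      · intro y
        have := congrArg Subtype.val (MonoidHom.mem_ker.mp y.2)
        exact (QuotientGroup.eq_one_iff _).mp this
      · intro a b hab
        exact Subtype.ext (Subtype.ext (congrArg (Subtype.val : ↥(pCore p G) → G) hab))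
    · intro y hy
      refine MonoidHom.mem_ker.mpr (Subtype.ext ((QuotientGroup.eq_one_iff _).mpr ?_))
      haveI := pCore_characteristic p ↥Y
      exact le_pCore inferInstance ((pCore_isPGroup p ↥Y).map Y.subtype) (mem_map_of_mem Y.subtype hy)
  exact ⟨(QuotientGroup.quotientMulEquivOfEq hker.symm).trans
    (QuotientGroup.quotientKerEquivOfSurjective _ (π.subgroupMap_surjective Y)), fun y => rfl⟩

end Cfsg.Agent.H51
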