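import Mathlib

/-!
The natural module of the derived group of `SL₂(F)` and the even-weight module of an alternating
group of odd degree over the field with two elements are irreducible.
-/

set_option linter.style.haveILetI false
set_option linter.unusedSectionVars false

namespace Cfsg.Agent.H51

open Matrix
open scoped commutatorElement

variable {F : Type*} [Field F]

/-- The additive subgroups invariant under `[SL₂(F), SL₂(F)]` other than zero are everything. -/
theorem sl2_derived_irreducible [Finite F] (U : AddSubgroup (Fin 2 → F))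
    (hU : ∀ g ∈ commutator (Matrix.SpecialLinearGroup (Fin 2) F), ∀ v ∈ U,
      ((g : Matrix.SpecialLinearGroup (Fin 2) F) : Matrix (Fin 2) (Fin 2) F).mulVec v ∈ U)
    {v : Fin 2 → F} (hv : v ∈ U) (h0 : v ≠ 0) : U = ⊤ := by
  have hPR : ∀ (t : F) (x : Fin 2 → F), x ∈ U →
      (![-t * x 1, -t * x 0 + t ^ 2 * x 1] : Fin 2 → F) ∈ U ∧
        (![t ^ 2 * x 0 - t * x 1, -t * x 0] : Fin 2 → F) ∈ U := by
    intro t x hx
    let w : Matrix.SpecialLinearGroup (Fin 2) F := ⟨!![0, 1; -1, 0], by simp [Matrix.det_fin_two]⟩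
    let u : Matrix.SpecialLinearGroup (Fin 2) F := ⟨!![1, t; 0, 1], by simp [Matrix.det_fin_two]⟩
    let l : Matrix.SpecialLinearGroup (Fin 2) F := ⟨!![1, 0; t, 1], by simp [Matrix.det_fin_two]⟩
    have h1 := hU ⁅w, u⁆ (Subgroup.commutator_mem_commutator (Subgroup.mem_top _) (Subgroup.mem_top _)) x hx
    have h2 := hU ⁅w, l⁆ (Subgroup.commutator_mem_commutator (Subgroup.mem_top _) (Subgroup.mem_top _)) x hx
    have e1 : ((⁅w, u⁆ : Matrix.SpecialLinearGroup (Fin 2) F) : Matrix (Fin 2) (Fin 2) F) =
        !![1, -t; -t, 1 + t ^ 2] := by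
      rw [show ⁅w, u⁆ = w * u * w⁻¹ * u⁻¹ from commutatorElement_def w u]
      simp only [Matrix.SpecialLinearGroup.coe_mul, Matrix.SpecialLinearGroup.coe_inv]
      ext i j
      fin_cases i <;> fin_cases j <;>
        simp [w, u, Matrix.adjugate_fin_two, Matrix.mul_apply, Fin.sum_univ_two] <;> ring
    have e2 : ((⁅w, l⁆ : Matrix.SpecialLinearGroup (Fin 2) F) : Matrix (Fin 2) (Fin 2) F) =
        !![1 + t ^ 2, -t; -t, 1] := by
      rw [show ⁅w, l⁆ = w * l * w⁻¹ * l⁻¹ from commutatorElement_def w l]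
      simp only [Matrix.SpecialLinearGroup.coe_mul, Matrix.SpecialLinearGroup.coe_inv]
      ext i j
      fin_cases i <;> fin_cases j <;>
        simp [w, l, Matrix.adjugate_fin_two, Matrix.mul_apply, Fin.sum_univ_two] <;> ring
    rw [e1] at h1
    rw [e2] at h2
    constructor
    · convert U.sub_mem h1 hx using 1
      ext i
      fin_cases i <;> simp [dotProduct, Fin.sum_univ_two] <;> ring
    · convert U.sub_mem h2 hx using 1
      ext i
      fin_cases i <;> simp [dotProduct, Fin.sum_univ_two] <;> ring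
  have hflip : ∀ x ∈ U, ∀ s : F, (![s * x 0, -(s * x 1)] : Fin 2 → F) ∈ U := by
    intro x hx
    have hsq : ∀ t : F, (![t ^ 2 * x 0, -(t ^ 2 * x 1)] : Fin 2 → F) ∈ U := fun t => by
      have := U.sub_mem (hPR t x hx).2 (hPR t x hx).1
      convert this using 1
      ext i; fin_cases i <;> simp <;> ring
    intro s
    by_cases h2 : (2 : F) = 0
    · haveI := CharTwo.of_one_ne_zero_of_two_eq_zero (R := F) one_ne_zero h2
      obtain ⟨r, hr⟩ := FiniteField.isSquare_of_char_two (F := F) (ringChar.eq F 2) s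
      rw [hr, ← sq]
      exact hsq r
    · have h4 := U.sub_mem (hsq ((s + 1) / 2)) (hsq ((s - 1) / 2))
      convert h4 using 1
      ext i; fin_cases i <;> simp <;> field_simp <;> ring
  have hline : ∀ x ∈ U, ∀ s : F, (![s * x 0, s * x 1] : Fin 2 → F) ∈ U := by
    intro x hx s
    have := hflip _ (hflip x hx 1) s
    convert this using 1
    ext i; fin_cases i <;> simp
  obtain ⟨w, hw, hdet⟩ : ∃ w ∈ U, v 0 * w 1 - v 1 * w 0 ≠ 0 := by
    by_contra hno
    push Not at hno
    have key : ∀ t : F, t * ((v 1) ^ 2 - (v 0) ^ 2) + t ^ 2 * (v 0 * v 1) = 0 := fun t => by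
      have := hno _ (hPR t v hv).1
      simp at this
      linear_combination this
    have key1 : (v 1) ^ 2 - (v 0) ^ 2 + v 0 * v 1 = 0 := by linear_combination key 1
    have key2 : ∀ t : F, t ≠ 0 → (t - 1) * (v 0 * v 1) = 0 := by
      intro t ht
      have h3 : t * ((v 1) ^ 2 - (v 0) ^ 2 + t * (v 0 * v 1)) = 0 := by linear_combination key t
      linear_combination (mul_eq_zero.mp h3).resolve_left ht - key1
    have hne : v 0 ≠ 0 ∧ v 1 ≠ 0 := by
      refine ⟨fun e => h0 ?_, fun e => h0 ?_⟩
      · have : v 1 = 0 := by simpa [e] using key1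
        ext i; fin_cases i <;> simp [e, this]
      · have : v 0 = 0 := by simpa [e] using key1
        ext i; fin_cases i <;> simp [e, this]
    have hone : ∀ t : F, t ≠ 0 → t = 1 := fun t ht =>
      sub_eq_zero.mp ((mul_eq_zero.mp (key2 t ht)).resolve_right (mul_ne_zero hne.1 hne.2))
    rw [hone _ hne.1, hone _ hne.2] at key1
    simp at key1
  refine eq_top_iff.mpr fun y _ => ?_
  set d := v 0 * w 1 - v 1 * w 0 with hd
  have h1 := hline v hv ((y 0 * w 1 - y 1 * w 0) / d)
  have h2 := hline w hw ((v 0 * y 1 - v 1 * y 0) / d)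
  convert U.add_mem h1 h2 using 1
  ext i
  fin_cases i <;> simp <;> field_simp <;> rw [hd] <;> ring

/-- The additive subgroups of `𝔽₂ⁿ` (`n` odd) invariant under the alternating group and containing
a nonzero even-weight vector contain every even-weight vector. -/
theorem alt_evenWeight_irreducible {n : ℕ} (hn : Odd n) (U : AddSubgroup (Fin n → ZMod 2))
    (hU : ∀ σ ∈ alternatingGroup (Fin n), ∀ v ∈ U, (fun i => v (σ i)) ∈ U)
    {v : Fin n → ZMod 2} (hv : v ∈ U) (hs : ∑ i, v i = 0) (h0 : v ≠ 0)
    {w : Fin n → ZMod 2} (hw : ∑ i, w i = 0) : w ∈ U := by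
  have hz : ∀ a b : ZMod 2, a ≠ b → a + b = 1 := by decide
  have hz2 : ∀ a : ZMod 2, a + a = 0 := by decide
  obtain ⟨i, j, hij⟩ : ∃ i j, v i ≠ v j := by
    by_contra hno
    push Not at hno
    rcases Nat.eq_zero_or_pos n with rfl | hpos
    · exact h0 (funext fun i => i.elim0)
    have hc : v = fun _ => v ⟨0, hpos⟩ := funext fun k => hno k _
    rw [hc, Finset.sum_const, Finset.card_univ, Fintype.card_fin, nsmul_eq_mul,
      (ZMod.natCast_eq_one_iff_odd).mpr hn, one_mul] at hs
    exact h0 (hc.trans (funext fun _ => hs))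
  have hcyc : ∀ a b c : Fin n, a ≠ b → a ≠ c → b ≠ c → ∀ x ∈ U,
      (fun k => x ((Equiv.swap a b * Equiv.swap b c) k)) ∈ U := by
    intro a b c hab _ hbc x hx
    refine hU _ ?_ x hx
    rw [Equiv.Perm.mem_alternatingGroup, map_mul, Equiv.Perm.sign_swap hab,
      Equiv.Perm.sign_swap hbc]
    decide
  obtain ⟨i, j, hij, hpair⟩ : ∃ i j : Fin n, i ≠ j ∧ Pi.single i 1 + Pi.single j 1 ∈ U := by
    have hne : i ≠ j := fun e => hij (e ▸ rfl)
    obtain ⟨k, hki, hkj⟩ : ∃ k, k ≠ i ∧ k ≠ j := by
      by_contra hno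
      push Not at hno
      have hsub : (Finset.univ : Finset (Fin n)) = {i, j} :=
        Finset.ext fun k => by
          by_cases e : k = i
          · simp [e]
          · simp [hno k e]
      have := congrArg Finset.card hsub
      rw [Finset.card_univ, Fintype.card_fin, Finset.card_pair hne] at this
      subst this
      exact absurd hn (by decide)
    have main : ∀ a b c : Fin n, a ≠ b → a ≠ c → b ≠ c → v a = v c → v a ≠ v b →
        Pi.single a 1 + Pi.single b 1 ∈ U := by
      intro a b c hab hac hbc hv' hv''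
      convert U.add_mem (hcyc a b c hab hac hbc v hv) hv using 1
      ext m
      simp only [Pi.add_apply, Equiv.Perm.mul_apply]
      by_cases e1 : m = a
      · subst e1
        rw [Equiv.swap_apply_of_ne_of_ne hab hac, Equiv.swap_apply_left]
        simp [hab, hz _ _ (Ne.symm hv'')]
      by_cases e2 : m = b
      · subst e2
        rw [Equiv.swap_apply_left, Equiv.swap_apply_of_ne_of_ne hac.symm hbc.symm]
        simp [hab.symm, hz _ _ (fun e => hv'' (hv'.trans e))]
      by_cases e3 : m = c
      · subst e3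
        rw [Equiv.swap_apply_right, Equiv.swap_apply_right]
        simp [hac.symm, hbc.symm, hv', hz2]
      · rw [Equiv.swap_apply_of_ne_of_ne e2 e3, Equiv.swap_apply_of_ne_of_ne e1 e2]
        simp [e1, e2, hz2]
    have hzc : ∀ a b c : ZMod 2, a ≠ b → c = a ∨ c = b := by decide
    rcases hzc _ _ (v k) hij with e | e
    · exact ⟨i, j, hne, main i j k hne hki.symm hkj.symm e.symm hij⟩
    · exact ⟨j, i, hne.symm, main j i k hne.symm hkj.symm hki.symm e.symm hij.symm⟩
  have hall : ∀ x, x ≠ i → Pi.single i 1 + Pi.single x 1 ∈ U := by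
    intro c hci
    by_cases hcj : c = j
    · exact hcj ▸ hpair
    convert hcyc i j c hij (Ne.symm hci) (Ne.symm hcj) _ hpair using 1
    ext m
    simp only [Pi.add_apply, Equiv.Perm.mul_apply]
    by_cases e1 : m = i
    · subst e1
      rw [Equiv.swap_apply_of_ne_of_ne hij (Ne.symm hci), Equiv.swap_apply_left]
      simp [hij, hij.symm, hci, Ne.symm hci]
    by_cases e3 : m = c
    · subst e3
      rw [Equiv.swap_apply_right, Equiv.swap_apply_right]
      simp [hij, hci]
    by_cases e2 : m = j
    · subst e2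
      rw [Equiv.swap_apply_left, Equiv.swap_apply_of_ne_of_ne hci hcj]
      simp [hci, hcj, Ne.symm hij, Ne.symm hcj]
    · rw [Equiv.swap_apply_of_ne_of_ne e2 e3, Equiv.swap_apply_of_ne_of_ne e1 e2]
      simp [e1, e2, e3]
  have hdec : w = ∑ x ∈ Finset.univ.erase i, w x • (Pi.single i (1 : ZMod 2) + Pi.single x 1 : Fin n → ZMod 2) := by
    ext m
    rw [Finset.sum_apply]
    by_cases e : m = i
    · subst e
      rw [← Finset.add_sum_erase _ _ (Finset.mem_univ m)] at hw
      have h2 : ∀ a b : ZMod 2, a + b = 0 → a = b := by decide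
      rw [h2 _ _ hw]
      refine Finset.sum_congr rfl fun x hx => ?_
      simp [Ne.symm (Finset.ne_of_mem_erase hx)]
    · rw [Finset.sum_eq_single m]
      · simp [e]
      · intro b _ hb
        simp [e, Ne.symm hb]
      · intro hm
        exact absurd (Finset.mem_erase.mpr ⟨e, Finset.mem_univ m⟩) hm
  rw [hdec]
  refine U.sum_mem fun x hx => ?_
  have hz3 : ∀ a : ZMod 2, a = 0 ∨ a = 1 := by decide
  rcases hz3 (w x) with e | e <;> rw [e]
  · rw [zero_smul]; exact U.zero_mem
  · rw [one_smul]; exact hall x (Finset.ne_of_mem_erase hx)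

end Cfsg.Agent.H51
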