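import Mathlib
import Cfsg.Agent.H51.BaumannBasic
import Cfsg.Agent.H51.NaturalIrreducible
import Cfsg.Agent.H51.IsolatedPMin

/-!
The module `W/Z` of a block is irreducible; `W_E = [W, E]` is central in `O_p(G)` and is moved by
`J(T)`.
-/

set_option linter.style.haveILetI false
set_option linter.unusedSectionVars false

namespace Cfsg.Agent.H51

open Subgroup Cfsg
open scoped Pointwise commutatorElement

variable {G : Type*} [Group G]

/-- A section on which `E` acts as an irreducible group of additive maps is irreducible. -/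
theorem section_irreducible {V : Type*} [AddCommGroup V] {E W W₀ U : Subgroup G}
    (ψ : ↥W →* Multiplicative V) (f : ↥E → V → V)
    (hker : ∀ u : ↥W, ψ u = 1 ↔ (u : G) ∈ W₀)
    (hact : ∀ (e : ↥E) (u : ↥W), ∃ w : ↥W, (w : G) = (e : G) * (u : G) * (e : G)⁻¹ ∧
      Multiplicative.toAdd (ψ w) = f e (Multiplicative.toAdd (ψ u)))
    (hirr : ∀ A : AddSubgroup V, (∀ e : ↥E, ∀ v ∈ A, f e v ∈ A) →
      ∀ u : ↥W, Multiplicative.toAdd (ψ u) ∈ A → ψ u ≠ 1 →
        ∀ w : ↥W, Multiplicative.toAdd (ψ w) ∈ A)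
    (hUW : U ≤ W) (h₀U : W₀ ≤ U) (hEU : E ≤ normalizer (U : Set G)) : U = W₀ ∨ U = W := by
  by_cases hle : U ≤ W₀
  · exact Or.inl (le_antisymm hle h₀U)
  obtain ⟨x, hxU, hx⟩ := SetLike.not_le_iff_exists.mp hle
  refine Or.inr (le_antisymm hUW fun y hy => ?_)
  let A : AddSubgroup V :=
    { carrier := {v | ∃ u : ↥W, (u : G) ∈ U ∧ Multiplicative.toAdd (ψ u) = v}
      zero_mem' := ⟨1, U.one_mem, by simp⟩
      add_mem' := by
        rintro _ _ ⟨a, ha, rfl⟩ ⟨b, hb, rfl⟩
        exact ⟨a * b, U.mul_mem ha hb, by simp⟩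
      neg_mem' := by
        rintro _ ⟨a, ha, rfl⟩
        exact ⟨a⁻¹, U.inv_mem ha, by simp⟩ }
  have hA : ∀ e : ↥E, ∀ v ∈ A, f e v ∈ A := by
    rintro e _ ⟨u, hu, rfl⟩
    obtain ⟨w, hw, hwv⟩ := hact e u
    exact ⟨w, hw ▸ (mem_normalizer_iff.mp (hEU e.2) _).mp hu, hwv⟩
  obtain ⟨u, hu, huv⟩ := hirr A hA ⟨x, hUW hxU⟩ ⟨_, hxU, rfl⟩ (fun h => hx ((hker _).mp h)) ⟨y, hy⟩
  have h1 : ψ (u⁻¹ * ⟨y, hy⟩) = 1 := by
    rw [map_mul, map_inv, Multiplicative.toAdd.injective huv, inv_mul_cancel]
  have h2 : (u : G)⁻¹ * y ∈ U := h₀U ((hker _).mp h1)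
  have := mul_mem hu h2
  rwa [mul_inv_cancel_left] at this

/-- The elements of `p'`-order generate a subgroup equal to its `p`-residual. -/
theorem eq_closure_of_residual [Finite G] {p : ℕ} [Fact p.Prime] {E : Subgroup G} (h : pResidualOf p E = E) :
    E = closure {e : G | e ∈ E ∧ (orderOf e).Coprime p} := by
  conv_lhs => rw [← h]
  exact H72.pResidual_map_eq E

/-- A `p`-group centralized in two steps by `E = O^p(E)` is centralized. -/
theorem centralizes_of_residual [Finite G] {p : ℕ} [Fact p.Prime] {E V : Subgroup G}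
    (h : pResidualOf p E = E) (hV : IsPGroup p V) (hEV : E ≤ normalizer (V : Set G))
    (h2 : ⁅⁅V, E⁆, E⁆ = ⊥) : E ≤ centralizer (V : Set G) := by
  refine (eq_closure_of_residual h).le.trans ((closure_le _).mpr fun e ⟨he, hc⟩ => ?_)
  have hCE : zpowers e ≤ E := zpowers_le.mpr he
  refine H20.le_centralizer_of_commutator_commutator_eq_bot (hCE.trans hEV) ?_ ?_ ?_ (mem_zpowers e)
  · obtain ⟨k, hk⟩ := hV.exists_card_eq
    rw [hk, Nat.card_zpowers]
    exact hc.pow_right k
  · haveI := hV.isNilpotent; exact Or.inr inferInstance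
  · exact le_bot_iff.mp (h2 ▸ commutator_mono (commutator_mono le_rfl hCE) hCE)

variable [Finite G] {p : ℕ} [hp : Fact p.Prime]

omit [Finite G] hp in
/-- `Ω₁(Z(X))` is elementary abelian. -/
theorem omegaOneCenter_isElementaryAbelian (X : Subgroup G) :
    IsElementaryAbelian p (omegaOneCenter p X) := by
  haveI := H34.isMulCommutative_inf_centralizer X
  exact H34.omegaOne_isElementaryAbelian

/-- A block is nontrivial modulo its `p`-core. -/
theorem block_not_isPGroup {T E : Subgroup G} (hE : IsBaumannBlock p T E) : ¬ IsPGroup p E := by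
  intro hp'
  refine hE.2.2.2.1 ?_
  have : E = ⊥ := by
    rw [← hE.1, pResidualOf, H22.pResidual_eq_bot_of_isPGroup hp', Subgroup.map_bot]
  rw [this]; simp

/-- The section `W/Z` of a block is a nontrivial irreducible module. -/
theorem block_irreducible {T E : Subgroup G} (hE : IsBaumannBlock p T E) :
    ¬ omegaOneCenter p (pCoreOf p E) ≤ centralizer (E : Set G) ∧
    ∀ U : Subgroup G, U ≤ omegaOneCenter p (pCoreOf p E) →
      omegaOneCenter p (pCoreOf p E) ⊓ centralizer (E : Set G) ≤ U →
      E ≤ normalizer (U : Set G) →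
      U = omegaOneCenter p (pCoreOf p E) ⊓ centralizer (E : Set G) ∨
        U = omegaOneCenter p (pCoreOf p E) := by
  have hnot : ∀ {H : Type} [Group H], (∀ x : H, x = 1) →
      ∀ e : ↥E ⧸ pCore p ↥E ≃* H, False := by
    intro H _ hH e
    refine block_not_isPGroup hE ((pCore_isPGroup p ↥E).to_le ?_ |>.of_equiv Subgroup.topEquiv)
    intro x _
    exact (QuotientGroup.eq_one_iff x).mp (e.injective ((hH _).trans (map_one e).symm))
  rcases hE.2.2.2.2 with ⟨F, _, _, n, -, -, hsec, -⟩ | ⟨rfl, m, ⟨e₀⟩, hsec, -⟩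
  · obtain ⟨-, hW₀, ρ, ψ, hρ, hψ, hker, hact⟩ := hsec
    refine ⟨fun hle => ?_, fun U hUW h₀U hEU => ?_⟩
    · obtain ⟨u, hu⟩ := hψ (Multiplicative.ofAdd ![1, 0])
      rw [(hker u).mpr ⟨u.2, hle u.2⟩] at hu
      exact one_ne_zero (α := F) (by simpa using (congrFun (congrArg Multiplicative.toAdd hu) 0).symm)
    refine section_irreducible ψ _ hker hact ?_ hUW h₀U hEU
    intro A hA u hu hu1 w
    have := sl2_derived_irreducible A ?_ hu (fun h => hu1 (Multiplicative.toAdd.injective h))
    · rw [this]; trivial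
    · intro g hg v hv
      rw [← hρ] at hg
      obtain ⟨e, rfl⟩ := hg
      exact hA e v hv
  · obtain ⟨-, hW₀, ρ, ψ, hρ, hsum, hsurj, hker, hact⟩ := hsec
    have hodd : Odd (2 * m + 1) := ⟨m, rfl⟩
    refine ⟨fun hle => ?_, fun U hUW h₀U hEU => ?_⟩
    · rcases Nat.eq_zero_or_pos m with rfl | hm
      · exact hnot (fun x => Subtype.ext (Equiv.ext fun i => Fin.ext (by omega))) e₀
      have h0 : 0 < 2 * m + 1 := by omega
      have h1 : 1 < 2 * m + 1 := by omega
      obtain ⟨u, hu⟩ := hsurj (Pi.single ⟨0, h0⟩ 1 + Pi.single ⟨1, h1⟩ 1)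
        (by simp only [Pi.add_apply, Finset.sum_add_distrib, Fintype.sum_pi_single']; exact CharTwo.add_self_eq_zero 1)
      rw [(hker u).mpr ⟨u.2, hle u.2⟩] at hu
      have := congrFun hu ⟨0, h0⟩
      simp at this
    choose g hg1 hg2 using hact
    refine section_irreducible ψ (fun e v i => v ((ρ e)⁻¹ i)) hker
      (fun e u => ⟨g e u, hg1 e u, funext (hg2 e u)⟩) ?_ hUW h₀U hEU
    intro A hA u hu hu1 w
    refine alt_evenWeight_irreducible hodd A ?_ hu (hsum u)
      (fun h => hu1 (Multiplicative.toAdd.injective h)) (hsum w)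
    intro σ hσ v hv
    have hσ' : σ⁻¹ ∈ ρ.range := hρ.symm ▸ inv_mem hσ
    obtain ⟨e, he⟩ := hσ'
    have := hA e v hv
    simpa [he] using this

/-- The Baumann subgroup of a `p`-subgroup is a `p`-group. -/
theorem baumann_isPGroup (T : Sylow p G) : IsPGroup p (baumannSubgroupOf p (T : Subgroup G)) :=
  T.isPGroup'.to_le inf_le_left

/-- `O_p(G)` normalizes every block and meets it in `O_p(E)`. -/
theorem pCore_normalizes_block (T : Sylow p G) {E : Subgroup G}
    (hE : IsBaumannBlock p (T : Subgroup G) E) :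
    pCore p G ≤ normalizer (E : Set G) ∧ ⁅E, pCore p G⁆ ≤ pCoreOf p E := by
  haveI := pCore_normal p G
  have h1 := le_normalizer_of_baumann T hE.1 hE.2.1 (pCore_isPGroup p G) le_normalizer_of_normal
    le_normalizer_of_normal
  refine ⟨h1, ?_⟩
  have h2 : ⁅E, pCore p G⁆ ≤ E ⊓ pCore p G :=
    le_inf (commutator_le_of_le_normalizer h1) (commutator_le_right E _)
  exact h2.trans (H74.le_pCoreOf inf_le_left
    (le_trans (le_inf le_normalizer le_normalizer_of_normal) inf_normalizer_le_normalizer_inf)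
    ((pCore_isPGroup p G).to_le inf_le_right))

/-- `[W, E]` is centralized by `O_p(G)`. -/
theorem block_commutator_centralized (T : Sylow p G) {E : Subgroup G}
    (hE : IsBaumannBlock p (T : Subgroup G) E) :
    ⁅omegaOneCenter p (pCoreOf p E), E⁆ ≤ centralizer (pCore p G : Set G) := by
  haveI := pCore_normal p G
  obtain ⟨hR, hER⟩ := pCore_normalizes_block T hE
  obtain ⟨-, hirr⟩ := block_irreducible hE
  set W := omegaOneCenter p (pCoreOf p E) with hW
  set R := pCore p G with hRdef
  set Z := W ⊓ centralizer (E : Set G) with hZ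
  have hRW : R ≤ normalizer (W : Set G) := hR.trans (normalizer_le_normalizer_omegaCore E)
  have hRZ : R ≤ normalizer (Z : Set G) := hR.trans (normalizer_le_normalizer_omegaCore_fixed E)
  have hEW : E ≤ normalizer (W : Set G) :=
    le_normalizer.trans (normalizer_le_normalizer_omegaCore E)
  have hWp : IsPGroup p W := H34.IsPGroup_of_isElementaryAbelian (omegaOneCenter_isElementaryAbelian _)
  have hEZ : E ≤ normalizer (Z : Set G) :=
    le_normalizer.trans (normalizer_le_normalizer_omegaCore_fixed E)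
  have hU1 : ⁅W, R⁆ ⊔ Z ≤ W := sup_le (commutator_le_of_le_normalizer hRW) inf_le_left
  have hEU : E ≤ normalizer ((⁅W, R⁆ ⊔ Z : Subgroup G) : Set G) := by
    intro e he
    rw [mem_normalizer_iff_map_conj_eq]
    have e1 : W.map (MulAut.conj e).toMonoidHom = W := mem_normalizer_iff_map_conj_eq.mp (hEW he)
    have e2 : R.map (MulAut.conj e).toMonoidHom = R := Normal.map_conj_eq R e
    have e3 : Z.map (MulAut.conj e).toMonoidHom = Z := mem_normalizer_iff_map_conj_eq.mp (hEZ he)
    exact (Subgroup.map_sup _ _ _).trans (congrArg₂ (· ⊔ ·)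
      ((Subgroup.map_commutator _ _ _).trans (congrArg₂ (fun A B => ⁅A, B⁆) e1 e2)) e3)
  have hWR : ⁅W, R⁆ ≤ Z := by
    rcases hirr _ hU1 le_sup_right hEU with h | h
    · exact le_sup_left.trans h.le
    -- otherwise `W = [W, R] Z`, impossible in the nilpotent group `W R`
    set P := W ⊔ R with hP
    haveI : Group.IsNilpotent P :=
      (hWp.to_sup_of_normal_right' (pCore_isPGroup p G) le_normalizer_of_normal).isNilpotent
    obtain ⟨n, hn⟩ := (Subgroup.isNilpotent_iff_lowerCentralSeries P).mp inferInstance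
    have hPZ : P ≤ normalizer (Z : Set G) := by
      refine sup_le ?_ hRZ
      refine le_trans ?_ (centralizer_le_normalizer _)
      haveI := (omegaOneCenter_isElementaryAbelian (p := p) (pCoreOf p E)).1
      exact (le_centralizer_iff_isMulCommutative.mpr ‹_›).trans (centralizer_le inf_le_left)
    have hstep : ∀ k, W ≤ P.lowerCentralSeries k ⊔ Z := by
      intro k
      induction k with
      | zero => exact le_sup_left.trans le_sup_left
      | succ k ih =>
        have hkP : P.lowerCentralSeries k ≤ P := Subgroup.lowerCentralSeries_le_self P k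
        refine h.ge.trans (sup_le ?_ le_sup_right)
        rw [commutator_le]
        intro a ha b hb
        have ha' : a ∈ P.lowerCentralSeries k ⊔ Z := ih ha
        rw [← SetLike.mem_coe, coe_mul_of_left_le_normalizer_right _ _ (hkP.trans hPZ)] at ha'
        obtain ⟨l, hl, z, hz, rfl⟩ := ha'
        have hb' : b ∈ P := mem_sup_right hb
        have e : ⁅l * z, b⁆ = (l * ⁅z, b⁆ * l⁻¹) * ⁅l, b⁆ := by
          simp only [commutatorElement_def]; group
        rw [e]
        refine mul_mem (mem_sup_right ?_) (mem_sup_left ?_)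
        · refine (mem_normalizer_iff.mp (hPZ (hkP hl)) _).mp ?_
          rw [commutatorElement_def, mul_assoc z b, mul_assoc z]
          exact mul_mem hz ((mem_normalizer_iff.mp (hPZ hb') z⁻¹).mp (inv_mem hz))
        · rw [Subgroup.lowerCentralSeries_succ]
          exact commutator_mem_commutator hl hb'
    have hWZ : W ≤ Z := by simpa [hn] using hstep n
    exact (commutator_le_of_le_normalizer hRW).trans hWZ
  have h1 : ⁅⁅W, R⁆, E⁆ = ⊥ := commutator_eq_bot_iff_le_centralizer.mpr (hWR.trans inf_le_right)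
  have h2 : ⁅⁅R, E⁆, W⁆ = ⊥ := by
    rw [commutator_comm R E]
    refine commutator_eq_bot_iff_le_centralizer.mpr (hER.trans (le_centralizer_iff.mp ?_))
    exact (H34.omegaOne_le _).trans inf_le_right
  have h3 : ⁅⁅E, W⁆, R⁆ = ⊥ := commutator_commutator_eq_bot_of_rotate h1 h2
  rw [commutator_comm W E]
  exact commutator_eq_bot_iff_le_centralizer.mp h3

/-- `[W, E]` lies in `Ω₁(Z(O_p(G)))`. -/
theorem block_commutator_le (hG : centralizer (pCore p G : Set G) ≤ pCore p G) (T : Sylow p G)
    {E : Subgroup G} (hE : IsBaumannBlock p (T : Subgroup G) E) :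
    ⁅omegaOneCenter p (pCoreOf p E), E⁆ ≤ omegaOneCenter p (pCore p G) := by
  intro x hx
  refine H34.mem_omegaOne ⟨hG (block_commutator_centralized T hE hx), block_commutator_centralized T hE hx⟩ ?_
  exact (omegaOneCenter_isElementaryAbelian _).2 x
    (commutator_le_of_le_normalizer (le_normalizer.trans (normalizer_le_normalizer_omegaCore E)) hx)

/-- `[W, E]` is not centralized by `J(T)`. -/
theorem block_commutator_moved (T : Sylow p G) {E : Subgroup G}
    (hE : IsBaumannBlock p (T : Subgroup G) E) :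
    ⁅⁅omegaOneCenter p (pCoreOf p E), E⁆, thompsonSubgroupOf p (T : Subgroup G)⁆ ≠ ⊥ := by
  intro h0
  set W := omegaOneCenter p (pCoreOf p E) with hW
  set V := ⁅W, E⁆ with hV
  set B := baumannSubgroupOf p (T : Subgroup G) with hB
  have hBE : B ≤ normalizer (E : Set G) := baumann_le_normalizer_of_commutator_eq hE.2.1
  have hEW : E ≤ normalizer (W : Set G) :=
    le_normalizer.trans (normalizer_le_normalizer_omegaCore E)
  have hVW : V ≤ W := commutator_le_of_le_normalizer hEW
  have hVel : IsElementaryAbelian p V :=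
    H34.isElementaryAbelian_mono (omegaOneCenter_isElementaryAbelian _) hVW
  have hEV : E ≤ normalizer (V : Set G) := normalizer_commutator_ge_right W E
  have hBV : B ≤ normalizer (V : Set G) := fun b hb => by
    rw [mem_normalizer_iff_map_conj_eq]
    have e1 : W.map (MulAut.conj b).toMonoidHom = W :=
      mem_normalizer_iff_map_conj_eq.mp (normalizer_le_normalizer_omegaCore E (hBE hb))
    have e2 : E.map (MulAut.conj b).toMonoidHom = E := mem_normalizer_iff_map_conj_eq.mp (hBE hb)
    exact (Subgroup.map_commutator _ _ _).trans (congrArg₂ (fun A B => ⁅A, B⁆) e1 e2)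
  obtain ⟨T', hT'⟩ := ((baumann_isPGroup T).to_sup_of_normal_right'
    (H34.IsPGroup_of_isElementaryAbelian hVel) hBV).exists_le_sylow
  have hJ := thompson_eq_of_le T T' ((thompsonSubgroupOf_le_baumann _).trans (le_sup_left.trans hT'))
  rw [hJ, commutator_eq_bot_iff_le_centralizer] at h0
  have hVJ : V ≤ thompsonSubgroupOf p (T' : Subgroup G) := by
    obtain ⟨A, hA1, hA2⟩ := H34.exists_max_le_sylow T'
    have hAJ : A ≤ thompsonSubgroupOf p (T' : Subgroup G) := by
      rw [H34.thompsonSubgroupOf_sylow]; exact le_sSup ⟨hA1, hA2⟩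
    exact (H34.le_of_mem_max hA2 hVel (hAJ.trans (le_centralizer_iff.mp h0))).trans hAJ
  have hBC : B ≤ centralizer (V : Set G) := by
    rw [hB, baumann_eq_of_le T T' (le_sup_left.trans hT')]
    refine inf_le_right.trans (centralizer_le ?_)
    intro v hv
    exact H34.mem_omegaOne ⟨hVJ hv, h0 hv⟩ (hVel.2 v hv)
  have hEC : E ≤ centralizer (V : Set G) := by
    rw [← hE.2.1, commutator_le]
    intro e he b hb
    rw [commutatorElement_def]
    refine mul_mem ?_ (inv_mem (hBC hb))
    rw [mem_centralizer_iff]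
    intro v hv
    have hv' : e⁻¹ * v * e ∈ V := (mem_normalizer_iff''.mp (hEV he) v).mp hv
    have h1 := mem_centralizer_iff.mp (hBC hb) _ hv'
    calc v * (e * b * e⁻¹) = e * ((e⁻¹ * v * e) * b) * e⁻¹ := by group
      _ = e * (b * (e⁻¹ * v * e)) * e⁻¹ := by rw [h1]
      _ = e * b * e⁻¹ * v := by group
  refine (block_irreducible hE).1 ?_
  refine le_centralizer_iff.mp (centralizes_of_residual hE.1
    (H34.IsPGroup_of_isElementaryAbelian (omegaOneCenter_isElementaryAbelian _)) hEW ?_)
  exact commutator_eq_bot_iff_le_centralizer.mpr (le_centralizer_iff.mp hEC)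

/-- `E = O^p(E O_p(G))`. -/
theorem block_residual_sup (T : Sylow p G) {E : Subgroup G}
    (hE : IsBaumannBlock p (T : Subgroup G) E) : pResidualOf p (E ⊔ pCore p G) = E := by
  refine le_antisymm ?_ ?_
  · rw [pResidualOf, H72.pResidual_map_eq, closure_le]
    rintro x ⟨hx, hc⟩
    exact mem_of_coprime_mem_sup_pgroup (pCore_normalizes_block T hE).1 (pCore_isPGroup p G) hx hc
  · refine (eq_closure_of_residual hE.1).le.trans ((closure_le _).mpr ?_)
    rintro x ⟨hx, hc⟩
    exact H72.mem_pResidual_map (mem_sup_left hx) hc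

end Cfsg.Agent.H51
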