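import Mathlib
import Cfsg.Agent.H51.BlockModule

/-!
Tools for the sections of a block: change of field, kernels, exact decomposition.
-/

set_option linter.style.haveILetI false
set_option linter.unusedSectionVars false

namespace Cfsg.Agent.H51

open Subgroup Cfsg
open scoped Pointwise commutatorElement

variable {G : Type*} [Group G]

/-- A natural section over a field is one over any isomorphic field. -/
theorem actsAsSL2_transport {F K : Type*} [Field F] [Field K] (σ : F ≃+* K) {E U U₀ : Subgroup G}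
    (h : ActsAsSL2OnSection F (commutator (Matrix.SpecialLinearGroup (Fin 2) F)) E U U₀) :
    ActsAsSL2OnSection K (commutator (Matrix.SpecialLinearGroup (Fin 2) K)) E U U₀ := by
  obtain ⟨hEU, hle, ρ, ψ, hρ, hψ, hker, hact⟩ := h
  let τ : (Fin 2 → F) ≃+ (Fin 2 → K) := AddEquiv.piCongrRight fun _ => σ.toAddEquiv
  let μ : Matrix.SpecialLinearGroup (Fin 2) F →* Matrix.SpecialLinearGroup (Fin 2) K :=
    Matrix.SpecialLinearGroup.map σ.toRingHom
  have hμ : Function.Surjective μ := by
    intro g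
    refine ⟨Matrix.SpecialLinearGroup.map σ.symm.toRingHom g, ?_⟩
    apply Subtype.ext
    ext i j
    show σ (σ.symm ((g : Matrix (Fin 2) (Fin 2) K) i j)) = _
    exact σ.apply_symm_apply _
  refine ⟨hEU, hle, μ.comp ρ, τ.toMultiplicative.toMonoidHom.comp ψ, ?_,
    fun x => ?_, fun u => ?_, fun e u => ?_⟩
  · rw [MonoidHom.range_eq_map, ← Subgroup.map_map, ← MonoidHom.range_eq_map, hρ, _root_.commutator_def,
      Subgroup.map_commutator, ← MonoidHom.range_eq_map, MonoidHom.range_eq_top.mpr hμ,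
      _root_.commutator_def]
  · obtain ⟨u, hu⟩ := hψ (Multiplicative.ofAdd (τ.symm (Multiplicative.toAdd x)))
    exact ⟨u, by simp [hu]⟩
  · rw [← hker u, MonoidHom.comp_apply]
    exact map_eq_one_iff _ (AddEquiv.toMultiplicative τ).injective
  · obtain ⟨w, hw, hwv⟩ := hact e u
    refine ⟨w, hw, ?_⟩
    show τ (Multiplicative.toAdd (ψ w)) = _
    rw [hwv]
    funext i
    exact RingHom.map_mulVec σ.toRingHom _ _ i

variable [Finite G] {p : ℕ} [hp : Fact p.Prime]

/-- The homomorphism of a section is injective modulo `O_p(E)` when the orders agree. -/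
theorem section_ker_eq {H : Type*} [Group H] {E : Subgroup G} (ρ : ↥E →* H)
    (hQ : ∀ e : ↥E, e ∈ pCore p ↥E → ρ e = 1)
    (hcard : Nat.card (↥E ⧸ pCore p ↥E) = Nat.card ρ.range) (e : ↥E) :
    ρ e = 1 ↔ e ∈ pCore p ↥E := by
  refine ⟨fun he => ?_, hQ e⟩
  have hle : pCore p ↥E ≤ ρ.ker := fun x hx => MonoidHom.mem_ker.mpr (hQ x hx)
  have h1 : ρ.ker.index = (pCore p ↥E).index := by
    rw [Subgroup.index_ker, ← hcard, Subgroup.index_eq_card]
  have h2 : ρ.ker ≤ pCore p ↥E := by
    refine (eq_of_le_of_card_ge hle ?_).ge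
    have e1 := ρ.ker.card_mul_index
    rw [← (pCore p ↥E).card_mul_index, h1] at e1
    exact (Nat.eq_of_mul_eq_mul_right (Nat.pos_of_ne_zero index_ne_zero_of_finite) e1).le
  exact h2 (MonoidHom.mem_ker.mpr he)

/-- The `p`-core of `E` acts trivially on a section it centralizes modulo the bottom. -/
theorem section_sl2_trivial {F : Type*} [Field F] {E U U₀ : Subgroup G}
    (ρ : ↥E →* Matrix.SpecialLinearGroup (Fin 2) F) (ψ : ↥U →* Multiplicative (Fin 2 → F))
    (hψ : Function.Surjective ψ) (hker : ∀ u : ↥U, ψ u = 1 ↔ (u : G) ∈ U₀)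
    (hact : ∀ (e : ↥E) (u : ↥U), ∃ w : ↥U, (w : G) = (e : G) * (u : G) * (e : G)⁻¹ ∧
      Multiplicative.toAdd (ψ w) =
        ((ρ e : Matrix.SpecialLinearGroup (Fin 2) F) : Matrix (Fin 2) (Fin 2) F).mulVec (Multiplicative.toAdd (ψ u)))
    (e : ↥E) (he : ∀ u : ↥U, (e : G) * u * (e : G)⁻¹ * (u : G)⁻¹ ∈ U₀) : ρ e = 1 := by
  apply Subtype.ext
  refine Matrix.ext_of_mulVec_single fun i => ?_
  obtain ⟨u, hu⟩ := hψ (Multiplicative.ofAdd (Pi.single i (1 : F)))
  obtain ⟨w, hw, hwv⟩ := hact e u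
  have h1 : ψ (w * u⁻¹) = 1 := (hker _).mpr (by rw [coe_mul, coe_inv, hw]; exact he u)
  rw [map_mul, map_inv, mul_inv_eq_one] at h1
  rw [h1, hu, toAdd_ofAdd] at hwv
  rw [← hwv]
  ext j
  simp [Matrix.one_apply, Pi.single_apply]

/-- Exact decomposition of `W` when an element of `p'`-order central modulo the centralizer of `W`
acts without fixed points on `W/Z`. -/
theorem exact_decomposition {E W : Subgroup G} [IsMulCommutative W] (hWp : IsPGroup p W)
    (hEW : E ≤ normalizer (W : Set G))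
    (hirr : ∀ U : Subgroup G, U ≤ W → W ⊓ centralizer (E : Set G) ≤ U → E ≤ normalizer (U : Set G) →
      U = W ⊓ centralizer (E : Set G) ∨ U = W)
    (hne : ¬ W ≤ centralizer (E : Set G)) {g : G} (hg : g ∈ E) (hgc : (orderOf g).Coprime p)
    (hcent : ∀ e ∈ E, ∀ w ∈ W, (e * g * e⁻¹) * w * (e * g * e⁻¹)⁻¹ = g * w * g⁻¹)
    (hfpf : ∀ w ∈ W, g * w * g⁻¹ = w → w ∈ centralizer (E : Set G)) :
    ⁅W, E⁆ ⊓ centralizer (E : Set G) = ⊥ ∧ ⁅W, E⁆ ⊔ (W ⊓ centralizer (E : Set G)) = W := by
  set A := zpowers g with hA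
  have hAE : A ≤ E := zpowers_le.mpr hg
  have hAW : A ≤ normalizer (W : Set G) := hAE.trans hEW
  have hcop : (Nat.card A).Coprime (Nat.card W) := by
    obtain ⟨k, hk⟩ := hWp.exists_card_eq
    rw [hk, Nat.card_zpowers]
    exact hgc.pow_right k
  obtain ⟨hinf, hsup⟩ := H20.abelian_decomposition hAW hcop
  have hC : W ⊓ centralizer (A : Set G) = W ⊓ centralizer (E : Set G) := by
    refine le_antisymm (le_inf inf_le_left ?_) (inf_le_inf_left _ (centralizer_le hAE))
    rintro w ⟨hw, hwc⟩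
    refine hfpf w hw ?_
    rw [mem_centralizer_iff.mp hwc g (mem_zpowers g), mul_inv_cancel_right]
  rw [hC] at hinf hsup
  have hV : ⁅W, E⁆ = ⁅W, A⁆ := by
    refine le_antisymm ?_ (commutator_mono le_rfl hAE)
    have hL : E ≤ normalizer ((⁅W, A⁆ : Subgroup G) : Set G) := by
      intro e he
      refine H74.mem_normalizer_of_conj_mem ?_
      intro d hd
      have hle : ⁅W, A⁆ ≤ (⁅W, A⁆).comap (MulAut.conj e).toMonoidHom := by
        rw [commutator_le]
        intro w hw a ha
        rw [mem_comap, map_commutatorElement, MulEquiv.coe_toMonoidHom, MulAut.conj_apply,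
          MulAut.conj_apply]
        have hw' : e * w * e⁻¹ ∈ W := (mem_normalizer_iff.mp (hEW he) w).mp hw
        obtain ⟨k, rfl⟩ := mem_zpowers_iff.mp ha
        -- conjugation by `e g e⁻¹` agrees with conjugation by `g` on `W`
        let C : Subgroup G := centralizer (W : Set G)
        have hk : (e * g ^ k * e⁻¹) * (g ^ k)⁻¹ ∈ C := by
          have h1 : ∀ j : ℤ, ∀ x ∈ W, ((e * g * e⁻¹) ^ j) * x * ((e * g * e⁻¹) ^ j)⁻¹ =
              g ^ j * x * (g ^ j)⁻¹ := by
            intro j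
            induction j using Int.induction_on with
            | zero => intro x _; simp
            | succ i ih =>
              intro x hx
              rw [zpow_add_one, zpow_add_one, mul_inv_rev, mul_inv_rev]
              have hx' : g * x * g⁻¹ ∈ W := (mem_normalizer_iff.mp (hEW hg) x).mp hx
              have := ih _ hx'
              have e2 := hcent e he x hx
              calc _ = (e * g * e⁻¹) ^ (i:ℤ) * ((e * g * e⁻¹) * x * (e * g * e⁻¹)⁻¹) * ((e * g * e⁻¹) ^ (i:ℤ))⁻¹ := by group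
                _ = (e * g * e⁻¹) ^ (i:ℤ) * (g * x * g⁻¹) * ((e * g * e⁻¹) ^ (i:ℤ))⁻¹ := by rw [e2]
                _ = g ^ (i:ℤ) * (g * x * g⁻¹) * (g ^ (i:ℤ))⁻¹ := this
                _ = _ := by group
            | pred i ih =>
              intro x hx
              rw [zpow_sub_one, zpow_sub_one]
              have hx' : g⁻¹ * x * g ∈ W := (mem_normalizer_iff''.mp (hEW hg) x).mp hx
              have := ih _ hx'
              have e2 := hcent e he _ hx'
              have e3 : (e * g * e⁻¹)⁻¹ * x * (e * g * e⁻¹) = g⁻¹ * x * g := by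
                have e4 : (e * g * e⁻¹) * (g⁻¹ * x * g) * (e * g * e⁻¹)⁻¹ = x := by
                  rw [e2]; group
                calc (e * g * e⁻¹)⁻¹ * x * (e * g * e⁻¹)
                    = (e * g * e⁻¹)⁻¹ * ((e * g * e⁻¹) * (g⁻¹ * x * g) * (e * g * e⁻¹)⁻¹) * (e * g * e⁻¹) := by rw [e4]
                  _ = g⁻¹ * x * g := by group
              generalize e * g * e⁻¹ = c at this e3 ⊢
              calc _ = c ^ (-(i:ℤ)) * (c⁻¹ * x * c) * (c ^ (-(i:ℤ)))⁻¹ := by group
                _ = c ^ (-(i:ℤ)) * (g⁻¹ * x * g) * (c ^ (-(i:ℤ)))⁻¹ := by rw [e3]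
                _ = g ^ (-(i:ℤ)) * (g⁻¹ * x * g) * (g ^ (-(i:ℤ)))⁻¹ := this
                _ = _ := by group
          rw [mem_centralizer_iff]
          intro x hx
          have hy : (g ^ k)⁻¹ * x * g ^ k ∈ W :=
            (mem_normalizer_iff''.mp (hEW (zpow_mem hg k)) x).mp hx
          have h2 := h1 k _ hy
          rw [conj_zpow] at h2
          calc x * ((e * g ^ k * e⁻¹) * (g ^ k)⁻¹)
              = (g ^ k * ((g ^ k)⁻¹ * x * g ^ k) * (g ^ k)⁻¹) * ((e * g ^ k * e⁻¹) * (g ^ k)⁻¹) := by group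
            _ = ((e * g ^ k * e⁻¹) * ((g ^ k)⁻¹ * x * g ^ k) * (e * g ^ k * e⁻¹)⁻¹) * ((e * g ^ k * e⁻¹) * (g ^ k)⁻¹) := by rw [h2]
            _ = (e * g ^ k * e⁻¹) * (g ^ k)⁻¹ * x := by group
        have h3 : ⁅e * w * e⁻¹, e * g ^ k * e⁻¹⁆ = ⁅e * w * e⁻¹, g ^ k⁆ := by
          have hc : (e * w * e⁻¹)⁻¹ * ((e * g ^ k * e⁻¹) * (g ^ k)⁻¹) =
              ((e * g ^ k * e⁻¹) * (g ^ k)⁻¹) * (e * w * e⁻¹)⁻¹ :=
            mem_centralizer_iff.mp hk _ (inv_mem hw')
          have hW : g ^ k * (e * w * e⁻¹)⁻¹ * (g ^ k)⁻¹ ∈ W :=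
            (mem_normalizer_iff.mp (hEW (zpow_mem hg k)) _).mp (inv_mem hw')
          have hc2 := mem_centralizer_iff.mp hk _ hW
          simp only [commutatorElement_def]
          generalize e * w * e⁻¹ = u at hc hc2 ⊢
          generalize e * g ^ k * e⁻¹ = v at hc hc2 ⊢
          generalize g ^ k = a at hc hc2 ⊢
          calc u * v * u⁻¹ * v⁻¹ = u * ((v * a⁻¹) * (a * u⁻¹ * a⁻¹)) * (v * a⁻¹)⁻¹ := by group
            _ = u * ((a * u⁻¹ * a⁻¹) * (v * a⁻¹)) * (v * a⁻¹)⁻¹ := by rw [hc2]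
            _ = u * a * u⁻¹ * a⁻¹ := by group
        rw [h3]
        exact commutator_mem_commutator hw' (zpow_mem (mem_zpowers g) k)
      exact hle hd
    have hU1 : ⁅W, A⁆ ⊔ (W ⊓ centralizer (E : Set G)) ≤ W :=
      sup_le (commutator_le_of_le_normalizer hAW) inf_le_left
    have hU2 : E ≤ normalizer ((⁅W, A⁆ ⊔ (W ⊓ centralizer (E : Set G)) : Subgroup G) : Set G) := by
      intro e he
      rw [mem_normalizer_iff_map_conj_eq]
      have hZn : E ≤ normalizer ((W ⊓ centralizer (E : Set G) : Subgroup G) : Set G) :=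
        le_trans (le_inf hEW (le_normalizer.trans (by
          intro x hx
          rw [mem_normalizer_iff_map_conj_eq] at hx ⊢
          exact (H34.map_centralizer (MulAut.conj x) E).trans
            (by rw [show E.map (MulAut.conj x).toMonoidHom = E from hx]))))
          inf_normalizer_le_normalizer_inf
      exact (Subgroup.map_sup _ _ _).trans (congrArg₂ (· ⊔ ·)
        (mem_normalizer_iff_map_conj_eq.mp (hL he)) (mem_normalizer_iff_map_conj_eq.mp (hZn he)))
    rcases hirr _ hU1 le_sup_right hU2 with h | h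
    · exfalso
      refine hne ?_
      rw [sup_comm] at hsup
      exact (hsup.ge.trans (sup_le (le_sup_left.trans h.le) le_rfl)).trans inf_le_right
    · refine le_trans (commutator_mono (le_of_eq h.symm) le_rfl) ?_
      rw [commutator_le]
      intro x hx e he
      have hnorm : W ⊓ centralizer (E : Set G) ≤ normalizer ((⁅W, A⁆ : Subgroup G) : Set G) := by
        refine le_trans ?_ (centralizer_le_normalizer _)
        exact inf_le_left.trans ((le_centralizer_iff_isMulCommutative.mpr ‹_›).trans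
          (centralizer_le (commutator_le_of_le_normalizer hAW)))
      rw [← SetLike.mem_coe, coe_mul_of_right_le_normalizer_left _ _ hnorm] at hx
      obtain ⟨l, hl, z, hz, rfl⟩ := hx
      have hze : z * e = e * z := (mem_centralizer_iff.mp hz.2 e he).symm
      have : ⁅l * z, e⁆ = ⁅l, e⁆ := by
        simp only [commutatorElement_def, mul_inv_rev]
        calc l * z * e * (z⁻¹ * l⁻¹) * e⁻¹ = l * (z * e) * z⁻¹ * l⁻¹ * e⁻¹ := by group
          _ = l * (e * z) * z⁻¹ * l⁻¹ * e⁻¹ := by rw [hze]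
          _ = l * e * l⁻¹ * e⁻¹ := by group
      rw [this, commutatorElement_def, mul_assoc l e, mul_assoc l]
      exact mul_mem hl ((mem_normalizer_iff.mp (hL he) _).mp (inv_mem hl))
  rw [hV]
  refine ⟨?_, by rw [sup_comm]; exact hsup⟩
  refine le_bot_iff.mp (le_trans ?_ hinf.le)
  exact le_inf (le_inf (inf_le_left.trans (commutator_le_of_le_normalizer hAW)) inf_le_right) inf_le_left

end Cfsg.Agent.H51
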