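import Mathlib
import Cfsg.Agent.S2427

/-!
The derived subgroups of `SL₂(2)` and `SL₂(3)`.
-/

set_option linter.style.haveILetI false

namespace Cfsg.Agent.H51

open Matrix
open scoped commutatorElement

/-- The elements of the derived subgroup of `SL₂(2)` have order dividing three and commute. -/
theorem sl2_two_derived {g h : Matrix.SpecialLinearGroup (Fin 2) (ZMod 2)}
    (hg : g ∈ commutator (Matrix.SpecialLinearGroup (Fin 2) (ZMod 2)))
    (hh : h ∈ commutator (Matrix.SpecialLinearGroup (Fin 2) (ZMod 2))) :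
    g ^ 3 = 1 ∧ g * h = h * g := by
  have hpair : ∀ g h : Matrix.SpecialLinearGroup (Fin 2) (ZMod 2),
      g ^ 3 = 1 → h ^ 3 = 1 → (g * h) ^ 3 = 1 ∧ g * h = h * g := by decide +kernel
  have hcomm : ∀ g h : Matrix.SpecialLinearGroup (Fin 2) (ZMod 2),
      (g * h * g⁻¹ * h⁻¹) ^ 3 = 1 := by decide +kernel
  let K : Subgroup (Matrix.SpecialLinearGroup (Fin 2) (ZMod 2)) :=
    { carrier := {x | x ^ 3 = 1}
      one_mem' := one_pow 3
      mul_mem' := fun ha hb => (hpair _ _ ha hb).1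
      inv_mem' := fun {a} ha => by
        show a⁻¹ ^ 3 = 1
        rw [inv_pow, show a ^ 3 = 1 from ha, inv_one] }
  have hle : commutator (Matrix.SpecialLinearGroup (Fin 2) (ZMod 2)) ≤ K := by
    rw [commutator_def, Subgroup.commutator_le]
    intro a _ b _
    show ⁅a, b⁆ ^ 3 = 1
    rw [commutatorElement_def]
    exact hcomm a b
  exact ⟨hle hg, (hpair g h (hle hg) (hle hh)).2⟩

/-- A nontrivial element of order three of `SL₂(2)` fixes no nonzero vector. -/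
theorem sl2_two_fixed : ∀ g : Matrix.SpecialLinearGroup (Fin 2) (ZMod 2), g ^ 3 = 1 → g ≠ 1 →
    ∀ v : Fin 2 → ZMod 2, (g : Matrix (Fin 2) (Fin 2) (ZMod 2)).mulVec v = v → v = 0 := by
  decide +kernel

/-- A nontrivial even permutation of three letters fixes no nonzero even-weight vector. -/
theorem alt_three_fixed : ∀ σ : Equiv.Perm (Fin 3), Equiv.Perm.sign σ = 1 → σ ≠ 1 →
    ∀ v : Fin 3 → ZMod 2, v 0 + v 1 + v 2 = 0 → (∀ i, v (σ i) = v i) → v = 0 := by
  decide +kernel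

/-- An even permutation of three letters has order dividing three, and two of them commute. -/
theorem alt_three_comm : ∀ σ τ : Equiv.Perm (Fin 3), Equiv.Perm.sign σ = 1 →
    Equiv.Perm.sign τ = 1 → σ ^ 3 = 1 ∧ σ * τ = τ * σ := by
  decide +kernel

/-- The derived subgroup of `SL₂(3)` consists of `±1` and elements of square `-1`. -/
theorem sl2_three_derived {g : Matrix.SpecialLinearGroup (Fin 2) (ZMod 3)}
    (hg : g ∈ commutator (Matrix.SpecialLinearGroup (Fin 2) (ZMod 3))) :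
    g = 1 ∨ g = -1 ∨ g * g = -1 := by
  have h8 : g ^ 8 = 1 := by
    have := orderOf_dvd_natCard (⟨g, hg⟩ : ↥(commutator (Matrix.SpecialLinearGroup (Fin 2) (ZMod 3))))
    rw [Cfsg.Agent.S2427.result.2.2.1, Subgroup.orderOf_mk] at this
    exact orderOf_dvd_iff_pow_eq_one.mp this
  have key : ∀ g : Matrix.SpecialLinearGroup (Fin 2) (ZMod 3),
      g ^ 8 = 1 → g = 1 ∨ g = -1 ∨ g * g = -1 := by decide +kernel
  exact key g h8

/-- Two anticommuting elements of the derived subgroup of `SL₂(3)`. -/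
theorem sl2_three_anticommute : ∃ g h : Matrix.SpecialLinearGroup (Fin 2) (ZMod 3),
    g ∈ commutator (Matrix.SpecialLinearGroup (Fin 2) (ZMod 3)) ∧
      h ∈ commutator (Matrix.SpecialLinearGroup (Fin 2) (ZMod 3)) ∧ ⁅g, h⁆ = -1 ∧
      ∀ M : Matrix (Fin 2) (Fin 2) (ZMod 3), M * M = -1 →
        M = (g : Matrix (Fin 2) (Fin 2) (ZMod 3)) ∨ M = -(g : Matrix (Fin 2) (Fin 2) (ZMod 3)) ∨
        M = (h : Matrix (Fin 2) (Fin 2) (ZMod 3)) ∨ M = -(h : Matrix (Fin 2) (Fin 2) (ZMod 3)) ∨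
        M = ((g * h : Matrix.SpecialLinearGroup (Fin 2) (ZMod 3)) : Matrix (Fin 2) (Fin 2) (ZMod 3)) ∨
        M = -((g * h : Matrix.SpecialLinearGroup (Fin 2) (ZMod 3)) : Matrix (Fin 2) (Fin 2) (ZMod 3)) := by
  let w : Matrix.SpecialLinearGroup (Fin 2) (ZMod 3) := ⟨!![0, 1; -1, 0], by decide⟩
  let u : Matrix.SpecialLinearGroup (Fin 2) (ZMod 3) := ⟨!![1, 1; 0, 1], by decide⟩
  let l : Matrix.SpecialLinearGroup (Fin 2) (ZMod 3) := ⟨!![1, 0; 1, 1], by decide⟩
  refine ⟨⁅w, u⁆, ⁅w, l⁆, Subgroup.commutator_mem_commutator (Subgroup.mem_top _) (Subgroup.mem_top _),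
    Subgroup.commutator_mem_commutator (Subgroup.mem_top _) (Subgroup.mem_top _), ?_, ?_⟩
  · simp only [commutatorElement_def]
    decide +kernel
  · simp only [commutatorElement_def]
    have key : ∀ a b c d : ZMod 3,
        (!![a, b; c, d] : Matrix (Fin 2) (Fin 2) (ZMod 3)) * !![a, b; c, d] = -1 →
        !![a, b; c, d] = !![1, 2; 2, 2] ∨ !![a, b; c, d] = !![2, 1; 1, 1] ∨
          !![a, b; c, d] = !![2, 2; 2, 1] ∨ !![a, b; c, d] = !![1, 1; 1, 2] ∨
          !![a, b; c, d] = !![0, 1; 2, 0] ∨ !![a, b; c, d] = !![0, 2; 1, 0] := by decide +kernel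
    have e1 : ((w * u * w⁻¹ * u⁻¹ : Matrix.SpecialLinearGroup (Fin 2) (ZMod 3)) :
        Matrix (Fin 2) (Fin 2) (ZMod 3)) = !![1, 2; 2, 2] := by decide +kernel
    have e2 : ((w * l * w⁻¹ * l⁻¹ : Matrix.SpecialLinearGroup (Fin 2) (ZMod 3)) :
        Matrix (Fin 2) (Fin 2) (ZMod 3)) = !![2, 2; 2, 1] := by decide +kernel
    have e3 : (((w * u * w⁻¹ * u⁻¹) * (w * l * w⁻¹ * l⁻¹) : Matrix.SpecialLinearGroup (Fin 2) (ZMod 3)) :
        Matrix (Fin 2) (Fin 2) (ZMod 3)) = !![0, 1; 2, 0] := by decide +kernel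
    intro M hM
    rw [Matrix.eta_fin_two M] at hM ⊢
    rw [e3, e1, e2]
    have e4 : (-!![1, 2; 2, 2] : Matrix (Fin 2) (Fin 2) (ZMod 3)) = !![2, 1; 1, 1] := by decide +kernel
    have e5 : (-!![2, 2; 2, 1] : Matrix (Fin 2) (Fin 2) (ZMod 3)) = !![1, 1; 1, 2] := by decide +kernel
    have e6 : (-!![0, 1; 2, 0] : Matrix (Fin 2) (Fin 2) (ZMod 3)) = !![0, 2; 1, 0] := by decide +kernel
    rw [e4, e5, e6]
    exact key _ _ _ _ hM

end Cfsg.Agent.H51
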