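import Mathlib
import Cfsg.Agent.H51.BlockSection
import Cfsg.Agent.H51.SmallSL2
import Cfsg.Agent.H51.Quasisimple
import Cfsg.Agent.H1.PSLSimple

/-!
The three kinds of blocks: perfect with quasisimple quotient, quotient of order three (`p = 2`), and
quaternion quotient (`p = 3`).
-/

set_option linter.style.haveILetI false
set_option linter.unusedSectionVars false

namespace Cfsg.Agent.H51

open Subgroup Cfsg
open scoped Pointwise commutatorElement

variable {G : Type*} [Group G]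

/-- A block with quotient of order three: `Q = [W, E]` of order four with fixed-point-free action. -/
structure IsTwoBlock (E : Subgroup G) : Prop where
  cube : ∀ e ∈ E, e ^ 3 ∈ pCoreOf 2 E
  comm : ⁅E, E⁆ ≤ pCoreOf 2 E
  core_eq : pCoreOf 2 E = ⁅omegaOneCenter 2 (pCoreOf 2 E), E⁆
  card_module : Nat.card ↥⁅omegaOneCenter 2 (pCoreOf 2 E), E⁆ = 4
  inf_centralizer : ⁅omegaOneCenter 2 (pCoreOf 2 E), E⁆ ⊓ centralizer (E : Set G) = ⊥
  fixed : ∀ e ∈ E, e ∉ pCoreOf 2 E →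
    ∀ v ∈ ⁅omegaOneCenter 2 (pCoreOf 2 E), E⁆, e * v * e⁻¹ = v → v = 1

/-- A block with quaternion quotient, with its involution `z`. -/
structure IsThreeBlock (T E : Subgroup G) : Prop where
  invol : ∃ z ∈ ⁅E, E⁆, (orderOf z).Coprime 3 ∧ z ∉ pCoreOf 3 E ∧
    (∀ v ∈ ⁅omegaOneCenter 3 (pCoreOf 3 E), E⁆, z * v * z⁻¹ = v⁻¹) ∧
    (∀ q ∈ pCoreOf 3 E, z * q * z⁻¹ * q ∈ omegaOneCenter 3 (pCoreOf 3 E)) ∧
    (∀ q ∈ pCoreOf 3 E, z * q * z⁻¹ = q → q ∈ centralizer (E : Set G)) ∧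
    ∀ e ∈ E, e ∈ pCoreOf 3 E ∨ z⁻¹ * e ∈ pCoreOf 3 E ∨ z⁻¹ * e ^ 2 ∈ pCoreOf 3 E
  card_module : Nat.card ↥⁅omegaOneCenter 3 (pCoreOf 3 E), E⁆ = 9
  inf_centralizer : ⁅omegaOneCenter 3 (pCoreOf 3 E), E⁆ ⊓ centralizer (E : Set G) = ⊥
  faithful : ∀ e ∈ E, (∀ v ∈ ⁅omegaOneCenter 3 (pCoreOf 3 E), E⁆, e * v * e⁻¹ = v) →
    e ∈ pCoreOf 3 E
  realize : ∀ f ∈ normalizer ((⁅omegaOneCenter 3 (pCoreOf 3 E), E⁆ : Subgroup G) : Set G),
    (∀ v ∈ ⁅omegaOneCenter 3 (pCoreOf 3 E), E⁆, f * f * v * (f * f)⁻¹ = v⁻¹) →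
    ∃ e ∈ E, ∀ v ∈ ⁅omegaOneCenter 3 (pCoreOf 3 E), E⁆, f * v * f⁻¹ = e * v * e⁻¹
  layers : pCoreOf 3 E = ⁅omegaOneCenter 3 (pCoreOf 3 E), E⁆ ∨
    (⁅pCoreOf 3 E, pCoreOf 3 E⁆ = omegaOneCenter 3 (pCoreOf 3 E) ⊓ centralizer (E : Set G) ∧
      (omegaOneCenter 3 (pCoreOf 3 E)).relIndex (pCoreOf 3 E) = 9 ∧
      ∀ b ∈ baumannSubgroupOf 3 T, b ∉ centralizer (omegaOneCenter 3 (pCoreOf 3 E) : Set G) →
        ¬ ⁅⁅pCoreOf 3 E, zpowers b⁆, zpowers b⁆ ≤
          omegaOneCenter 3 (pCoreOf 3 E) ⊓ centralizer (E : Set G))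

theorem sl2_three_neg_one_ne_one :
    (-1 : Matrix.SpecialLinearGroup (Fin 2) (ZMod 3)) ≠ 1 := by decide +kernel

/-- A nonzero vector of even weight on three letters. -/
theorem three_vector : ∃ v : Fin 3 → ZMod 2, v ≠ 0 ∧ v 0 + v 1 + v 2 = 0 ∧ ∑ i, v i = 0 :=
  ⟨![1, 1, 0], by decide, by decide, by decide⟩

theorem card_even_weight_three :
    Nat.card {x : Fin 3 → ZMod 2 // ∑ i, x i = 0} = 4 := by
  rw [Nat.card_eq_fintype_card]; decide

/-- The index of the bottom of a coordinatized section. -/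
theorem relIndex_of_section {V : Type*} [Group V] {U U₀ : Subgroup G} (ψ : ↥U →* V)
    (hker : ∀ u : ↥U, ψ u = 1 ↔ (u : G) ∈ U₀) : U₀.relIndex U = Nat.card ψ.range := by
  rw [relIndex, ← Subgroup.index_ker]
  congr 1
  ext u
  rw [mem_subgroupOf, MonoidHom.mem_ker, hker]

variable [Finite G] {p : ℕ} [hp : Fact p.Prime]

omit hp in
theorem mem_pCoreOf_iff' {E : Subgroup G} (e : ↥E) : (e : G) ∈ pCoreOf p E ↔ e ∈ pCore p ↥E :=
  ⟨fun ⟨_, hy, h⟩ => Subtype.ext h ▸ hy, fun h => mem_map_of_mem _ h⟩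

omit hp in
theorem core_le_centralizer_omega (E : Subgroup G) :
    pCoreOf p E ≤ centralizer (omegaOneCenter p (pCoreOf p E) : Set G) :=
  le_centralizer_iff.mp ((H34.omegaOne_le _).trans inf_le_right)

omit hp in
theorem omega_le_core (E : Subgroup G) : omegaOneCenter p (pCoreOf p E) ≤ pCoreOf p E :=
  (H34.omegaOne_le _).trans inf_le_left

/-- In a block either `Q = W = [W, E]`, or `[Q, Q] = C_W(E)`. -/
theorem block_core_cases {T E : Subgroup G} (hE : IsBaumannBlock p T E) :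
    (pCoreOf p E = omegaOneCenter p (pCoreOf p E) ∧
      pCoreOf p E = ⁅omegaOneCenter p (pCoreOf p E), E⁆) ∨
    ⁅pCoreOf p E, pCoreOf p E⁆ = omegaOneCenter p (pCoreOf p E) ⊓ centralizer (E : Set G) := by
  have h1 : pCoreOf p E = omegaOneCenter p (pCoreOf p E) →
      pCoreOf p E = ⁅omegaOneCenter p (pCoreOf p E), E⁆ := fun h => by
    rw [← h]; exact hE.2.2.1.symm
  rcases hE.2.2.2.2 with ⟨F, _, _, n, -, -, -, h | ⟨-, -, h, -⟩⟩ | ⟨-, m, -, -, h⟩
  · exact Or.inl ⟨h, h1 h⟩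
  · exact Or.inr h
  · exact Or.inl ⟨h, h1 h⟩

/-- `[Q, Q] ≤ C_W(E)` in a block. -/
theorem block_core_comm_le {T E : Subgroup G} (hE : IsBaumannBlock p T E) :
    ⁅pCoreOf p E, pCoreOf p E⁆ ≤ omegaOneCenter p (pCoreOf p E) ⊓ centralizer (E : Set G) := by
  rcases block_core_cases hE with ⟨h, -⟩ | h
  · refine le_trans (le_of_eq ?_) bot_le
    rw [commutator_eq_bot_iff_le_centralizer]
    conv_rhs => rw [h]
    exact core_le_centralizer_omega E
  · exact h.le

/-- The section `Q/W` of a block is irreducible. -/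
theorem block_top_irreducible {T E : Subgroup G} (hE : IsBaumannBlock p T E) (U : Subgroup G)
    (h1 : omegaOneCenter p (pCoreOf p E) ≤ U) (h2 : U ≤ pCoreOf p E)
    (hEU : E ≤ normalizer (U : Set G)) :
    U = omegaOneCenter p (pCoreOf p E) ∨ U = pCoreOf p E := by
  rcases hE.2.2.2.2 with ⟨F, _, _, n, -, -, -, h | ⟨-, hsec, -⟩⟩ | ⟨-, m, -, -, h⟩
  · exact Or.inr (le_antisymm h2 (h.le.trans h1))
  · obtain ⟨-, -, ρ, ψ, hρ, hψ, hker, hact⟩ := hsec
    refine section_irreducible ψ _ hker hact ?_ h2 h1 hEU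
    intro A hA u hu hu1 w
    have := sl2_derived_irreducible A ?_ hu (fun h => hu1 (Multiplicative.toAdd.injective h))
    · rw [this]; trivial
    · intro g hg v hv
      rw [← hρ] at hg
      obtain ⟨e, rfl⟩ := hg
      exact hA e v hv
  · exact Or.inr (le_antisymm h2 (h.le.trans h1))

/-- A block with perfect quotient is perfect. -/
theorem block_perfect {T E : Subgroup G} (hE : IsBaumannBlock p T E)
    (h : commutator (↥E ⧸ pCore p ↥E) = ⊤) : ⁅E, E⁆ = E := by
  refine le_antisymm (commutator_le_self E) ?_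
  have h1 : commutator ↥E ⊔ pCore p ↥E = ⊤ := by
    have h2 : (commutator ↥E).map (QuotientGroup.mk' (pCore p ↥E)) = ⊤ := by
      rw [_root_.commutator_def, Subgroup.map_commutator,
        Subgroup.map_top_of_surjective _ (QuotientGroup.mk'_surjective _), ← _root_.commutator_def, h]
    have h3 := congrArg (Subgroup.comap (QuotientGroup.mk' (pCore p ↥E))) h2
    rwa [comap_map_eq, QuotientGroup.ker_mk', comap_top] at h3
  have h4 := congrArg (Subgroup.map E.subtype) h1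
  rw [Subgroup.map_sup, ← MonoidHom.range_eq_map, range_subtype, _root_.commutator_def,
    Subgroup.map_commutator, ← MonoidHom.range_eq_map, range_subtype] at h4
  refine h4.ge.trans (sup_le le_rfl ?_)
  exact hE.2.2.1.ge.trans (commutator_mono (H74.pCoreOf_le E) le_rfl)

/-- Cardinality of the derived group does not depend on the isomorphic copy of the field. -/
theorem card_derived_sl2_congr {F K : Type*} [Field F] [Field K] (σ : F ≃+* K) :
    Nat.card ↥(commutator (Matrix.SpecialLinearGroup (Fin 2) F)) =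
      Nat.card ↥(commutator (Matrix.SpecialLinearGroup (Fin 2) K)) := by
  let μ : Matrix.SpecialLinearGroup (Fin 2) F →* Matrix.SpecialLinearGroup (Fin 2) K :=
    Matrix.SpecialLinearGroup.map σ.toRingHom
  have hμ : Function.Surjective μ := by
    intro g
    refine ⟨Matrix.SpecialLinearGroup.map σ.symm.toRingHom g, ?_⟩
    apply Subtype.ext
    ext i j
    show σ (σ.symm ((g : Matrix (Fin 2) (Fin 2) K) i j)) = _
    exact σ.apply_symm_apply _
  have hinj : Function.Injective μ := by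
    intro a b hab
    apply Subtype.ext
    ext i j
    have h := congrArg (fun g : Matrix.SpecialLinearGroup (Fin 2) K => (g : Matrix (Fin 2) (Fin 2) K) i j) hab
    exact σ.injective h
  have hmap : (commutator (Matrix.SpecialLinearGroup (Fin 2) F)).map μ =
      commutator (Matrix.SpecialLinearGroup (Fin 2) K) := by
    rw [_root_.commutator_def, Subgroup.map_commutator, Subgroup.map_top_of_surjective _ hμ,
      _root_.commutator_def]
  rw [← hmap, card_map_of_injective hinj]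

/-- Assembling a block with quotient of order three from its action on `W/Z`. -/
theorem isTwoBlock_of_action [Fact (Nat.Prime 2)] {T E : Subgroup G} (hE : IsBaumannBlock 2 T E)
    (hQW : pCoreOf 2 E = omegaOneCenter 2 (pCoreOf 2 E))
    (hcube : ∀ e ∈ E, e ^ 3 ∈ pCoreOf 2 E) (hcomm : ⁅E, E⁆ ≤ pCoreOf 2 E)
    (hfix : ∀ e ∈ E, e ∉ pCoreOf 2 E → ∀ w ∈ omegaOneCenter 2 (pCoreOf 2 E),
      e * w * e⁻¹ * w⁻¹ ∈ omegaOneCenter 2 (pCoreOf 2 E) ⊓ centralizer (E : Set G) →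
      w ∈ omegaOneCenter 2 (pCoreOf 2 E) ⊓ centralizer (E : Set G))
    (hidx : (omegaOneCenter 2 (pCoreOf 2 E) ⊓ centralizer (E : Set G)).relIndex
      (omegaOneCenter 2 (pCoreOf 2 E)) = 4) : IsTwoBlock E := by
  set W := omegaOneCenter 2 (pCoreOf 2 E) with hW
  haveI : IsMulCommutative W := (omegaOneCenter_isElementaryAbelian (p := 2) (pCoreOf 2 E)).1
  obtain ⟨hne, hirr⟩ := block_irreducible hE
  have hEW : E ≤ normalizer (W : Set G) :=
    le_normalizer.trans (normalizer_le_normalizer_omegaCore E)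
  have hWp : IsPGroup 2 W := H34.IsPGroup_of_isElementaryAbelian (omegaOneCenter_isElementaryAbelian _)
  have hQp : IsPGroup 2 ↥(pCore 2 ↥E) := pCore_isPGroup 2 ↥E
  obtain ⟨g, hg, hgc, hgQ⟩ : ∃ g ∈ E, (orderOf g).Coprime 2 ∧ g ∉ pCoreOf 2 E := by
    obtain ⟨e, he⟩ : ∃ e : ↥E, e ∉ pCore 2 ↥E := by
      by_contra hno
      push Not at hno
      exact block_not_isPGroup hE ((hQp.to_le (fun x _ => hno x) : IsPGroup 2 ↥(⊤ : Subgroup ↥E)).of_equiv
        Subgroup.topEquiv)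
    obtain ⟨k, hk⟩ := hQp ⟨e ^ 3, (mem_pCoreOf_iff' _).mp (by simpa using hcube _ e.2)⟩
    have hk' : (e : G) ^ (3 * 2 ^ k) = 1 := by
      have := congrArg (fun x : ↥(pCore 2 ↥E) => ((x : ↥E) : G)) hk
      simpa [← pow_mul] using this
    refine ⟨(e : G) ^ 2 ^ k, pow_mem e.2 _, ?_, fun hmem => he ?_⟩
    · have h3 : orderOf ((e : G) ^ 2 ^ k) ∣ 3 := orderOf_dvd_of_pow_eq_one (by
        rw [← pow_mul, mul_comm]; exact hk')
      exact Nat.Coprime.coprime_dvd_left h3 (by norm_num)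
    · have h1 : (QuotientGroup.mk e : ↥E ⧸ pCore 2 ↥E) ^ 2 ^ k = 1 := by
        rw [← QuotientGroup.mk_pow, QuotientGroup.eq_one_iff]
        exact (mem_pCoreOf_iff' _).mp (by simpa using hmem)
      have h2 : (QuotientGroup.mk e : ↥E ⧸ pCore 2 ↥E) ^ 3 = 1 := by
        rw [← QuotientGroup.mk_pow, QuotientGroup.eq_one_iff]
        exact (mem_pCoreOf_iff' _).mp (by simpa using hcube _ e.2)
      have h3 := pow_gcd_eq_one.2 ⟨h1, h2⟩
      rw [Nat.Coprime.gcd_eq_one (Nat.Coprime.pow_left k (by norm_num)), pow_one] at h3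
      exact (QuotientGroup.eq_one_iff _).mp h3
  obtain ⟨hinf, hsup⟩ := exact_decomposition hWp hEW hirr hne hg hgc (fun e he w hw => by
    have hq : e * g * e⁻¹ * g⁻¹ ∈ pCoreOf 2 E := by
      rw [← commutatorElement_def]; exact hcomm (commutator_mem_commutator he hg)
    have hw' : g * w * g⁻¹ ∈ W := (mem_normalizer_iff.mp (hEW hg) w).mp hw
    have hc : (g * w * g⁻¹) * (e * g * e⁻¹ * g⁻¹) = (e * g * e⁻¹ * g⁻¹) * (g * w * g⁻¹) :=
      mem_centralizer_iff.mp (core_le_centralizer_omega E hq) _ hw'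
    calc e * g * e⁻¹ * w * (e * g * e⁻¹)⁻¹
        = (e * g * e⁻¹ * g⁻¹) * (g * w * g⁻¹) * (e * g * e⁻¹ * g⁻¹)⁻¹ := by group
      _ = (g * w * g⁻¹) * (e * g * e⁻¹ * g⁻¹) * (e * g * e⁻¹ * g⁻¹)⁻¹ := by rw [hc]
      _ = g * w * g⁻¹ := by group)
    (fun w hw hgw => (hfix g hg hgQ w hw (by rw [hgw, mul_inv_cancel]; exact one_mem _)).2)
  have hVW : ⁅W, E⁆ ≤ W := commutator_le_of_le_normalizer hEW
  refine ⟨hcube, hcomm, (block_core_cases hE).elim (fun h => h.2) fun _ => ?_, ?_, hinf,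
    fun e he heQ v hv hev => ?_⟩
  · conv_lhs => rw [← hE.2.2.1, hQW]
  · rw [← hidx, ← hsup]
    have e1 := relIndex_sup_right (K := (W ⊓ centralizer (E : Set G)).subgroupOf W)
      (H := (⁅W, E⁆).subgroupOf W)
    rw [← subgroupOf_sup hVW inf_le_left, hsup, relIndex_subgroupOf le_rfl,
      relIndex_subgroupOf hVW] at e1
    rw [hsup, e1, ← inf_relIndex_right (W ⊓ centralizer (E : Set G)),
      show (W ⊓ centralizer (E : Set G)) ⊓ ⁅W, E⁆ = ⊥ from le_bot_iff.mp
        ((le_inf inf_le_right (inf_le_left.trans inf_le_right)).trans hinf.le), relIndex_bot_left]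
  · have h1 := hfix e he heQ v (hVW hv) (by rw [hev, mul_inv_cancel]; exact one_mem _)
    have : v ∈ (⊥ : Subgroup G) := hinf ▸ ⟨hv, h1.2⟩
    exact mem_bot.mp this

/-- Assembling a block with quaternion quotient. -/
theorem isThreeBlock_of_sections [Fact (Nat.Prime 3)] {T E : Subgroup G} (hE : IsBaumannBlock 3 T E)
    (hcard : Nat.card (↥E ⧸ pCore 3 ↥E) =
      Nat.card ↥(commutator (Matrix.SpecialLinearGroup (Fin 2) (ZMod 3))))
    (hsec : ActsAsSL2OnSection (ZMod 3) (commutator (Matrix.SpecialLinearGroup (Fin 2) (ZMod 3))) E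
      (omegaOneCenter 3 (pCoreOf 3 E)) (omegaOneCenter 3 (pCoreOf 3 E) ⊓ centralizer (E : Set G)))
    (htop : pCoreOf 3 E = omegaOneCenter 3 (pCoreOf 3 E) ∨
      (ActsAsSL2OnSection (ZMod 3) (commutator (Matrix.SpecialLinearGroup (Fin 2) (ZMod 3))) E
          (pCoreOf 3 E) (omegaOneCenter 3 (pCoreOf 3 E)) ∧
        ⁅pCoreOf 3 E, pCoreOf 3 E⁆ = omegaOneCenter 3 (pCoreOf 3 E) ⊓ centralizer (E : Set G) ∧
        ∀ b ∈ baumannSubgroupOf 3 T, b ∉ centralizer (omegaOneCenter 3 (pCoreOf 3 E) : Set G) →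
          ¬ ⁅⁅pCoreOf 3 E, zpowers b⁆, zpowers b⁆ ≤
            omegaOneCenter 3 (pCoreOf 3 E) ⊓ centralizer (E : Set G))) :
    IsThreeBlock T E := by
  set Q := pCoreOf 3 E with hQdef
  set W := omegaOneCenter 3 Q with hW
  set Z := W ⊓ centralizer (E : Set G) with hZ
  have hWel : IsElementaryAbelian 3 W := omegaOneCenter_isElementaryAbelian Q
  haveI : IsMulCommutative W := hWel.1
  obtain ⟨hne, hirr⟩ := block_irreducible hE
  have hEW : E ≤ normalizer (W : Set G) :=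
    le_normalizer.trans (normalizer_le_normalizer_omegaCore E)
  have hWp : IsPGroup 3 W := H34.IsPGroup_of_isElementaryAbelian hWel
  have hQp : IsPGroup 3 Q := H74.pCoreOf_isPGroup E
  have hWQ : W ≤ Q := omega_le_core E
  obtain ⟨-, -, ρ, ψ, hρ, hψ, hker, hact⟩ := hsec
  have hρcard : Nat.card (↥E ⧸ pCore 3 ↥E) = Nat.card ρ.range := by rw [hρ, hcard]
  have hQρ : ∀ e : ↥E, e ∈ pCore 3 ↥E → ρ e = 1 := fun e he => by
    refine section_sl2_trivial ρ ψ hψ hker hact e fun u => ?_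
    have hc := mem_centralizer_iff.mp (core_le_centralizer_omega E ((mem_pCoreOf_iff' e).mpr he))
      (u : G) u.2
    rw [← hc, mul_inv_cancel_right, mul_inv_cancel]
    exact one_mem _
  have hiff : ∀ e : ↥E, ρ e = 1 ↔ (e : G) ∈ Q := fun e =>
    (section_ker_eq ρ hQρ hρcard e).trans (mem_pCoreOf_iff' e).symm
  obtain ⟨g₁, g₂, hg₁, hg₂, hg12, hlist⟩ := sl2_three_anticommute
  rw [← hρ] at hg₁ hg₂
  obtain ⟨e₁, rfl⟩ := hg₁
  obtain ⟨e₂, rfl⟩ := hg₂
  obtain ⟨z, hzc, hzcop, hρz⟩ : ∃ z : ↥E, z ∈ commutator ↥E ∧ (orderOf (z : G)).Coprime 3 ∧ ρ z = -1 := by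
    obtain ⟨k, m, hm, hkm⟩ := Nat.exists_eq_pow_mul_and_not_dvd
      (orderOf_pos (⁅e₁, e₂⁆ : ↥E)).ne' 3 (by norm_num)
    refine ⟨⁅e₁, e₂⁆ ^ 3 ^ k,
      pow_mem (commutator_mem_commutator (mem_top _) (mem_top _)) _, ?_, ?_⟩
    · rw [Subgroup.orderOf_coe, orderOf_pow' _ (by positivity), hkm,
        Nat.gcd_eq_right (Dvd.intro _ rfl), Nat.mul_div_cancel_left _ (by positivity)]
      exact (Nat.Prime.coprime_iff_not_dvd Nat.prime_three).mpr hm |>.symm
    · rw [map_pow, map_commutatorElement, hg12]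
      exact Odd.neg_one_pow (Odd.pow (by decide))
  have hzE : (z : G) ∈ E := z.2
  have hzQ : (z : G) ∉ Q := fun h => by
    rw [← hiff, hρz] at h
    exact sl2_three_neg_one_ne_one h
  have hsq : ∀ {x : G}, x ∈ Q → ∀ {U : Subgroup G}, x * x ∈ U → x ∈ U := by
    intro x hx U h2
    obtain ⟨k, hk⟩ := hQp ⟨x, hx⟩
    have hk' : x ^ 3 ^ k = 1 := by simpa using congrArg Subtype.val hk
    obtain ⟨r, hr⟩ : Odd (3 ^ k) := Odd.pow (by decide)
    have : x = (x * x) ^ (r + 1) := by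
      rw [← pow_two, ← pow_mul, show 2 * (r + 1) = 3 ^ k + 1 by omega, pow_succ, hk', one_mul]
    rw [this]
    exact pow_mem h2 _
  -- `z` inverts `W/Z`
  have hzW : ∀ w ∈ W, (z : G) * w * (z : G)⁻¹ * w ∈ Z := by
    intro w hw
    obtain ⟨w', hw', hwv⟩ := hact z ⟨w, hw⟩
    have h1 : ψ (w' * ⟨w, hw⟩) = 1 := by
      refine Multiplicative.toAdd.injective ?_
      rw [map_mul, toAdd_mul, hwv, hρz, toAdd_one, Matrix.SpecialLinearGroup.coe_neg,
        Matrix.neg_mulVec, Matrix.SpecialLinearGroup.coe_one, Matrix.one_mulVec, neg_add_cancel]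
    have h2 := (hker _).mp h1
    rwa [coe_mul, hw'] at h2
  have hfix : ∀ w ∈ W, (z : G) * w * (z : G)⁻¹ = w → w ∈ Z := by
    intro w hw h
    have := hzW w hw
    rw [h] at this
    exact hsq (hWQ hw) this
  obtain ⟨hinf, hsup⟩ := exact_decomposition hWp hEW hirr hne hzE hzcop (fun e he w hw => by
    have hq : e * z * e⁻¹ * (z : G)⁻¹ ∈ Q := by
      have := (hiff (⟨e, he⟩ * z * ⟨e, he⟩⁻¹ * z⁻¹)).mp (by
        rw [map_mul, map_mul, map_mul, map_inv, map_inv, hρz]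
        simp)
      simpa using this
    have hw' : (z : G) * w * (z : G)⁻¹ ∈ W := (mem_normalizer_iff.mp (hEW hzE) w).mp hw
    have hc : ((z : G) * w * (z : G)⁻¹) * (e * z * e⁻¹ * (z : G)⁻¹) =
        (e * z * e⁻¹ * (z : G)⁻¹) * ((z : G) * w * (z : G)⁻¹) :=
      mem_centralizer_iff.mp (core_le_centralizer_omega E hq) _ hw'
    calc e * z * e⁻¹ * w * (e * z * e⁻¹)⁻¹
        = (e * z * e⁻¹ * (z : G)⁻¹) * ((z : G) * w * (z : G)⁻¹) * (e * z * e⁻¹ * (z : G)⁻¹)⁻¹ := by group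
      _ = ((z : G) * w * (z : G)⁻¹) * (e * z * e⁻¹ * (z : G)⁻¹) * (e * z * e⁻¹ * (z : G)⁻¹)⁻¹ := by rw [hc]
      _ = z * w * (z : G)⁻¹ := by group)
    (fun w hw h => (hfix w hw h).2)
  set V := ⁅W, E⁆ with hV
  have hVW : V ≤ W := commutator_le_of_le_normalizer hEW
  have hEV : E ≤ normalizer (V : Set G) := normalizer_commutator_ge_right W E
  have hVZ : V ⊓ Z = ⊥ := le_bot_iff.mp ((le_inf inf_le_left (inf_le_right.trans inf_le_right)).trans hinf.le)
  have hVinv : ∀ v ∈ V, (z : G) * v * (z : G)⁻¹ = v⁻¹ := by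
    intro v hv
    have h1 : (z : G) * v * (z : G)⁻¹ * v ∈ V :=
      mul_mem ((mem_normalizer_iff.mp (hEV hzE) v).mp hv) hv
    have h2 : (z : G) * v * (z : G)⁻¹ * v ∈ (⊥ : Subgroup G) := hVZ ▸ ⟨h1, hzW v (hVW hv)⟩
    exact eq_inv_of_mul_eq_one_left (mem_bot.mp h2)
  have hzQinv : ∀ q ∈ Q, (z : G) * q * (z : G)⁻¹ * q ∈ W := by
    intro q hq
    rcases htop with h | ⟨htsec, hQQ, -⟩
    · have hq' : q ∈ W := h ▸ hq
      exact (hzW q hq').1
    obtain ⟨hEQ, -, ρ', ψ', hρ', hψ', hker', hact'⟩ := htsec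
    have hQρ' : ∀ e : ↥E, e ∈ pCore 3 ↥E → ρ' e = 1 := fun e he => by
      refine section_sl2_trivial ρ' ψ' hψ' hker' hact' e fun u => ?_
      rw [← commutatorElement_def]
      exact (hQQ.le (commutator_mem_commutator ((mem_pCoreOf_iff' e).mpr he) u.2)).1
    have hiff' : ∀ e : ↥E, ρ' e = 1 ↔ (e : G) ∈ Q := fun e =>
      (section_ker_eq ρ' hQρ' (by rw [hρ', hcard]) e).trans (mem_pCoreOf_iff' e).symm
    have hz' : ρ' z = -1 := by
      have h1 : ρ' z ∈ commutator (Matrix.SpecialLinearGroup (Fin 2) (ZMod 3)) := hρ' ▸ ⟨z, rfl⟩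
      have h2 : ρ' (z * z) = 1 := (hiff' _).mpr ((hiff _).mp (by rw [map_mul, hρz]; simp))
      rcases sl2_three_derived h1 with e | e | e
      · exact absurd ((hiff' z).mp e) hzQ
      · exact e
      · rw [map_mul, e] at h2
        exact absurd h2 sl2_three_neg_one_ne_one
    obtain ⟨q', hq', hqv⟩ := hact' z ⟨q, hq⟩
    have h1 : ψ' (q' * ⟨q, hq⟩) = 1 := by
      refine Multiplicative.toAdd.injective ?_
      rw [map_mul, toAdd_mul, hqv, hz', toAdd_one, Matrix.SpecialLinearGroup.coe_neg,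
        Matrix.neg_mulVec, Matrix.SpecialLinearGroup.coe_one, Matrix.one_mulVec, neg_add_cancel]
    have h2 := (hker' _).mp h1
    rwa [coe_mul, hq'] at h2
  have hψV : ∀ v ∈ V, ∀ (hv : v ∈ W), ψ ⟨v, hv⟩ = 1 → v = 1 := fun v hv hvW h => by
    have : v ∈ (⊥ : Subgroup G) := hVZ ▸ ⟨hv, (hker _).mp h⟩
    exact mem_bot.mp this
  have hVinj : ∀ a ∈ V, ∀ b ∈ V, ∀ (ha : a ∈ W) (hb : b ∈ W),
      ψ ⟨a, ha⟩ = ψ ⟨b, hb⟩ → a = b := by
    intro a ha b hb haW hbW h
    have := hψV (a * b⁻¹) (mul_mem ha (inv_mem hb)) (mul_mem haW (inv_mem hbW)) (by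
      rw [show (⟨a * b⁻¹, mul_mem haW (inv_mem hbW)⟩ : ↥W) = ⟨a, haW⟩ * ⟨b, hbW⟩⁻¹ from rfl,
        map_mul, map_inv, h, mul_inv_cancel])
    exact mul_inv_eq_one.mp this
  have hdec : ∀ w ∈ W, ∃ v ∈ V, ∃ c ∈ Z, w = v * c := by
    intro w hw
    rw [← hsup, ← SetLike.mem_coe, coe_mul_of_right_le_normalizer_left _ _ ?_] at hw
    · obtain ⟨v, hv, c, hc, rfl⟩ := hw
      exact ⟨v, hv, c, hc, rfl⟩
    · exact (inf_le_left.trans ((le_centralizer_iff_isMulCommutative.mpr ‹_›).trans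
        (centralizer_le hVW))).trans (centralizer_le_normalizer _)
  have hVsurj : ∀ x, ∃ v : ↥W, (v : G) ∈ V ∧ ψ v = x := by
    intro x
    obtain ⟨⟨w, hw⟩, rfl⟩ := hψ x
    obtain ⟨v, hv, c, hc, rfl⟩ := hdec w hw
    refine ⟨⟨v, hVW hv⟩, hv, ?_⟩
    rw [show (⟨v * c, hw⟩ : ↥W) = ⟨v, hVW hv⟩ * ⟨c, hc.1⟩ from rfl, map_mul,
      (hker ⟨c, hc.1⟩).mpr hc, mul_one]
  have hcardV : Nat.card ↥V = 9 := by
    let φ : ↥V → Multiplicative (Fin 2 → ZMod 3) := fun v => ψ ⟨v, hVW v.2⟩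
    have hbij : Function.Bijective φ := by
      refine ⟨fun a b h => Subtype.ext (hVinj a a.2 b b.2 _ _ h), fun x => ?_⟩
      obtain ⟨v, hv, rfl⟩ := hVsurj x
      exact ⟨⟨v, hv⟩, rfl⟩
    rw [Nat.card_eq_of_bijective φ hbij, Nat.card_congr Multiplicative.toAdd, Nat.card_fun,
      Nat.card_fin, Nat.card_zmod]
    norm_num
  have hfaith : ∀ e ∈ E, (∀ v ∈ V, e * v * e⁻¹ = v) → e ∈ Q := by
    intro e he h
    refine (hiff ⟨e, he⟩).mp (section_sl2_trivial ρ ψ hψ hker hact ⟨e, he⟩ fun u => ?_)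
    obtain ⟨v, hv, c, hc, hvc⟩ := hdec u u.2
    have hce : c * e = e * c := (mem_centralizer_iff.mp hc.2 e he).symm
    have h2 : e * (u : G) * e⁻¹ * (u : G)⁻¹ = 1 := by
      rw [hvc]
      calc e * (v * c) * e⁻¹ * (v * c)⁻¹ = (e * v * e⁻¹) * (e * c) * e⁻¹ * c⁻¹ * v⁻¹ := by group
        _ = v * (c * e) * e⁻¹ * c⁻¹ * v⁻¹ := by rw [h v hv, hce]
        _ = 1 := by group
    rw [h2]
    exact one_mem _
  have hzcomm : (z : G) ∈ ⁅E, E⁆ := by
    have := mem_map_of_mem E.subtype hzc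
    rwa [_root_.commutator_def, Subgroup.map_commutator, ← MonoidHom.range_eq_map,
      range_subtype] at this
  refine ⟨⟨z, hzcomm, hzcop, hzQ, hVinv, hzQinv, fun q hq h => ?_, fun e he => ?_⟩, hcardV, hinf,
    hfaith, fun f hf hff => ?_, ?_⟩
  · have h1 := hzQinv q hq
    rw [h] at h1
    exact (hfix q (hsq hq h1) h).2
  · have h1 : ρ ⟨e, he⟩ ∈ commutator (Matrix.SpecialLinearGroup (Fin 2) (ZMod 3)) := hρ ▸ ⟨_, rfl⟩
    rcases sl2_three_derived h1 with h | h | h
    · exact Or.inl ((hiff _).mp h)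
    · refine Or.inr (Or.inl ?_)
      have := (hiff (z⁻¹ * ⟨e, he⟩)).mp (by rw [map_mul, map_inv, hρz, h]; simp)
      simpa using this
    · refine Or.inr (Or.inr ?_)
      have := (hiff (z⁻¹ * ⟨e, he⟩ ^ 2)).mp (by rw [map_mul, map_inv, map_pow, pow_two, hρz, h]; simp)
      simpa using this
  · -- the action of `f` on `V` in coordinates
    choose vec hvecV hvecψ using fun x : Fin 2 → ZMod 3 => hVsurj (Multiplicative.ofAdd x)
    have hfV : ∀ v ∈ V, f * v * f⁻¹ ∈ V := fun v hv => (mem_normalizer_iff.mp hf v).mp hv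
    let α : (Fin 2 → ZMod 3) → (Fin 2 → ZMod 3) := fun x =>
      Multiplicative.toAdd (ψ ⟨f * (vec x : G) * f⁻¹, hVW (hfV _ (hvecV x))⟩)
    have hαv : ∀ v (hv : v ∈ V), α (Multiplicative.toAdd (ψ ⟨v, hVW hv⟩)) =
        Multiplicative.toAdd (ψ ⟨f * v * f⁻¹, hVW (hfV v hv)⟩) := by
      intro v hv
      have e : (vec (Multiplicative.toAdd (ψ ⟨v, hVW hv⟩)) : G) = v :=
        hVinj _ (hvecV _) v hv (SetLike.coe_mem _) (hVW hv) (by simp [hvecψ])
      simp only [α, e]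
    have hαadd : ∀ x y, α (x + y) = α x + α y := by
      intro x y
      have e : (vec (x + y) : G) = (vec x : G) * (vec y : G) :=
        hVinj _ (hvecV _) _ (mul_mem (hvecV x) (hvecV y)) (SetLike.coe_mem _)
          (hVW (mul_mem (hvecV x) (hvecV y))) (by
            rw [show (⟨(vec x : G) * (vec y : G), hVW (mul_mem (hvecV x) (hvecV y))⟩ : ↥W) =
              vec x * vec y from rfl, map_mul, hvecψ, hvecψ]
            simp [hvecψ])
      simp only [α]
      rw [← toAdd_mul, ← map_mul]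
      congr 2
      apply Subtype.ext
      show f * (vec (x + y) : G) * f⁻¹ = (f * (vec x : G) * f⁻¹) * (f * (vec y : G) * f⁻¹)
      rw [e]; group
    let αl : (Fin 2 → ZMod 3) →ₗ[ZMod 3] (Fin 2 → ZMod 3) :=
      AddMonoidHom.toZModLinearMap 3 (AddMonoidHom.mk' α hαadd)
    let M := LinearMap.toMatrix' αl
    have hM : ∀ x, M.mulVec x = α x := fun x => by
      rw [show M.mulVec x = Matrix.toLin' M x from (Matrix.toLin'_apply M x).symm]
      simp only [M, Matrix.toLin'_toMatrix']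
      rfl
    have hM2 : M * M = -1 := by
      refine Matrix.ext_of_mulVec_single fun i => ?_
      rw [← Matrix.mulVec_mulVec, hM, hM, Matrix.neg_mulVec, Matrix.one_mulVec]
      generalize (Pi.single i (1 : ZMod 3) : Fin 2 → ZMod 3) = x
      have h1 := hαv _ (hfV _ (hvecV x))
      rw [show α x = Multiplicative.toAdd (ψ ⟨f * (vec x : G) * f⁻¹, hVW (hfV _ (hvecV x))⟩) from rfl, h1]
      have h2 : ψ ⟨f * (f * (vec x : G) * f⁻¹) * f⁻¹, hVW (hfV _ (hfV _ (hvecV x)))⟩ = (ψ (vec x))⁻¹ := by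
        rw [← map_inv]
        congr 1
        apply Subtype.ext
        show f * (f * (vec x : G) * f⁻¹) * f⁻¹ = ((vec x : G))⁻¹
        rw [← hff _ (hvecV x)]; group
      rw [h2, hvecψ]
      rfl
    obtain ⟨r, hr⟩ : ∃ r : ↥E, ((ρ r : Matrix.SpecialLinearGroup (Fin 2) (ZMod 3)) :
        Matrix (Fin 2) (Fin 2) (ZMod 3)) = M := by
      rcases hlist M hM2 with h | h | h | h | h | h
      · exact ⟨e₁, h.symm⟩
      · exact ⟨z * e₁, by simp [hρz, h]⟩
      · exact ⟨e₂, h.symm⟩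
      · exact ⟨z * e₂, by simp [hρz, h]⟩
      · exact ⟨e₁ * e₂, by rw [map_mul, h]⟩
      · exact ⟨z * (e₁ * e₂), by simp [hρz, h]⟩
    refine ⟨r, r.2, fun v hv => ?_⟩
    obtain ⟨w, hw, hwv⟩ := hact r ⟨v, hVW hv⟩
    have hrV : (r : G) * v * (r : G)⁻¹ ∈ V := (mem_normalizer_iff.mp (hEV r.2) v).mp hv
    refine hVinj _ (hfV v hv) _ hrV (hVW (hfV v hv)) (hVW hrV) (Multiplicative.toAdd.injective ?_)
    rw [← hαv v hv, ← hM, ← hr, ← hwv]
    congr 2
    exact Subtype.ext hw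
  · rcases htop with h | ⟨⟨-, -, ρ', ψ', -, hψ', hker', -⟩, hQQ, hquad⟩
    · refine Or.inl ?_
      conv_lhs => rw [← hE.2.2.1, ← hQdef, h]
    · refine Or.inr ⟨hQQ, ?_, hquad⟩
      rw [relIndex_of_section ψ' hker', MonoidHom.range_eq_top.mpr hψ', card_top,
        Nat.card_congr Multiplicative.toAdd, Nat.card_fun, Nat.card_fin, Nat.card_zmod]
      norm_num

/-- The three kinds of blocks. -/
theorem block_trichotomy {T E : Subgroup G} (hE : IsBaumannBlock p T E) :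
    (⁅E, E⁆ = E ∧ IsQuasisimple (↥E ⧸ pCore p ↥E)) ∨ (p = 2 ∧ IsTwoBlock E) ∨
      (p = 3 ∧ IsThreeBlock T E) := by
  rcases hE.2.2.2.2 with ⟨F, _, _, n, hn, ⟨e₀⟩, hsec, htop⟩ | ⟨rfl, m, ⟨e₀⟩, hsec, hQW⟩
  · by_cases h4 : ∃ x : F, x ≠ 0 ∧ x ^ 2 ≠ 1
    · left
      have hcomm := H1.commutator_SL_eq_top (ι := Fin 2) (F := F) (Or.inr h4)
      have hq : IsQuasisimple (↥E ⧸ pCore p ↥E) :=
        quasisimple_of_equiv (⟨⟨hcomm⟩, H1.isSimpleGroup_PSL (Or.inr h4)⟩ :
          IsQuasisimple (Matrix.SpecialLinearGroup (Fin 2) F))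
          (e₀.trans ((MulEquiv.subgroupCongr hcomm).trans Subgroup.topEquiv)).symm
      exact ⟨block_perfect hE hq.1.commutator_eq_top, hq⟩
    push Not at h4
    have hle : Fintype.card F ≤ 3 := by
      classical
      have hsub : (Finset.univ : Finset F) ⊆ {0, 1, -1} := fun x _ => by
        by_cases hx : x = 0
        · simp [hx]
        · rcases sq_eq_one_iff.mp (h4 x hx) with h | h <;> simp [h]
      have := (Finset.card_le_card hsub).trans Finset.card_le_three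
      simpa using this
    have h1 := Fintype.one_lt_card (α := F)
    have hn0 : n ≠ 0 := fun e => by rw [e, pow_zero] at hn; omega
    have hpF : p = Fintype.card F ∧ (p = 2 ∨ p = 3) := by
      have hdvd : p ∣ Fintype.card F := hn ▸ dvd_pow_self p hn0
      rcases (by omega : Fintype.card F = 2 ∨ Fintype.card F = 3) with h | h
      · rw [h] at hdvd ⊢
        exact ⟨(Nat.prime_dvd_prime_iff_eq hp.out Nat.prime_two).mp hdvd,
          Or.inl ((Nat.prime_dvd_prime_iff_eq hp.out Nat.prime_two).mp hdvd)⟩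
      · rw [h] at hdvd ⊢
        exact ⟨(Nat.prime_dvd_prime_iff_eq hp.out Nat.prime_three).mp hdvd,
          Or.inr ((Nat.prime_dvd_prime_iff_eq hp.out Nat.prime_three).mp hdvd)⟩
    let σ : F ≃+* ZMod p := (ZMod.ringEquivOfPrime F hp.out hpF.1.symm).symm
    have hcard : Nat.card (↥E ⧸ pCore p ↥E) =
        Nat.card ↥(commutator (Matrix.SpecialLinearGroup (Fin 2) (ZMod p))) :=
      (Nat.card_congr e₀.toEquiv).trans (card_derived_sl2_congr σ)
    have hsec' := actsAsSL2_transport σ hsec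
    rcases hpF.2 with rfl | rfl
    · refine Or.inr (Or.inl ⟨rfl, ?_⟩)
      have hQW := htop.resolve_right fun h => absurd h.1 (by decide)
      obtain ⟨-, -, ρ, ψ, hρ, hψ, hker, hact⟩ := hsec'
      have hiff : ∀ e : ↥E, ρ e = 1 ↔ (e : G) ∈ pCoreOf 2 E := fun e =>
        (section_ker_eq ρ (fun e he => by
          refine section_sl2_trivial ρ ψ hψ hker hact e fun u => ?_
          have hc := mem_centralizer_iff.mp
            (core_le_centralizer_omega E ((mem_pCoreOf_iff' e).mpr he)) (u : G) u.2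
          rw [← hc, mul_inv_cancel_right, mul_inv_cancel]
          exact one_mem _) (by rw [hρ, hcard]) e).trans (mem_pCoreOf_iff' e).symm
      have hmem : ∀ e : ↥E, ρ e ∈ commutator (Matrix.SpecialLinearGroup (Fin 2) (ZMod 2)) :=
        fun e => hρ ▸ ⟨e, rfl⟩
      refine isTwoBlock_of_action hE hQW (fun e he => ?_) ?_ (fun e he heQ w hw h => ?_) ?_
      · have := (hiff ((⟨e, he⟩ : ↥E) ^ 3)).mp (by
          rw [map_pow]; exact (sl2_two_derived (hmem _) (hmem ⟨e, he⟩)).1)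
        simpa using this
      · rw [commutator_le]
        intro a ha b hb
        have := (hiff ⁅(⟨a, ha⟩ : ↥E), ⟨b, hb⟩⁆).mp (by
          rw [map_commutatorElement, commutatorElement_eq_one_iff_commute]
          exact (sl2_two_derived (hmem _) (hmem _)).2)
        simpa [commutatorElement_def] using this
      · obtain ⟨w', hw', hwv⟩ := hact ⟨e, he⟩ ⟨w, hw⟩
        have h2 : ψ (w' * ⟨w, hw⟩⁻¹) = 1 := (hker _).mpr (by rw [coe_mul, coe_inv, hw']; exact h)
        rw [map_mul, map_inv, mul_inv_eq_one] at h2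
        rw [h2] at hwv
        refine (hker ⟨w, hw⟩).mp (Multiplicative.toAdd.injective ?_)
        exact sl2_two_fixed _ (sl2_two_derived (hmem ⟨e, he⟩) (hmem ⟨e, he⟩)).1
          (fun hr => heQ ((hiff ⟨e, he⟩).mp hr)) _ hwv.symm
      · rw [relIndex_of_section ψ hker, MonoidHom.range_eq_top.mpr hψ, card_top,
          Nat.card_congr Multiplicative.toAdd, Nat.card_fun, Nat.card_fin, Nat.card_zmod]
        norm_num
    · refine Or.inr (Or.inr ⟨rfl, isThreeBlock_of_sections hE hcard hsec' ?_⟩)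
      rcases htop with h | ⟨-, htsec, hQQ, -, hcent, -, hquad⟩
      · exact Or.inl h
      · refine Or.inr ⟨actsAsSL2_transport σ htsec, hQQ, fun b hb hbc hle => ?_⟩
        exact hquad b hb hbc (hcent ▸ hle)
  · rcases Nat.lt_or_ge m 2 with hm | hm
    · refine Or.inr (Or.inl ⟨rfl, ?_⟩)
      obtain ⟨-, -, ρ, ψ, hρ, hsum, hsurj, hker, hact⟩ := hsec
      rcases Nat.eq_zero_or_pos m with rfl | hm0
      · exfalso
        refine block_not_isPGroup hE ((pCore_isPGroup 2 ↥E).to_le ?_ |>.of_equiv Subgroup.topEquiv)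
        intro x _
        refine (QuotientGroup.eq_one_iff x).mp (e₀.injective ?_)
        exact Subtype.ext (Equiv.ext fun i => Fin.ext (by omega))
      obtain rfl : m = 1 := by omega
      have hmem : ∀ e : ↥E, Equiv.Perm.sign (ρ e) = 1 := fun e =>
        Equiv.Perm.mem_alternatingGroup.mp (hρ ▸ ⟨e, rfl⟩)
      have htriv : ∀ e : ↥E, e ∈ pCore 2 ↥E → ρ e = 1 := fun e he => by
        by_contra hne
        obtain ⟨v₀, hv₀, hv₀', hv₀s⟩ := three_vector
        obtain ⟨u, hu⟩ := hsurj v₀ hv₀s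
        obtain ⟨w, hw, hwv⟩ := hact e u
        have hwu : w = u := by
          apply Subtype.ext
          rw [hw, ← mem_centralizer_iff.mp
            (core_le_centralizer_omega E ((mem_pCoreOf_iff' e).mpr he)) (u : G) u.2]
          group
        rw [hwu] at hwv
        have := alt_three_fixed (ρ e)⁻¹ (by rw [map_inv, hmem e, inv_one])
          (fun h => hne (inv_eq_one.mp h)) _ (by rw [hu]; exact hv₀') (fun i => (hwv i).symm)
        rw [hu] at this
        exact hv₀ this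
      have hiff : ∀ e : ↥E, ρ e = 1 ↔ (e : G) ∈ pCoreOf 2 E := fun e =>
        (section_ker_eq ρ htriv (by rw [hρ]; exact Nat.card_congr e₀.toEquiv) e).trans
          (mem_pCoreOf_iff' e).symm
      refine isTwoBlock_of_action hE hQW (fun e he => ?_) ?_ (fun e he heQ w hw h => ?_) ?_
      · have := (hiff ((⟨e, he⟩ : ↥E) ^ 3)).mp (by
          rw [map_pow]; exact (alt_three_comm _ _ (hmem _) (hmem ⟨e, he⟩)).1)
        simpa using this
      · rw [commutator_le]
        intro a ha b hb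
        have := (hiff ⁅(⟨a, ha⟩ : ↥E), ⟨b, hb⟩⁆).mp (by
          rw [map_commutatorElement, commutatorElement_eq_one_iff_commute]
          exact (alt_three_comm _ _ (hmem _) (hmem _)).2)
        simpa [commutatorElement_def] using this
      · obtain ⟨w', hw', hwv⟩ := hact ⟨e, he⟩ ⟨w, hw⟩
        have h2 : ψ (w' * ⟨w, hw⟩⁻¹) = 1 := (hker _).mpr (by rw [coe_mul, coe_inv, hw']; exact h)
        rw [map_mul, map_inv, mul_inv_eq_one] at h2
        rw [h2] at hwv
        refine (hker ⟨w, hw⟩).mp (Multiplicative.toAdd.injective ?_)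
        refine alt_three_fixed (ρ ⟨e, he⟩)⁻¹ (by rw [map_inv, hmem, inv_one])
          (fun hr => heQ ((hiff ⟨e, he⟩).mp (inv_eq_one.mp hr))) _ ?_ (fun i => (hwv i).symm)
        have := hsum ⟨w, hw⟩
        rwa [Fin.sum_univ_three] at this
      · rw [relIndex_of_section ψ hker]
        have hrange : (ψ.range : Set (Multiplicative (Fin 3 → ZMod 2))) =
            {x : Multiplicative (Fin 3 → ZMod 2) | ∑ i, (Multiplicative.toAdd x) i = 0} := by
          ext x
          constructor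
          · rintro ⟨u, rfl⟩
            exact hsum u
          · intro hx
            obtain ⟨u, hu⟩ := hsurj _ hx
            exact ⟨u, Multiplicative.toAdd.injective hu⟩
        rw [← SetLike.coe_sort_coe, hrange]
        exact card_even_weight_three
    · left
      have h5 : 5 ≤ Nat.card (Fin (2 * m + 1)) := by rw [Nat.card_fin]; omega
      haveI := alternatingGroup.isSimpleGroup h5
      have hna : ¬ IsMulCommutative (alternatingGroup (Fin (2 * m + 1))) := by
        intro h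
        have h1 := alternatingGroup.center_eq_bot (α := Fin (2 * m + 1)) (by rw [Nat.card_fin]; omega)
        haveI : Nontrivial (alternatingGroup (Fin (2 * m + 1))) := IsSimpleGroup.toNontrivial
        obtain ⟨x, hx⟩ := exists_ne (1 : alternatingGroup (Fin (2 * m + 1)))
        refine hx (mem_bot.mp (h1 ▸ mem_center_iff.mpr fun y => ?_))
        exact h.is_comm.comm y x
      have hq : IsQuasisimple (↥E ⧸ pCore 2 ↥E) :=
        quasisimple_of_equiv (isQuasisimple_of_isSimpleGroup hna) e₀.symm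
      exact ⟨block_perfect hE hq.1.commutator_eq_top, hq⟩

end Cfsg.Agent.H51
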