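import Cfsg.Agent.H51.BaumannBasic

/-!
Blocks are transported by isomorphisms of the ambient group.
-/

set_option autoImplicit false
set_option linter.unusedSectionVars false

namespace Cfsg.Agent.H51

open Subgroup Cfsg

variable {G G' : Type*} [Group G] [Group G'] [Finite G] {p : ℕ} [Fact p.Prime]

theorem map_pResidualOf (e : G ≃* G') (E : Subgroup G) :
    (pResidualOf p E).map e.toMonoidHom = pResidualOf p (E.map e.toMonoidHom) := by
  haveI : Finite G' := Finite.of_equiv G e.toEquiv
  rw [pResidualOf, pResidualOf, H72.pResidual_map_eq, H72.pResidual_map_eq, MonoidHom.map_closure]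
  congr 1
  ext x
  simp only [Set.mem_image, Set.mem_setOf_eq, mem_map]
  constructor
  · rintro ⟨y, ⟨hy, hc⟩, rfl⟩
    exact ⟨⟨y, hy, rfl⟩, by rwa [MulEquiv.coe_toMonoidHom, MulEquiv.orderOf_eq]⟩
  · rintro ⟨⟨y, hy, rfl⟩, hc⟩
    exact ⟨y, ⟨hy, by rwa [MulEquiv.coe_toMonoidHom, MulEquiv.orderOf_eq] at hc⟩, rfl⟩

omit [Finite G] in
theorem actsAsSL2_map (φ : G ≃* G') {F : Type*} [Field F]
    {R : Subgroup (Matrix.SpecialLinearGroup (Fin 2) F)} {E U U₀ : Subgroup G}
    (h : ActsAsSL2OnSection F R E U U₀) :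
    ActsAsSL2OnSection F R (E.map φ.toMonoidHom) (U.map φ.toMonoidHom) (U₀.map φ.toMonoidHom) := by
  obtain ⟨hEU, hle, ρ, ψ, hρ, hψ, hker, hact⟩ := h
  let eE := E.equivMapOfInjective φ.toMonoidHom φ.injective
  let eU := U.equivMapOfInjective φ.toMonoidHom φ.injective
  refine ⟨(map_mono hEU).trans (le_normalizer_map _), map_mono hle, ρ.comp eE.symm.toMonoidHom,
    ψ.comp eU.symm.toMonoidHom, ?_, hψ.comp eU.symm.surjective, fun u => ?_, fun e u => ?_⟩
  · rw [MonoidHom.range_comp, MonoidHom.range_eq_top.mpr eE.symm.surjective, ← MonoidHom.range_eq_map, hρ]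
  · obtain ⟨u, rfl⟩ := eU.surjective u
    show ψ (eU.symm (eU u)) = 1 ↔ _
    rw [eU.symm_apply_apply, hker u]
    exact (mem_map_iff_mem φ.injective).symm
  · obtain ⟨e, rfl⟩ := eE.surjective e
    obtain ⟨u, rfl⟩ := eU.surjective u
    obtain ⟨w, hw, hwv⟩ := hact e u
    refine ⟨eU w, ?_, ?_⟩
    · show φ (w : G) = φ (e : G) * φ (u : G) * (φ (e : G))⁻¹
      rw [hw, map_mul, map_mul, map_inv]
    · show Multiplicative.toAdd (ψ (eU.symm (eU w))) =
        ((ρ (eE.symm (eE e)) : Matrix.SpecialLinearGroup (Fin 2) F) :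
          Matrix (Fin 2) (Fin 2) F).mulVec (Multiplicative.toAdd (ψ (eU.symm (eU u))))
      rw [eU.symm_apply_apply, eU.symm_apply_apply, eE.symm_apply_apply]
      exact hwv

omit [Finite G] in
theorem actsAsPerm_map (φ : G ≃* G') {n : ℕ} {R : Subgroup (Equiv.Perm (Fin n))}
    {E U U₀ : Subgroup G} (h : ActsAsOddPermModuleOnSection n R E U U₀) :
    ActsAsOddPermModuleOnSection n R (E.map φ.toMonoidHom) (U.map φ.toMonoidHom)
      (U₀.map φ.toMonoidHom) := by
  obtain ⟨hEU, hle, ρ, ψ, hρ, hsum, hsurj, hker, hact⟩ := h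
  let eE := E.equivMapOfInjective φ.toMonoidHom φ.injective
  let eU := U.equivMapOfInjective φ.toMonoidHom φ.injective
  refine ⟨(map_mono hEU).trans (le_normalizer_map _), map_mono hle, ρ.comp eE.symm.toMonoidHom,
    ψ.comp eU.symm.toMonoidHom, ?_, fun u => hsum _, fun v hv => ?_, fun u => ?_, fun e u => ?_⟩
  · rw [MonoidHom.range_comp, MonoidHom.range_eq_top.mpr eE.symm.surjective, ← MonoidHom.range_eq_map, hρ]
  · obtain ⟨u, hu⟩ := hsurj v hv
    refine ⟨eU u, ?_⟩
    show Multiplicative.toAdd (ψ (eU.symm (eU u))) = v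
    rw [eU.symm_apply_apply, hu]
  · obtain ⟨u, rfl⟩ := eU.surjective u
    show ψ (eU.symm (eU u)) = 1 ↔ _
    rw [eU.symm_apply_apply, hker u]
    exact (mem_map_iff_mem φ.injective).symm
  · obtain ⟨e, rfl⟩ := eE.surjective e
    obtain ⟨u, rfl⟩ := eU.surjective u
    obtain ⟨w, hw, hwv⟩ := hact e u
    refine ⟨eU w, ?_, ?_⟩
    · show φ (w : G) = φ (e : G) * φ (u : G) * (φ (e : G))⁻¹
      rw [hw, map_mul, map_mul, map_inv]
    · intro i
      show Multiplicative.toAdd (ψ (eU.symm (eU w))) i =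
        Multiplicative.toAdd (ψ (eU.symm (eU u))) ((ρ (eE.symm (eE e)))⁻¹ i)
      rw [eU.symm_apply_apply, eU.symm_apply_apply, eE.symm_apply_apply]
      exact hwv i

/-- The Frattini subgroup is transported by isomorphisms. -/
theorem map_frattini_equiv {A B : Type*} [Group A] [Group B] (e : A ≃* B) :
    (frattini A).map e.toMonoidHom = frattini B := by
  refine le_antisymm (map_le_iff_le_comap.mpr
    (frattini_le_comap_frattini_of_surjective e.surjective)) ?_
  intro x hx
  rw [mem_map_equiv]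
  exact frattini_le_comap_frattini_of_surjective (φ := e.symm.toMonoidHom) e.symm.surjective hx

/-- The quotient of a subgroup by its `p`-core is transported by isomorphisms. -/
theorem quotient_pCore_congr {A B : Type*} [Group A] [Group B] (e : A ≃* B) (p : ℕ) :
    Nonempty (A ⧸ pCore p A ≃* B ⧸ pCore p B) := by
  haveI := pCore_normal p A
  haveI := pCore_normal p B
  exact ⟨QuotientGroup.congr (pCore p A) (pCore p B) e (pCore_map_equiv p e)⟩

/-- Blocks are transported by isomorphisms. -/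
theorem isBaumannBlock_map (φ : G ≃* G') {T E : Subgroup G} (h : IsBaumannBlock p T E) :
    IsBaumannBlock p (T.map φ.toMonoidHom) (E.map φ.toMonoidHom) := by
  obtain ⟨h1, h2, h3, h4, h5⟩ := h
  have hQ : (pCoreOf p E).map φ.toMonoidHom = pCoreOf p (E.map φ.toMonoidHom) :=
    (H72.pCoreOf_map_equiv φ p E).symm
  have hW : (omegaOneCenter p (pCoreOf p E)).map φ.toMonoidHom =
      omegaOneCenter p (pCoreOf p (E.map φ.toMonoidHom)) := by
    rw [map_omegaOneCenter, hQ]
  have hEC : ∀ A : Subgroup G, (A ⊓ centralizer (E : Set G)).map φ.toMonoidHom =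
      A.map φ.toMonoidHom ⊓ centralizer ((E.map φ.toMonoidHom : Subgroup G') : Set G') := fun A => by
    rw [Subgroup.map_inf _ _ _ φ.injective, H34.map_centralizer]
  obtain ⟨eq⟩ := quotient_pCore_congr (E.equivMapOfInjective φ.toMonoidHom φ.injective) p
  refine ⟨?_, ?_, ?_, ?_, ?_⟩
  · rw [← map_pResidualOf, h1]
  · rw [← map_baumannSubgroupOf, ← Subgroup.map_commutator, h2]
  · rw [← hQ, ← Subgroup.map_commutator, h3]
  · rw [← map_omegaOneCenter, ← Subgroup.map_commutator]
    exact fun h => h4 ((map_eq_bot_iff_of_injective _ φ.injective).mp h)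
  · rcases h5 with ⟨F, i1, i2, n, hn, ⟨e₀⟩, hsec, htop⟩ | ⟨rfl, m, ⟨e₀⟩, hsec, hQW⟩
    · refine Or.inl ⟨F, i1, i2, n, hn, ⟨eq.symm.trans e₀⟩, ?_, ?_⟩
      · rw [← hW, ← hEC]
        exact actsAsSL2_map φ hsec
      · rcases htop with h | ⟨hp3, hts, hQQ, hfr, hcen, hcard, hquad⟩
        · exact Or.inl (by rw [← hW, ← h, hQ])
        · refine Or.inr ⟨hp3, ?_, ?_, ?_, ?_, ?_, ?_⟩
          · rw [← hW, ← hQ]
            exact actsAsSL2_map φ hts
          · rw [← hW, ← hEC, ← hQ, ← Subgroup.map_commutator, hQQ]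
          · rw [← hW, ← hEC, ← hfr, ← hQ, Subgroup.map_map]
            let eQ := (pCoreOf p E).equivMapOfInjective φ.toMonoidHom φ.injective
            haveI : Finite G' := Finite.of_equiv G φ.toEquiv
            rw [← map_frattini_equiv eQ, Subgroup.map_map]
            congr 1
          · rw [← hW, ← hEC, ← hEC, hcen]
          · rw [← hEC, card_map_of_injective φ.injective, hcard]
          · intro b hb hbc hle
            rw [← map_baumannSubgroupOf] at hb
            obtain ⟨b, hb', rfl⟩ := hb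
            refine hquad b hb' (fun hc => hbc ?_) ?_
            · rw [← hW, ← H34.map_centralizer]
              exact mem_map_of_mem _ hc
            · rw [← hEC, ← hQ, ← MonoidHom.map_zpowers, ← Subgroup.map_commutator,
                ← Subgroup.map_commutator, map_le_map_iff_of_injective φ.injective] at hle
              exact hle
    · refine Or.inr ⟨rfl, m, ⟨eq.symm.trans e₀⟩, ?_, by rw [← hW, ← hQW, hQ]⟩
      rw [← hW, ← hEC]
      exact actsAsPerm_map φ hsec

/-- Conjugates of a block are blocks. -/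
theorem isBaumannBlock_conj (g : G) {T : Sylow p G} {E : Subgroup G}
    (h : IsBaumannBlock p (T : Subgroup G) E) :
    ∃ T' : Sylow p G, IsBaumannBlock p (T' : Subgroup G) (E.map (MulAut.conj g).toMonoidHom) :=
  ⟨g • T, isBaumannBlock_map (MulAut.conj g) h⟩

end Cfsg.Agent.H51
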