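import Mathlib

/-!
On an irreducible abelian section the operators commuting with the action form a field, so a
commutator of operators acting in this way is trivial on the section.
-/

set_option autoImplicit false

namespace Cfsg.Agent.H51

open Subgroup
open scoped commutatorElement

section Endo

variable {M : Type*} [AddCommGroup M] [Finite M]

/-- A nonzero finite ring of injective-or-zero endomorphisms is commutative. -/
theorem commutant_comm (S : Set (AddMonoid.End M))
    (hirr : ∀ N : AddSubgroup M, (∀ s ∈ S, ∀ m ∈ N, s m ∈ N) → N = ⊥ ∨ N = ⊤)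
    {a b : AddMonoid.End M} (ha : a ∈ Subring.centralizer S) (hb : b ∈ Subring.centralizer S) :
    a * b = b * a := by
  by_cases hM : Subsingleton M
  · ext m; exact Subsingleton.elim _ _
  rw [not_subsingleton_iff_nontrivial] at hM
  obtain ⟨m₀, hm₀⟩ := exists_ne (0 : M)
  haveI : Finite (AddMonoid.End M) :=
    Finite.of_injective (fun f : AddMonoid.End M => (f : M → M)) DFunLike.coe_injective
  have hker : ∀ c ∈ Subring.centralizer S, c ≠ 0 → Function.Injective c := by
    intro c hc hc0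
    rcases hirr (AddMonoidHom.ker c) (fun s hs m hm => by
      have hm' : c m = 0 := hm
      show c (s m) = 0
      have h := DFunLike.congr_fun (Subring.mem_centralizer_iff.mp hc s hs) m
      rw [show c (s m) = s (c m) from h.symm]
      exact (congrArg s hm').trans (map_zero s)) with h | h
    · exact (AddMonoidHom.ker_eq_bot_iff c).mp h
    · exact absurd (AddMonoidHom.ext fun m =>
        AddMonoidHom.mem_ker.mp (h ▸ AddSubgroup.mem_top m : m ∈ AddMonoidHom.ker c)) hc0
  haveI : NoZeroDivisors ↥(Subring.centralizer S) := by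
    refine ⟨fun {x y} hxy => ?_⟩
    by_contra hne
    push Not at hne
    have hx := hker x x.2 (fun h => hne.1 (Subtype.ext h))
    refine hne.2 (Subtype.ext (DFunLike.ext _ _ fun m => hx ?_))
    have := DFunLike.congr_fun (congrArg Subtype.val hxy) m
    exact this.trans (map_zero (x : AddMonoid.End M)).symm
  haveI : Nontrivial ↥(Subring.centralizer S) := by
    refine ⟨⟨0, 1, fun h => hm₀ ?_⟩⟩
    exact (DFunLike.congr_fun (congrArg Subtype.val h) m₀).symm
  haveI : IsDomain ↥(Subring.centralizer S) := NoZeroDivisors.to_isDomain _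
  have h := (Finite.isDomain_to_isField ↥(Subring.centralizer S)).mul_comm ⟨a, ha⟩ ⟨b, hb⟩
  exact congrArg Subtype.val h

end Endo

variable {G : Type*} [Group G]

/-- An abelian section: the top normalizes the bottom. -/
theorem normalizer_le_self_helper {A A₀ : Subgroup G} (hle : A₀ ≤ A) (hab : ⁅A, A⁆ ≤ A₀) {a : G}
    (ha : a ∈ A) : a ∈ normalizer (A₀ : Set G) := by
  have key : ∀ b ∈ A, ∀ n ∈ A₀, b * n * b⁻¹ ∈ A₀ := fun b hb n hn => by
    have := mul_mem (hab (commutator_mem_commutator hb (hle hn))) hn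
    rwa [commutatorElement_def, inv_mul_cancel_right] at this
  rw [mem_normalizer_iff]
  refine fun n => ⟨key a ha n, fun hn => ?_⟩
  have := key a⁻¹ (inv_mem ha) _ hn
  simpa [mul_assoc] using this

/-- Conjugation on a section, as a homomorphism to endomorphisms. -/
theorem section_commutator_trivial [Finite G] {E X A A₀ : Subgroup G} (hle : A₀ ≤ A)
    (hab : ⁅A, A⁆ ≤ A₀)
    (hEA : E ≤ normalizer (A : Set G)) (hEA₀ : E ≤ normalizer (A₀ : Set G))
    (hXA : X ≤ normalizer (A : Set G)) (hXA₀ : X ≤ normalizer (A₀ : Set G))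
    (hirr : ∀ U : Subgroup G, A₀ ≤ U → U ≤ A → E ≤ normalizer (U : Set G) → U = A₀ ∨ U = A)
    (hcomm : ∀ e ∈ E, ∀ x ∈ X, ∀ a ∈ A, ⁅e, x⁆ * a * ⁅e, x⁆⁻¹ * a⁻¹ ∈ A₀)
    {y : G} (hy : y ∈ ⁅X, X⁆) {a : G} (ha : a ∈ A) : y * a * y⁻¹ * a⁻¹ ∈ A₀ := by
  haveI : (A₀.subgroupOf A).Normal := by
    refine ⟨fun n hn g => ?_⟩
    rw [mem_subgroupOf] at hn ⊢
    have h1 : ⁅(g : G), (n : G)⁆ ∈ A₀ := hab (commutator_mem_commutator g.2 n.2)
    have := A₀.mul_mem h1 hn
    simpa [commutatorElement_def] using this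
  letI : CommGroup (↥A ⧸ A₀.subgroupOf A) :=
    { (inferInstance : Group (↥A ⧸ A₀.subgroupOf A)) with
      mul_comm := fun u v => by
        induction u using QuotientGroup.induction_on with | _ u => ?_
        induction v using QuotientGroup.induction_on with | _ v => ?_
        rw [← QuotientGroup.mk_mul, ← QuotientGroup.mk_mul, QuotientGroup.eq, mem_subgroupOf]
        have h1 : ⁅(v : G)⁻¹, (u : G)⁻¹⁆ ∈ A₀ := hab (commutator_mem_commutator (inv_mem v.2) (inv_mem u.2))
        simpa [commutatorElement_def, mul_assoc] using h1 }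
  let q : ↥A → Additive (↥A ⧸ A₀.subgroupOf A) := fun u => Additive.ofMul (QuotientGroup.mk u)
  have hq : Function.Surjective q := fun m => by
    obtain ⟨u, hu⟩ := QuotientGroup.mk_surjective (Additive.toMul m)
    exact ⟨u, by simp [q, hu]⟩
  have hq_eq : ∀ u v : ↥A, q u = q v ↔ (u : G)⁻¹ * v ∈ A₀ := fun u v => by
    simp [q, QuotientGroup.eq, mem_subgroupOf]
  -- conjugation by elements normalizing both subgroups
  have hP : ∀ g : ↥(normalizer (A : Set G) ⊓ normalizer (A₀ : Set G) : Subgroup G),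
      ∀ u : ↥A, (g : G) * u * (g : G)⁻¹ ∈ A :=
    fun g u => (mem_normalizer_iff.mp g.2.1 _).mp u.2
  let c : ↥(normalizer (A : Set G) ⊓ normalizer (A₀ : Set G) : Subgroup G) → (↥A →* ↥A) :=
    fun g => ((MulAut.conj (g : G)).toMonoidHom.comp A.subtype).codRestrict A (hP g)
  have hc : ∀ g, A₀.subgroupOf A ≤ (A₀.subgroupOf A).comap (c g) := by
    intro g u hu
    rw [mem_comap, mem_subgroupOf]
    exact (mem_normalizer_iff.mp g.2.2 _).mp hu
  let Φ : ↥(normalizer (A : Set G) ⊓ normalizer (A₀ : Set G) : Subgroup G) →*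
      AddMonoid.End (Additive (↥A ⧸ A₀.subgroupOf A)) :=
    { toFun := fun g => MonoidHom.toAdditive (QuotientGroup.map _ _ (c g) (hc g))
      map_one' := by
        refine DFunLike.ext _ _ fun m => ?_
        obtain ⟨u, rfl⟩ := hq m
        show q (c 1 u) = q u
        exact congrArg q (Subtype.ext (by simp [c]))
      map_mul' := fun g h => by
        refine DFunLike.ext _ _ fun m => ?_
        obtain ⟨u, rfl⟩ := hq m
        show q (c (g * h) u) = q (c g (c h u))
        exact congrArg q (Subtype.ext (by simp [c, mul_assoc])) }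
  have hΦ : ∀ g u, Φ g (q u) = q (c g u) := fun _ _ => rfl
  have hXN : X ≤ normalizer (A : Set G) ⊓ normalizer (A₀ : Set G) := le_inf hXA hXA₀
  have hEN : E ≤ normalizer (A : Set G) ⊓ normalizer (A₀ : Set G) := le_inf hEA hEA₀
  set S : Set (AddMonoid.End (Additive (↥A ⧸ A₀.subgroupOf A))) :=
    Set.range fun e : ↥E => Φ ⟨e, hEN e.2⟩ with hS
  have hirr' : ∀ N : AddSubgroup (Additive (↥A ⧸ A₀.subgroupOf A)),
      (∀ s ∈ S, ∀ m ∈ N, s m ∈ N) → N = ⊥ ∨ N = ⊤ := by
    intro N hN
    let U : Subgroup G :=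
      { carrier := {g | ∃ h : g ∈ A, q ⟨g, h⟩ ∈ N}
        one_mem' := ⟨one_mem _, by
          rw [show q ⟨1, one_mem _⟩ = 0 from rfl]; exact zero_mem _⟩
        mul_mem' := by
          rintro g g' ⟨h, hg⟩ ⟨h', hg'⟩
          exact ⟨mul_mem h h', by
            rw [show q ⟨g * g', mul_mem h h'⟩ = q ⟨g, h⟩ + q ⟨g', h'⟩ from rfl]
            exact add_mem hg hg'⟩
        inv_mem' := by
          rintro g ⟨h, hg⟩
          exact ⟨inv_mem h, by
            rw [show q ⟨g⁻¹, inv_mem h⟩ = -q ⟨g, h⟩ from rfl]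
            exact neg_mem hg⟩ }
    have hU0 : A₀ ≤ U := fun g hg => ⟨hle hg, by
      rw [show q ⟨g, hle hg⟩ = q 1 from (hq_eq _ _).mpr (by simpa using inv_mem hg),
        show q 1 = 0 from rfl]
      exact zero_mem _⟩
    have hEU : E ≤ normalizer (U : Set G) := by
      have key : ∀ e ∈ E, ∀ g ∈ U, e * g * e⁻¹ ∈ U := by
        rintro e he g ⟨h, hg⟩
        exact ⟨(mem_normalizer_iff.mp (hEA he) g).mp h,
          hN _ ⟨⟨e, he⟩, rfl⟩ _ hg⟩
      intro e he
      rw [mem_normalizer_iff]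
      refine fun g => ⟨key e he g, fun hg => ?_⟩
      have := key e⁻¹ (inv_mem he) _ hg
      simpa [mul_assoc] using this
    rcases hirr U hU0 (fun g hg => hg.1) hEU with h | h
    · refine Or.inl (le_bot_iff.mp fun m hm => ?_)
      obtain ⟨u, rfl⟩ := hq m
      have h1 : (u : G) ∈ A₀ := h ▸ (⟨u.2, hm⟩ : (u : G) ∈ U)
      rw [AddSubgroup.mem_bot, show (0 : Additive (↥A ⧸ A₀.subgroupOf A)) = q 1 from rfl, hq_eq]
      simpa using inv_mem h1
    · refine Or.inr (top_le_iff.mp fun m _ => ?_)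
      obtain ⟨u, rfl⟩ := hq m
      have h3 : (u : G) ∈ U := by rw [h]; exact u.2
      obtain ⟨_, h2⟩ := h3
      exact h2
  have hcent : ∀ x : ↥X, Φ ⟨x, hXN x.2⟩ ∈ Subring.centralizer S := by
    intro x
    rw [Subring.mem_centralizer_iff]
    rintro _ ⟨e, rfl⟩
    refine DFunLike.ext _ _ fun m => ?_
    obtain ⟨u, rfl⟩ := hq m
    show q (c _ (c _ u)) = q (c _ (c _ u))
    rw [hq_eq]
    have hv : (x : G) * (e : G) * u * ((x : G) * (e : G))⁻¹ ∈ A := by
      have := hP ⟨(x : G) * e, mul_mem (hXN x.2) (hEN e.2)⟩ u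
      simpa [mul_assoc] using this
    have h1 := hcomm e e.2 x x.2 _ hv
    have h2 := inv_mem h1
    have hP' : (e : G) * ((x : G) * u * (x : G)⁻¹) * (e : G)⁻¹ ∈ A :=
      hP ⟨e, hEN e.2⟩ ⟨_, hP ⟨x, hXN x.2⟩ u⟩
    have hPQ : ((x : G) * ((e : G) * u * (e : G)⁻¹) * (x : G)⁻¹) *
        ((e : G) * ((x : G) * u * (x : G)⁻¹) * (e : G)⁻¹)⁻¹ ∈ A₀ := by
      convert h2 using 1
      simp only [commutatorElement_def]
      group
    show ((e : G) * ((x : G) * u * (x : G)⁻¹) * (e : G)⁻¹)⁻¹ *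
      ((x : G) * ((e : G) * u * (e : G)⁻¹) * (x : G)⁻¹) ∈ A₀
    convert (mem_normalizer_iff''.mp (normalizer_le_self_helper hle hab hP') _).mp hPQ using 1
    group
  have hker : y ∈ (MonoidHom.ker (Φ.comp (Subgroup.inclusion hXN))).map X.subtype := by
    refine commutator_le.mpr (fun a ha b hb => mem_map.mpr ⟨⁅(⟨a, ha⟩ : ↥X), ⟨b, hb⟩⁆, ?_, rfl⟩) hy
    rw [MonoidHom.mem_ker]
    have hcm : ∀ x x' : ↥X, Φ.comp (Subgroup.inclusion hXN) x * Φ.comp (Subgroup.inclusion hXN) x' =
        Φ.comp (Subgroup.inclusion hXN) x' * Φ.comp (Subgroup.inclusion hXN) x :=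
      fun x x' => commutant_comm S hirr' (hcent x) (hcent x')
    generalize Φ.comp (Subgroup.inclusion hXN) = f at hcm
    rw [commutatorElement_def, map_mul, map_mul, map_mul, hcm ⟨a, ha⟩ ⟨b, hb⟩, mul_assoc,
      mul_assoc, ← mul_assoc (f ⟨a, ha⟩), ← map_mul f ⟨a, ha⟩, mul_inv_cancel, map_one, one_mul,
      ← map_mul, mul_inv_cancel, map_one]
  obtain ⟨x, hx, rfl⟩ := hker
  have h1 := DFunLike.congr_fun (MonoidHom.mem_ker.mp hx) (q ⟨a, ha⟩)
  have h2 : q (c _ ⟨a, ha⟩) = q ⟨a, ha⟩ := h1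
  rw [hq_eq] at h2
  have h3 := inv_mem h2
  simp [c] at h3
  convert (mem_normalizer_iff.mp (normalizer_le_self_helper hle hab ha) _).mp h3 using 1
  simp

end Cfsg.Agent.H51
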