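import Cfsg.Agent.H51.BlockStructure
import Cfsg.Agent.H51.BlockConj
import Cfsg.Agent.H51.SectionCommutant
import Cfsg.Agent.H51.IsolatedPMin
import Cfsg.Agent.H51.Component

/-!
General facts about subnormal blocks of a group of characteristic `p`.
-/

set_option autoImplicit false
set_option linter.style.haveILetI false
set_option linter.unusedSectionVars false

namespace Cfsg.Agent.H51

open Subgroup Cfsg
open scoped commutatorElement

variable {G : Type*} [Group G] [Finite G] {p : ℕ} [hp : Fact p.Prime]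

/-- An element of `p'`-order stabilizing a two step chain of `p`-groups fixes every element. -/
theorem fixed_of_two_step {y q : G} (hc : (orderOf y).Coprime p) {D : Subgroup G} (hD : IsPGroup p D)
    (h1 : y * q * y⁻¹ * q⁻¹ ∈ D) (h2 : ∀ d ∈ D, y * d * y⁻¹ = d) : y * q * y⁻¹ = q := by
  set d := y * q * y⁻¹ * q⁻¹ with hd
  have key : ∀ k : ℕ, y ^ k * q * (y ^ k)⁻¹ = d ^ k * q := by
    intro k
    induction k with
    | zero => simp
    | succ k ih =>
      have hdk : y * d ^ k * y⁻¹ = d ^ k := h2 _ (pow_mem h1 k)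
      calc y ^ (k + 1) * q * (y ^ (k + 1))⁻¹ = y * (y ^ k * q * (y ^ k)⁻¹) * y⁻¹ := by
            rw [pow_succ']; group
        _ = (y * d ^ k * y⁻¹) * (y * q * y⁻¹) := by rw [ih]; group
        _ = d ^ k * (d * q) := by rw [hdk, hd]; group
        _ = d ^ (k + 1) * q := by rw [pow_succ]; group
  have hn : d ^ orderOf y = 1 := by
    have := key (orderOf y)
    rw [pow_orderOf_eq_one, one_mul, inv_one, mul_one] at this
    exact right_eq_mul.mp this
  obtain ⟨k, hk⟩ := hD ⟨d, h1⟩
  have hk' : d ^ p ^ k = 1 := by simpa using congrArg Subtype.val hk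
  have h3 : d ^ Nat.gcd (orderOf y) (p ^ k) = 1 := pow_gcd_eq_one.2 ⟨hn, hk'⟩
  rw [(hc.pow_right k).gcd_eq_one, pow_one] at h3
  exact mul_inv_eq_one.mp h3

/-- Every element has a power of order prime to `p` with `p`-power exponent. -/
theorem exists_coprime_pow (x : G) : ∃ a : ℕ, (orderOf (x ^ p ^ a)).Coprime p := by
  obtain ⟨a, m, hm, hx⟩ := Nat.exists_eq_pow_mul_and_not_dvd (orderOf_pos x).ne' p hp.out.ne_one
  refine ⟨a, ?_⟩
  rw [orderOf_pow' _ (pow_ne_zero _ hp.out.ne_zero), hx, Nat.gcd_eq_right (Dvd.intro _ rfl),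
    Nat.mul_div_cancel_left _ (pow_pos hp.out.pos _)]
  exact ((Nat.Prime.coprime_iff_not_dvd hp.out).mpr hm).symm

/-- Powers of coprime exponents in a normal subgroup. -/
theorem mem_of_pow_mem_of_coprime {R : Subgroup G} [R.Normal] {x : G} {a b : ℕ} (hab : a.Coprime b)
    (ha : x ^ a ∈ R) (hb : x ^ b ∈ R) : x ∈ R := by
  rw [← QuotientGroup.eq_one_iff] at ha hb ⊢
  rw [QuotientGroup.mk_pow] at ha hb
  have h3 := pow_gcd_eq_one.2 ⟨ha, hb⟩
  rwa [hab.gcd_eq_one, pow_one] at h3

/-- The preimage of `O_r(G/O_p(G))`. -/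
def coreRadical (p r : ℕ) (G : Type*) [Group G] : Subgroup G :=
  haveI := pCore_normal p G
  (pCore r (G ⧸ pCore p G)).comap (QuotientGroup.mk' (pCore p G))

theorem coreRadical_normal (r : ℕ) : (coreRadical p r G).Normal := by
  haveI := pCore_normal p G
  haveI := pCore_normal r (G ⧸ pCore p G)
  rw [coreRadical]
  infer_instance

/-- A subnormal subgroup which is an `r`-group modulo `O_p(G)` lies in the radical. -/
theorem le_coreRadical {r : ℕ} {E : Subgroup G} (hE : E.IsSubnormal)
    (h : ∀ e ∈ E, ∃ k : ℕ, e ^ r ^ k ∈ pCore p G) : E ≤ coreRadical p r G := by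
  haveI := pCore_normal p G
  rw [coreRadical, ← map_le_iff_le_comap]
  have hr : IsPGroup r ↥(E.map (QuotientGroup.mk' (pCore p G))) := by
    rintro ⟨_, e, he, rfl⟩
    obtain ⟨k, hk⟩ := h e he
    refine ⟨k, Subtype.ext ?_⟩
    show (QuotientGroup.mk' (pCore p G) e) ^ r ^ k = 1
    rw [← map_pow]
    exact (QuotientGroup.eq_one_iff _).mpr hk
  exact (H72.le_pCoreOf le_rfl le_normalizer hr).trans
    (H72.pCoreOf_le_pCore_of_isSubnormal (hE.map (QuotientGroup.mk'_surjective _)))

/-- Elements of the radical have an `r`-power in `O_p(G)`. -/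
theorem coreRadical_pow {r : ℕ} [Fact r.Prime] {x : G} (hx : x ∈ coreRadical p r G) :
    ∃ k : ℕ, x ^ r ^ k ∈ pCore p G := by
  haveI := pCore_normal p G
  obtain ⟨k, hk⟩ := pCore_isPGroup r (G ⧸ pCore p G) ⟨_, hx⟩
  refine ⟨k, (QuotientGroup.eq_one_iff _).mp ?_⟩
  have := congrArg Subtype.val hk
  simpa using this

/-- A subnormal subgroup which is a block for some Sylow subgroup. -/
structure IsSubnormalBlock (p : ℕ) (E : Subgroup G) : Prop where
  block : ∃ T : Sylow p G, IsBaumannBlock p (T : Subgroup G) E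
  subnormal : E.IsSubnormal

variable {E : Subgroup G}

theorem IsSubnormalBlock.residual (hE : IsSubnormalBlock p E) : pResidualOf p E = E :=
  let ⟨_, h⟩ := hE.block; h.1

theorem IsSubnormalBlock.core_normal (hE : IsSubnormalBlock p E) :
    pCore p G ≤ normalizer (E : Set G) :=
  let ⟨T, h⟩ := hE.block; (pCore_normalizes_block T h).1

theorem IsSubnormalBlock.comm_core (hE : IsSubnormalBlock p E) :
    ⁅E, pCore p G⁆ ≤ pCoreOf p E :=
  let ⟨T, h⟩ := hE.block; (pCore_normalizes_block T h).2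

theorem IsSubnormalBlock.core_le (hE : IsSubnormalBlock p E) : pCoreOf p E ≤ pCore p G :=
  H72.pCoreOf_le_pCore_of_isSubnormal hE.subnormal

theorem IsSubnormalBlock.inf_core (hE : IsSubnormalBlock p E) : E ⊓ pCore p G = pCoreOf p E := by
  refine le_antisymm ?_ (le_inf (H74.pCoreOf_le E) hE.core_le)
  haveI := pCore_normal p G
  exact H74.le_pCoreOf inf_le_left
    ((le_inf le_normalizer le_normalizer_of_normal).trans inf_normalizer_le_normalizer_inf)
    ((pCore_isPGroup p G).to_le inf_le_right)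

theorem IsSubnormalBlock.eq_of_le_sup {F : Subgroup G} (hE : IsSubnormalBlock p E)
    (hF : IsSubnormalBlock p F) (h : E ≤ F ⊔ pCore p G) (h' : F ≤ E ⊔ pCore p G) : E = F := by
  have key : ∀ A B : Subgroup G, IsSubnormalBlock p A → IsSubnormalBlock p B →
      A ≤ B ⊔ pCore p G → A ≤ B := by
    intro A B hA hB hle
    refine (eq_closure_of_residual hA.residual).le.trans ((closure_le _).mpr ?_)
    rintro x ⟨hx, hc⟩
    exact mem_of_coprime_mem_sup_pgroup hB.core_normal (pCore_isPGroup p G) (hle hx) hc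
  exact le_antisymm (key E F hE hF h) (key F E hF hE h')

/-- Blocks commuting modulo `O_p(G)` normalize each other. -/
theorem IsSubnormalBlock.le_normalizer_of_comm {F : Subgroup G} (hE : IsSubnormalBlock p E)
    (h : ⁅E, F⁆ ≤ pCore p G) : F ≤ normalizer (E : Set G) := by
  intro f hf
  refine H74.mem_normalizer_of_conj_mem ?_
  have hle : E ≤ E.comap (MulAut.conj f).toMonoidHom := by
    refine (eq_closure_of_residual hE.residual).le.trans ((closure_le _).mpr ?_)
    rintro x ⟨hx, hc⟩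
    show f * x * f⁻¹ ∈ E
    refine mem_of_coprime_mem_sup_pgroup hE.core_normal (pCore_isPGroup p G) ?_ ?_
    · have h1 : ⁅x⁻¹, f⁆ ∈ pCore p G := h (commutator_mem_commutator (inv_mem hx) hf)
      have h2 := mul_mem (mem_sup_left (T := pCore p G) hx) (mem_sup_right (S := E) h1)
      convert h2 using 1
      simp only [commutatorElement_def]
      group
    · rwa [show f * x * f⁻¹ = MulAut.conj f x from rfl, MulEquiv.orderOf_eq]
  exact fun d hd => hle hd

variable (hG : centralizer (pCore p G : Set G) ≤ pCore p G)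
include hG

theorem IsSubnormalBlock.module_le (hE : IsSubnormalBlock p E) :
    ⁅omegaOneCenter p (pCoreOf p E), E⁆ ≤ omegaOneCenter p (pCore p G) :=
  let ⟨T, h⟩ := hE.block; block_commutator_le hG T h

/-- `[Ω₁(Z(O_p(G))), E] ≤ [W, E]`. -/
theorem IsSubnormalBlock.omega_comm (hE : IsSubnormalBlock p E) {x e : G}
    (hx : x ∈ omegaOneCenter p (pCore p G)) (he : e ∈ E) :
    ⁅x, e⁆ ∈ ⁅omegaOneCenter p (pCoreOf p E), E⁆ := by
  set X := omegaOneCenter p (pCore p G) with hX
  set W := omegaOneCenter p (pCoreOf p E) with hW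
  set V := ⁅W, E⁆ with hV
  have hXR : X ≤ pCore p G := (H34.omegaOne_le _).trans inf_le_left
  have hXC : X ≤ centralizer (pCore p G : Set G) := (H34.omegaOne_le _).trans inf_le_right
  haveI := pCore_normal p G
  have hEX : E ≤ normalizer (X : Set G) := by
    intro g _
    rw [hX, mem_normalizer_iff_map_conj_eq]
    exact (map_omegaOneCenter (MulAut.conj g) _).trans (congrArg _ (Normal.map_conj_eq _ g))
  have hXE : ⁅X, E⁆ ≤ W := by
    rw [commutator_le]
    intro a ha b hb
    have h1 : ⁅a, b⁆ ∈ X := commutator_le_of_le_normalizer hEX (commutator_mem_commutator ha hb)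
    have h2 : ⁅a, b⁆ ∈ pCoreOf p E := by
      refine hE.comm_core ?_
      rw [commutator_comm]
      exact commutator_mem_commutator (hXR ha) hb
    refine H34.mem_omegaOne ⟨h2, centralizer_le hE.core_le (hXC h1)⟩ ?_
    exact (omegaOneCenter_isElementaryAbelian _).2 _ h1
  have hVE : E ≤ normalizer (V : Set G) := normalizer_commutator_ge_right W E
  let K : Subgroup G :=
    { carrier := {g | g ∈ normalizer (V : Set G) ∧ g ∈ normalizer (X : Set G) ∧ ∀ a ∈ X, ⁅a, g⁆ ∈ V}
      one_mem' := ⟨one_mem _, one_mem _, fun a _ => by simp⟩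
      mul_mem' := by
        rintro g h ⟨hg1, hg2, hg3⟩ ⟨hh1, hh2, hh3⟩
        refine ⟨mul_mem hg1 hh1, mul_mem hg2 hh2, fun a ha => ?_⟩
        rw [show ⁅a, g * h⁆ = ⁅a, g⁆ * (g * ⁅a, h⁆ * g⁻¹) from by
          simp only [commutatorElement_def]; group]
        exact mul_mem (hg3 a ha) ((mem_normalizer_iff.mp hg1 _).mp (hh3 a ha))
      inv_mem' := by
        rintro g ⟨hg1, hg2, hg3⟩
        refine ⟨inv_mem hg1, inv_mem hg2, fun a ha => ?_⟩
        rw [show ⁅a, g⁻¹⁆ = g⁻¹ * ⁅a, g⁆⁻¹ * g from by simp only [commutatorElement_def]; group]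
        exact (mem_normalizer_iff''.mp hg1 _).mp (inv_mem (hg3 a ha)) }
  have hEK : E ≤ K := by
    refine (eq_closure_of_residual hE.residual).le.trans ((closure_le _).mpr ?_)
    rintro c ⟨hc, hcop⟩
    refine ⟨hVE hc, hEX hc, fun a ha => ?_⟩
    have hC : zpowers c ≤ E := zpowers_le.mpr hc
    have hXp : IsPGroup p X := H34.IsPGroup_of_isElementaryAbelian (omegaOneCenter_isElementaryAbelian _)
    have h1 : ⁅⁅X, zpowers c⁆, zpowers c⁆ = ⁅X, zpowers c⁆ := by
      refine H20.commutator_commutator_eq (hC.trans hEX) ?_ ?_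
      · obtain ⟨k, hk⟩ := hXp.exists_card_eq
        rw [hk, Nat.card_zpowers]
        exact hcop.pow_right k
      · haveI := hXp.isNilpotent; exact Or.inr inferInstance
    have h2 : ⁅a, c⁆ ∈ ⁅⁅X, zpowers c⁆, zpowers c⁆ := by
      rw [h1]; exact commutator_mem_commutator ha (mem_zpowers c)
    exact commutator_mono ((commutator_mono le_rfl hC).trans hXE) hC h2
  exact (hEK he).2.2 x hx

omit hG

/-- Normalizers of a block normalize its module. -/
theorem normalizer_le_normalizer_module (E : Subgroup G) :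
    normalizer (E : Set G) ≤
      normalizer ((⁅omegaOneCenter p (pCoreOf p E), E⁆ : Subgroup G) : Set G) := by
  intro b hb
  rw [mem_normalizer_iff_map_conj_eq]
  exact (Subgroup.map_commutator _ _ _).trans (congrArg₂ (fun A B => ⁅A, B⁆)
    (mem_normalizer_iff_map_conj_eq.mp (normalizer_le_normalizer_omegaCore E hb))
    (mem_normalizer_iff_map_conj_eq.mp hb))

/-- Normalizers of a block normalize its core. -/
theorem normalizer_le_normalizer_core (E : Subgroup G) :
    normalizer (E : Set G) ≤ normalizer (pCoreOf p E : Set G) := by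
  intro g hg
  rw [mem_normalizer_iff_map_conj_eq] at hg ⊢
  exact (H72.pCoreOf_map_equiv (MulAut.conj g) p E).symm.trans (congrArg _ hg)

/-- Products of `[W, E]` and `C_W(E)` exhaust `W`. -/
theorem block_module_decomp {T : Subgroup G} (hE : IsBaumannBlock p T E) :
    ⁅omegaOneCenter p (pCoreOf p E), E⁆ ⊔
      (omegaOneCenter p (pCoreOf p E) ⊓ centralizer (E : Set G)) =
      omegaOneCenter p (pCoreOf p E) := by
  set W := omegaOneCenter p (pCoreOf p E) with hW
  obtain ⟨hne, hirr⟩ := block_irreducible hE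
  have hEW : E ≤ normalizer (W : Set G) :=
    le_normalizer.trans (normalizer_le_normalizer_omegaCore E)
  have hEU : E ≤ normalizer ((⁅W, E⁆ ⊔ (W ⊓ centralizer (E : Set G)) : Subgroup G) : Set G) := by
    intro e he
    rw [mem_normalizer_iff_map_conj_eq]
    exact (Subgroup.map_sup _ _ _).trans (congrArg₂ (· ⊔ ·)
      (mem_normalizer_iff_map_conj_eq.mp (normalizer_le_normalizer_module E (le_normalizer he)))
      (mem_normalizer_iff_map_conj_eq.mp (normalizer_le_normalizer_omegaCore_fixed E (le_normalizer he))))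
  rcases hirr _ (sup_le (commutator_le_of_le_normalizer hEW) inf_le_left) le_sup_right hEU with h | h
  · exfalso
    refine hne (le_centralizer_iff.mp (centralizes_of_residual hE.1
      (H34.IsPGroup_of_isElementaryAbelian (omegaOneCenter_isElementaryAbelian _)) hEW ?_))
    exact commutator_eq_bot_iff_le_centralizer.mpr ((le_sup_left.trans h.le).trans inf_le_right)
  · exact h

/-- An element of `p'`-order fixes the core of a block if it acts trivially on the top layer and fixes
the module. -/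
theorem fixes_core {T : Subgroup G} (hE : IsBaumannBlock p T E) {y : G}
    (hyc : (orderOf y).Coprime p)
    (hV : ∀ v ∈ ⁅omegaOneCenter p (pCoreOf p E), E⁆, y * v * y⁻¹ = v)
    (hQ : ∀ q ∈ pCoreOf p E, y * q * y⁻¹ * q⁻¹ ∈ omegaOneCenter p (pCoreOf p E)) :
    ∀ q ∈ pCoreOf p E, y * q * y⁻¹ = q := by
  set W := omegaOneCenter p (pCoreOf p E) with hW
  rcases block_core_cases hE with ⟨-, h⟩ | h
  · exact fun q hq => hV q (h.le hq)
  have hWp : IsPGroup p W := H34.IsPGroup_of_isElementaryAbelian (omegaOneCenter_isElementaryAbelian _)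
  have hWc : ∀ w ∈ W, ∀ q ∈ pCoreOf p E, q * w = w * q := fun w hw q hq =>
    (mem_centralizer_iff.mp (core_le_centralizer_omega E hq) w hw).symm
  let C : Subgroup G :=
    { carrier := {g | y * g * y⁻¹ = g}
      one_mem' := by simp
      mul_mem' := fun {a b} ha hb => by
        show y * (a * b) * y⁻¹ = a * b
        calc y * (a * b) * y⁻¹ = (y * a * y⁻¹) * (y * b * y⁻¹) := by group
          _ = a * b := by rw [show y * a * y⁻¹ = a from ha, show y * b * y⁻¹ = b from hb]
      inv_mem' := fun {a} ha => by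
        show y * a⁻¹ * y⁻¹ = a⁻¹
        rw [← conj_inv, show y * a * y⁻¹ = a from ha] }
  have hZ : ⁅pCoreOf p E, pCoreOf p E⁆ ≤ C := by
    rw [commutator_le]
    intro a ha b hb
    show y * ⁅a, b⁆ * y⁻¹ = ⁅a, b⁆
    obtain ⟨c, hc, hca⟩ : ∃ c ∈ W, y * a * y⁻¹ = c * a := ⟨_, hQ a ha, by group⟩
    obtain ⟨d, hd, hdb⟩ : ∃ d ∈ W, y * b * y⁻¹ = d * b := ⟨_, hQ b hb, by group⟩
    have hdQ := omega_le_core E hd
    rw [show y * ⁅a, b⁆ * y⁻¹ = ⁅y * a * y⁻¹, y * b * y⁻¹⁆ from by
      simp only [commutatorElement_def]; group, hca, hdb]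
    simp only [commutatorElement_def, mul_inv_rev]
    have e1 : a * d = d * a := hWc d hd a ha
    have e2 : b * c⁻¹ = c⁻¹ * b := hWc _ (inv_mem hc) b hb
    have e3 : a⁻¹ * c⁻¹ = c⁻¹ * a⁻¹ := hWc _ (inv_mem hc) _ (inv_mem ha)
    have e4 : b * a⁻¹ * b⁻¹ * d⁻¹ = d⁻¹ * (b * a⁻¹ * b⁻¹) :=
      hWc _ (inv_mem hd) _ (mul_mem (mul_mem hb (inv_mem ha)) (inv_mem hb))
    have e5 : c * d = d * c := hWc d hd c (omega_le_core E hc)
    calc c * a * (d * b) * (a⁻¹ * c⁻¹) * (b⁻¹ * d⁻¹)
        = c * (a * d) * b * (a⁻¹ * c⁻¹) * b⁻¹ * d⁻¹ := by group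
      _ = c * (d * a) * (b * c⁻¹) * a⁻¹ * b⁻¹ * d⁻¹ := by rw [e1, e3]; group
      _ = c * d * (a * c⁻¹) * (b * a⁻¹ * b⁻¹ * d⁻¹) := by rw [e2]; group
      _ = c * d * (c⁻¹ * a) * (d⁻¹ * (b * a⁻¹ * b⁻¹)) := by rw [e4, hWc _ (inv_mem hc) a ha]
      _ = (c * d) * c⁻¹ * (a * d⁻¹) * (b * a⁻¹ * b⁻¹) := by group
      _ = d * (a * d⁻¹) * (b * a⁻¹ * b⁻¹) := by rw [e5]; group
      _ = d * (d⁻¹ * a) * (b * a⁻¹ * b⁻¹) := by rw [hWc _ (inv_mem hd) a ha]
      _ = a * b * a⁻¹ * b⁻¹ := by group
  have hW' : W ≤ C := by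
    rw [hW, ← block_module_decomp hE]
    exact sup_le (fun v hv => hV v hv) (h.ge.trans hZ)
  exact fun q hq => fixed_of_two_step hyc hWp (hQ q hq) (fun w hw => hW' hw)

/-- A group generated by `p'`-elements and centralizing its commutator with another subgroup
commutes with it. -/
theorem commute_of_centralizes {F I : Subgroup G} (hF : pResidualOf p F = F) (hI : IsPGroup p I)
    (hFI : F ≤ centralizer (I : Set G)) (h : ⁅F, E⁆ ≤ I) : ⁅F, E⁆ = ⊥ := by
  rw [commutator_eq_bot_iff_le_centralizer]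
  refine (eq_closure_of_residual hF).le.trans ((closure_le _).mpr ?_)
  rintro f ⟨hf, hc⟩
  refine mem_centralizer_iff.mpr fun e he => ?_
  have h1 : f * e * f⁻¹ * e⁻¹ ∈ I := by
    rw [← commutatorElement_def]; exact h (commutator_mem_commutator hf he)
  have := fixed_of_two_step hc hI h1 (fun d hd => by
    rw [← mem_centralizer_iff.mp (hFI hf) d hd, mul_inv_cancel_right])
  exact (mul_inv_eq_iff_eq_mul.mp this).symm

end Cfsg.Agent.H51
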