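import Mathlib.GroupTheory.SpecificGroups.Alternating.Simple
import Cfsg.Agent.H51.Quasisimple
import Cfsg.Agent.H51.Component

/-!
# The stabilizer of four points in an alternating group is a standard subgroup
-/

set_option autoImplicit false
set_option linter.style.haveILetI false

namespace Cfsg.Agent.H51

open Equiv Equiv.Perm

variable {α : Type*} [Fintype α] [DecidableEq α]

/-- The 3-cycle through three points, as an element of the alternating group. -/
theorem exists_threeCycle_alternating {a b c : α} (hab : a ≠ b) (hac : a ≠ c) (hbc : b ≠ c) :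
    ∃ t : alternatingGroup α, (t : Perm α) a = c ∧ (t : Perm α) b = a ∧ (t : Perm α) c = b ∧
      ∀ x, x ≠ a → x ≠ b → x ≠ c → (t : Perm α) x = x := by
  refine ⟨⟨swap a b * swap a c, by simp [Perm.mem_alternatingGroup, sign_swap hab, sign_swap hac]⟩,
    ?_, ?_, ?_, ?_⟩
  · simp only [Perm.mul_apply, swap_apply_left]
    exact swap_apply_of_ne_of_ne hac.symm hbc.symm
  · simp only [Perm.mul_apply, swap_apply_of_ne_of_ne hab.symm hbc, swap_apply_right]
  · simp only [Perm.mul_apply, swap_apply_right, swap_apply_left]
  · intro x ha hb hc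
    simp only [Perm.mul_apply, swap_apply_of_ne_of_ne ha hc, swap_apply_of_ne_of_ne ha hb]

/-- An involutory even permutation moving at most three points is trivial. -/
theorem eq_one_of_sq_of_support_le_three {σ : Perm α} (hs : Perm.sign σ = 1) (h2 : σ ^ 2 = 1)
    (h3 : σ.support.card ≤ 3) : σ = 1 := by
  by_contra hne
  haveI : Fact (Nat.Prime 2) := ⟨Nat.prime_two⟩
  have hall : ∀ c ∈ σ.cycleType, c = 2 := pow_prime_eq_one_iff.mp h2
  have hrep := Multiset.eq_replicate_card.mpr hall
  have hsum : σ.support.card = σ.cycleType.card * 2 := by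
    rw [← sum_cycleType]
    conv_lhs => rw [hrep]
    simp
  have hpos : σ.support.card ≠ 0 := fun h => hne (card_support_eq_zero.mp h)
  have hk : σ.support.card = 2 := by omega
  have := (card_support_eq_two.mp hk).sign_eq
  rw [hs] at this
  exact absurd this (by decide)

variable {S : Finset α}

/-- The pointwise stabilizer in the alternating group of a set is alternating on the rest. -/
theorem fixingSubgroup_isQuasisimple (hn : S.card + 5 ≤ Fintype.card α)
    {L : Subgroup (alternatingGroup α)} (hL : ∀ g, g ∈ L ↔ ∀ x ∈ S, (g : Perm α) x = x) :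
    IsQuasisimple L := by
  have hcard : 5 ≤ Nat.card {x // x ∉ S} := by
    rw [Nat.card_eq_fintype_card, Fintype.card_subtype_compl, Fintype.card_coe]
    omega
  haveI := alternatingGroup.isSimpleGroup hcard
  have hna : ¬ IsMulCommutative (alternatingGroup {x // x ∉ S}) := by
    intro h
    obtain ⟨T, -, hT⟩ := Finset.exists_subset_card_eq
      (s := (Finset.univ : Finset {x // x ∉ S})) (n := 4)
      (by rw [Finset.card_univ, ← Nat.card_eq_fintype_card]; omega)
    obtain ⟨a, b, c, d, hab, hac, had, hbc, hbd, hcd, -⟩ := Finset.card_eq_four.mp hT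
    obtain ⟨s, hsa, hsb, hsc, hsx⟩ := exists_threeCycle_alternating hab hac hbc
    obtain ⟨t, hta, htb, htd, htx⟩ := exists_threeCycle_alternating hab had hbd
    have h1 := congrArg (fun g : alternatingGroup {x // x ∉ S} => (g : Perm _) a)
      (isMulCommutative_iff.mp h s t)
    simp only [Subgroup.coe_mul, Perm.mul_apply, hta, hsa] at h1
    rw [hsx d had.symm hbd.symm hcd.symm, htx c hac.symm hbc.symm hcd] at h1
    exact hcd h1.symm
  let φ : alternatingGroup {x // x ∉ S} →* alternatingGroup α :=
    ((ofSubtype : Perm {x // x ∉ S} →* Perm α).comp (Subgroup.subtype _)).codRestrict _ fun g => by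
      simp only [Perm.mem_alternatingGroup, MonoidHom.comp_apply, Subgroup.coe_subtype, sign_ofSubtype]
      exact g.2
  have hφ : Function.Injective φ := fun a b h =>
    Subtype.ext (ofSubtype_injective (congrArg Subtype.val h))
  have hr : φ.range = L := by
    ext g
    rw [hL]
    constructor
    · rintro ⟨h, rfl⟩ x hx
      exact ofSubtype_apply_of_not_mem _ (fun h' => h' hx)
    · intro hg
      have h₁ : ∀ x, (g : Perm α) x ∉ S ↔ x ∉ S := fun x => by
        refine ⟨fun h hx => h (by rw [hg x hx]; exact hx), fun h hx => h ?_⟩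
        have := (g : Perm α).injective (hg _ hx)
        rwa [this] at hx
      have h₂ : ∀ x, (g : Perm α) x ≠ x → x ∉ S := fun x h hx => h (hg x hx)
      refine ⟨⟨(g : Perm α).subtypePerm h₁, ?_⟩, Subtype.ext (ofSubtype_subtypePerm h₁ h₂)⟩
      rw [Perm.mem_alternatingGroup, sign_subtypePerm _ h₁ h₂]
      exact g.2
  exact quasisimple_of_equiv (isQuasisimple_of_isSimpleGroup hna)
    ((MonoidHom.ofInjective hφ).trans (MulEquiv.subgroupCongr hr))

/-- The centralizer of the pointwise stabilizer of `S` fixes everything outside `S`. -/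
theorem mem_centralizer_fixingSubgroup_iff (hn : S.card + 5 ≤ Fintype.card α)
    {L : Subgroup (alternatingGroup α)} (hL : ∀ g, g ∈ L ↔ ∀ x ∈ S, (g : Perm α) x = x)
    (g : alternatingGroup α) :
    g ∈ Subgroup.centralizer (L : Set (alternatingGroup α)) ↔ ∀ x ∉ S, (g : Perm α) x = x := by
  constructor
  · intro hg x hx
    have hcard : 4 ≤ ((Finset.univ \ S).erase x).card := by
      rw [Finset.card_erase_of_mem (by simp [hx]), Finset.card_sdiff_of_subset (Finset.subset_univ _),
        Finset.card_univ]
      omega
    obtain ⟨T, hTs, hT⟩ := Finset.exists_subset_card_eq hcard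
    obtain ⟨a, b, c, d, hab, hac, had, hbc, hbd, hcd, rfl⟩ := Finset.card_eq_four.mp hT
    have hmem : ∀ y ∈ ({a, b, c, d} : Finset α), y ≠ x ∧ y ∉ S := fun y hy => by
      simpa using hTs hy
    obtain ⟨hax, haS⟩ := hmem a (by simp)
    obtain ⟨hbx, hbS⟩ := hmem b (by simp)
    obtain ⟨hcx, hcS⟩ := hmem c (by simp)
    obtain ⟨hdx, hdS⟩ := hmem d (by simp)
    have key : ∀ u v, u ∉ S → v ∉ S → u ≠ x → v ≠ x → u ≠ v →
        (g : Perm α) x = x ∨ (g : Perm α) x = u ∨ (g : Perm α) x = v := by
      intro u v huS hvS hu hv huv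
      obtain ⟨t, htx, htu, htv, htf⟩ := exists_threeCycle_alternating (Ne.symm hu) (Ne.symm hv) huv
      have htL : t ∈ L := (hL t).mpr fun y hy =>
        htf y (fun e => hx (e ▸ hy)) (fun e => huS (e ▸ hy)) (fun e => hvS (e ▸ hy))
      have h1 := congrArg (fun k : alternatingGroup α => (k : Perm α) x)
        (Subgroup.mem_centralizer_iff.mp hg t htL)
      simp only [Subgroup.coe_mul, Perm.mul_apply, htx] at h1
      by_contra! hcon
      rw [htf _ hcon.1 hcon.2.1 hcon.2.2] at h1
      exact hv ((g : Perm α).injective h1).symm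
    rcases key a b haS hbS hax hbx hab with h | h | h
    · exact h
    all_goals rcases key c d hcS hdS hcx hdx hcd with h' | h' | h'
    all_goals first
      | exact h'
      | (rw [h] at h'; simp_all)
  · intro hg
    refine Subgroup.mem_centralizer_iff.mpr fun t ht => Subtype.ext ?_
    have hd : Perm.Disjoint (t : Perm α) (g : Perm α) := fun y => by
      by_cases hy : y ∈ S
      · exact Or.inl ((hL t).mp ht y hy)
      · exact Or.inr (hg y hy)
    exact hd.commute.eq

/-- The setwise stabilizer of `S` is the normalizer of the pointwise stabilizer. -/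
theorem mem_normalizer_fixingSubgroup_iff (hn : S.card + 5 ≤ Fintype.card α)
    {L : Subgroup (alternatingGroup α)} (hL : ∀ g, g ∈ L ↔ ∀ x ∈ S, (g : Perm α) x = x)
    (g : alternatingGroup α) :
    g ∈ Subgroup.normalizer (L : Set (alternatingGroup α)) ↔
      ∀ x, (g : Perm α) x ∈ S ↔ x ∈ S := by
  have hconj : ∀ k y, ((g * k * g⁻¹ : alternatingGroup α) : Perm α) ((g : Perm α) y) =
      (g : Perm α) ((k : Perm α) y) := fun k y => by simp
  constructor
  · intro hg x
    have hg' := fun k => Subgroup.mem_normalizer_iff.mp hg k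
    have hmove : ∀ y ∉ S, ∃ t ∈ L, (t : Perm α) y ≠ y := by
      intro y hy
      have hc : 2 ≤ ((Finset.univ \ S).erase y).card := by
        rw [Finset.card_erase_of_mem (by simp [hy]),
          Finset.card_sdiff_of_subset (Finset.subset_univ _), Finset.card_univ]
        omega
      obtain ⟨T, hTs, hT⟩ := Finset.exists_subset_card_eq hc
      obtain ⟨u, v, huv, rfl⟩ := Finset.card_eq_two.mp hT
      have hu := hTs (show u ∈ ({u, v} : Finset α) by simp)
      have hv := hTs (show v ∈ ({u, v} : Finset α) by simp)
      simp only [Finset.mem_erase, Finset.mem_sdiff, Finset.mem_univ, true_and] at hu hv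
      obtain ⟨t, hty, -, -, htf⟩ := exists_threeCycle_alternating (Ne.symm hu.1) (Ne.symm hv.1) huv
      refine ⟨t, (hL t).mpr fun z hz => htf z (fun e => hy (e ▸ hz)) (fun e => hu.2 (e ▸ hz))
        (fun e => hv.2 (e ▸ hz)), ?_⟩
      rw [hty]
      exact hv.1
    constructor
    · intro hgx
      by_contra hx
      obtain ⟨t, ht, htx⟩ := hmove x hx
      have := (hL _).mp ((hg' t).mp ht) _ hgx
      rw [hconj] at this
      exact htx ((g : Perm α).injective this)
    · intro hx
      by_contra hgx
      obtain ⟨t, ht, htx⟩ := hmove _ hgx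
      have h0 : g⁻¹ * t * g ∈ L := (hg' _).mpr (by simpa [mul_assoc] using ht)
      have h1 := hconj (g⁻¹ * t * g) x
      rw [(hL _).mp h0 x hx, show g * (g⁻¹ * t * g) * g⁻¹ = t by group] at h1
      exact htx h1
  · intro hg
    refine Subgroup.mem_normalizer_iff.mpr fun k => ?_
    rw [hL, hL]
    constructor
    · intro hk x hx
      obtain ⟨y, rfl⟩ := (g : Perm α).surjective x
      rw [hconj, hk y ((hg y).mp hx)]
    · intro hk y hy
      have := hk _ ((hg y).mpr hy)
      rw [hconj] at this
      exact (g : Perm α).injective this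

/-- The pointwise stabilizer of four points in an alternating group of degree at least 9 is
standard. -/
theorem isStandardSubgroup_fixingSubgroup (hS : S.card = 4) (hn : 9 ≤ Fintype.card α)
    {L : Subgroup (alternatingGroup α)} (hL : ∀ g, g ∈ L ↔ ∀ x ∈ S, (g : Perm α) x = x) :
    IsStandardSubgroup L := by
  have hn' : S.card + 5 ≤ Fintype.card α := by omega
  set C := Subgroup.centralizer (L : Set (alternatingGroup α))
  have hC := mem_centralizer_fixingSubgroup_iff hn' hL
  have hN := mem_normalizer_fixingSubgroup_iff hn' hL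
  have hconj : ∀ g k : alternatingGroup α, ∀ y, ((g * k * g⁻¹ : alternatingGroup α) : Perm α)
      ((g : Perm α) y) = (g : Perm α) ((k : Perm α) y) := fun g k y => by simp
  obtain ⟨a, b, c, d, hab, hac, had, hbc, hbd, hcd, hSe⟩ := Finset.card_eq_four.mp hS
  -- a double transposition on `S` moving each point of `S`
  let e : alternatingGroup α := ⟨swap a b * swap c d,
    by simp [Perm.mem_alternatingGroup, sign_swap hab, sign_swap hcd]⟩
  have heC : e ∈ C := (hC e).mpr fun x hx => by
    simp only [hSe, Finset.mem_insert, Finset.mem_singleton, not_or] at hx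
    simp [e, swap_apply_of_ne_of_ne hx.1 hx.2.1, swap_apply_of_ne_of_ne hx.2.2.1 hx.2.2.2]
  have hemove : ∀ x ∈ S, (e : Perm α) x ≠ x := by
    intro x hx
    simp only [hSe, Finset.mem_insert, Finset.mem_singleton] at hx
    rcases hx with rfl | rfl | rfl | rfl
    · simp [e, swap_apply_of_ne_of_ne hac had, hab.symm]
    · simp [e, swap_apply_of_ne_of_ne hbc hbd, hab]
    · simp [e, swap_apply_of_ne_of_ne had.symm hbd.symm, hcd.symm]
    · simp [e, swap_apply_of_ne_of_ne hac.symm hbc.symm, hcd]
  have hNC : ∀ g, g ∈ Subgroup.normalizer (C : Set (alternatingGroup α)) ↔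
      ∀ x, (g : Perm α) x ∈ S ↔ x ∈ S := by
    intro g
    constructor
    · intro hg x
      constructor
      · intro hgx
        by_contra hx
        have h1 := (Subgroup.mem_normalizer_iff.mp hg (g⁻¹ * e * g)).mpr
          (by simpa [mul_assoc] using heC)
        have h2 := hconj g (g⁻¹ * e * g) x
        rw [(hC _).mp h1 x hx, show g * (g⁻¹ * e * g) * g⁻¹ = e by group] at h2
        exact hemove _ hgx h2
      · intro hx
        by_contra hgx
        have h1 := (hC _).mp ((Subgroup.mem_normalizer_iff.mp hg e).mp heC) _ hgx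
        rw [hconj] at h1
        exact hemove x hx ((g : Perm α).injective h1)
    · intro hg
      refine Subgroup.mem_normalizer_iff.mpr fun k => ?_
      rw [hC, hC]
      constructor
      · intro hk x hx
        obtain ⟨y, rfl⟩ := (g : Perm α).surjective x
        rw [hconj, hk y fun h => hx ((hg y).mpr h)]
      · intro hk y hy
        have := hk _ fun h => hy ((hg y).mp h)
        rw [hconj] at this
        exact (g : Perm α).injective this
  refine ⟨fixingSubgroup_isQuasisimple hn' hL, ⟨?_, ?_⟩, ?_, ?_⟩
  · rw [even_iff_two_dvd]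
    have hord : orderOf e = 2 := by
      haveI : Fact (Nat.Prime 2) := ⟨Nat.prime_two⟩
      refine orderOf_eq_prime (Subtype.ext ?_) fun h => hemove a (by simp [hSe])
        (by rw [h]; rfl)
      have hd : Perm.Disjoint (swap a b) (swap c d) := fun y => by
        by_cases hy : y = a ∨ y = b
        · rcases hy with rfl | rfl
          · exact Or.inr (swap_apply_of_ne_of_ne hac had)
          · exact Or.inr (swap_apply_of_ne_of_ne hbc hbd)
        · rw [not_or] at hy
          exact Or.inl (swap_apply_of_ne_of_ne hy.1 hy.2)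
      rw [SubmonoidClass.coe_pow]
      show (swap a b * swap c d) ^ 2 = 1
      rw [hd.commute.mul_pow, pow_two, pow_two, swap_mul_self, swap_mul_self, one_mul]
    exact hord ▸ Subgroup.orderOf_dvd_natCard _ heC
  · intro g hg
    rw [← Nat.not_even_iff_odd, even_iff_two_dvd]
    intro hdvd
    haveI : Fact (Nat.Prime 2) := ⟨Nat.prime_two⟩
    obtain ⟨⟨k, hk⟩, hko⟩ := exists_prime_orderOf_dvd_card' 2 hdvd
    rw [Subgroup.orderOf_mk] at hko
    obtain ⟨hkC, l, hl, hlk⟩ := hk
    refine hg ((hNC g).mpr ?_)
    have hk2 : (k : Perm α) ^ 2 = 1 := by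
      rw [← SubmonoidClass.coe_pow, ← hko, pow_orderOf_eq_one]
      rfl
    have hsub : (k : Perm α).support ⊆ S ∩ S.image (g : Perm α) := by
      intro x hx
      rw [Perm.mem_support] at hx
      refine Finset.mem_inter.mpr ⟨by_contra fun h => hx ((hC k).mp hkC x h), ?_⟩
      obtain ⟨y, rfl⟩ := (g : Perm α).surjective x
      refine Finset.mem_image_of_mem _ (by_contra fun h => hx ?_)
      rw [← hlk]
      show ((g * l * g⁻¹ : alternatingGroup α) : Perm α) _ = _
      rw [hconj, (hC l).mp hl y h]
    have hfour : ¬ (k : Perm α).support.card ≤ 3 := fun h => by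
      have := eq_one_of_sq_of_support_le_three k.2 hk2 h
      rw [orderOf_eq_one_iff.mpr (Subtype.ext this : k = 1)] at hko
      omega
    have hSeq : S ∩ S.image (g : Perm α) = S :=
      Finset.eq_of_subset_of_card_le Finset.inter_subset_left
        (hS.le.trans ((Nat.lt_of_not_le hfour).trans_le (Finset.card_le_card hsub)))
    have himg : S.image (g : Perm α) = S :=
      (Finset.eq_of_subset_of_card_le (Finset.inter_eq_left.mp hSeq)
        Finset.card_image_le).symm
    intro x
    conv_lhs => rw [← himg]
    simp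
  · intro g hg hcomm
    rw [Subgroup.commutator_comm, Subgroup.commutator_eq_bot_iff_le_centralizer] at hcomm
    -- a point outside `S` and its image
    have hcard : 0 < ((Finset.univ \ S) \ S.image (g : Perm α)).card := by
      have h1 := Finset.le_card_sdiff (S.image (g : Perm α)) (Finset.univ \ S)
      rw [Finset.card_sdiff_of_subset (Finset.subset_univ _), Finset.card_univ] at h1
      have h2 : (S.image (g : Perm α)).card ≤ S.card := Finset.card_image_le
      omega
    obtain ⟨x, hx⟩ := Finset.card_pos.mp hcard
    simp only [Finset.mem_sdiff, Finset.mem_univ, true_and] at hx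
    obtain ⟨y, rfl⟩ := (g : Perm α).surjective x
    have hy : y ∉ S := fun h => hx.2 (Finset.mem_image_of_mem _ h)
    obtain ⟨T, hTs, hT⟩ := Finset.exists_subset_card_eq
      (show 2 ≤ ((Finset.univ \ S).erase y).card by
        rw [Finset.card_erase_of_mem (by simp [hy]),
          Finset.card_sdiff_of_subset (Finset.subset_univ _), Finset.card_univ]
        omega)
    obtain ⟨u, v, huv, rfl⟩ := Finset.card_eq_two.mp hT
    have hu := hTs (show u ∈ ({u, v} : Finset α) by simp)
    have hv := hTs (show v ∈ ({u, v} : Finset α) by simp)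
    simp only [Finset.mem_erase, Finset.mem_sdiff, Finset.mem_univ, true_and] at hu hv
    obtain ⟨t, hty, -, -, htf⟩ := exists_threeCycle_alternating (Ne.symm hu.1) (Ne.symm hv.1) huv
    have htL : t ∈ L := (hL t).mpr fun z hz => htf z (fun e => hy (e ▸ hz)) (fun e => hu.2 (e ▸ hz))
        (fun e => hv.2 (e ▸ hz))
    have h1 := (hC _).mp (hcomm ⟨t, htL, rfl⟩) _ hx.1
    rw [show ((MulAut.conj g).toMonoidHom t : alternatingGroup α) = g * t * g⁻¹ from rfl, hconj,
      hty] at h1
    exact hv.1 ((g : Perm α).injective h1)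
  · ext g
    exact (hN g).trans (hNC g).symm

end Cfsg.Agent.H51
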