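import Cfsg.Agent.H51.ConstrainedCores
import Cfsg.Agent.H51.PConstrained
import Cfsg.Agent.H51.FStar
import Cfsg.Agent.H52.Signalizer
import Cfsg.Agent.H34.Thompson

/-!
# Consequences of a connected commuting graph for signalizer functors

An equivariant balanced functor on the elements of order `p` with centralizers of rank at least three
is trivial when the closures on elementary groups of order at least `p ^ 3` are complete, the
rank-two commuting graph is connected and `O_{p'}(G) = 1`.
-/

set_option autoImplicit false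
set_option linter.style.haveILetI false
set_option linter.unusedSectionVars false

namespace Cfsg.Agent.H51

open Subgroup Cfsg

variable {G : Type*} [Group G] [Finite G] {p : ℕ} [hp : Fact p.Prime]

/-- Commuting elementary abelian groups generate an elementary abelian group. -/
theorem elem_sup {A B : Subgroup G} (hA : IsElementaryAbelian p A) (hB : IsElementaryAbelian p B)
    (h : ∀ a ∈ A, ∀ b ∈ B, a * b = b * a) : IsElementaryAbelian p (A ⊔ B) :=
  H34.isElementaryAbelian_sup hA hB fun a ha => mem_centralizer_iff.mpr fun b hb => (h a ha b hb).symm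

/-- A subgroup of rank more than `k` contains an elementary abelian group of order above `p ^ k`. -/
theorem exists_elem_of_not_pRankLE {k : ℕ} {H : Subgroup G} (h : ¬ PRankLE p k ↥H) :
    ∃ B : Subgroup G, B ≤ H ∧ IsElementaryAbelian p B ∧ p ^ (k + 1) ≤ Nat.card B := by
  obtain ⟨V, hVc, hV, hVk⟩ : ∃ V : Subgroup ↥H, IsMulCommutative V ∧ (∀ a ∈ V, a ^ p = 1) ∧
      p ^ k < Nat.card V := by
    by_contra hno
    push Not at hno
    exact h fun V h1 h2 => hno V h1 h2
  have hel : IsElementaryAbelian p (V.map H.subtype) := by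
    haveI := hVc
    refine ⟨inferInstance, ?_⟩
    rintro _ ⟨v, hv, rfl⟩
    rw [← map_pow, hV v hv, map_one]
  refine ⟨V.map H.subtype, map_subtype_le V, hel, ?_⟩
  obtain ⟨m, hm⟩ := (H52.elem_isPGroup hel).exists_card_eq
  rw [card_map_of_injective H.subtype_injective] at hm ⊢
  rw [hm] at hVk ⊢
  exact Nat.pow_le_pow_right hp.out.pos ((Nat.pow_lt_pow_iff_right hp.out.one_lt).mp hVk)

/-- An element commuting with an elementary group of order `p ^ 3` has rank at least three centralizer. -/
theorem not_pRankLE_centralizer {A : Subgroup G} (hA : IsElementaryAbelian p A)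
    (h3 : p ^ 3 ≤ Nat.card A) {a : G} (ha : a ∈ A) :
    ¬ PRankLE p 2 ↥(centralizer ({a} : Set G)) := by
  intro h
  have hle : A ≤ centralizer ({a} : Set G) := H52.elem_le_centralizer hA ha
  haveI := hA.1
  have := h (A.subgroupOf (centralizer ({a} : Set G))) inferInstance
    (fun x hx => Subtype.ext (by simpa using hA.2 x hx))
  rw [Nat.card_congr (subgroupOfEquivOfLe hle).toEquiv] at this
  have := (Nat.pow_le_pow_iff_right hp.out.two_le).mp (h3.trans this)
  omega

/-- The centralizer condition defining the domain of the functor. -/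
def HasRankThreeCentralizer (p : ℕ) (a : G) : Prop :=
  orderOf a = p ∧ ¬ PRankLE p 2 ↥(centralizer ({a} : Set G))

/-- An equivariant balanced functor with complete closures is trivial if the graph is connected. -/
theorem connected_functor_eq_bot (hO : pPrimeCore p G = ⊥) (hconn : IsRankGraphConnected p 2 G)
    (θ : G → Subgroup G)
    (hC : ∀ a, HasRankThreeCentralizer p a → θ a ≤ centralizer ({a} : Set G) ∧ ¬ p ∣ Nat.card ↥(θ a))
    (heq : ∀ a g : G, HasRankThreeCentralizer p a →
      θ (g * a * g⁻¹) = (θ a).map (MulAut.conj g).toMonoidHom)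
    (hcl : ∀ A : Subgroup G, IsElementaryAbelian p A → p ^ 3 ≤ Nat.card A →
      ¬ p ∣ Nat.card ↥(signalizerClosure A θ) ∧
      ∀ a ∈ A, a ≠ 1 → signalizerClosure A θ ⊓ centralizer ({a} : Set G) = θ a)
    {a : G} (ha : HasRankThreeCentralizer p a) : θ a = ⊥ := by
  have hdom : ∀ A : Subgroup G, IsElementaryAbelian p A → p ^ 3 ≤ Nat.card A → ∀ x ∈ A, x ≠ 1 →
      HasRankThreeCentralizer p x :=
    fun A hA h3 x hx hx1 => ⟨orderOf_eq_prime (hA.2 x hx) hx1, not_pRankLE_centralizer hA h3 hx⟩
  -- large subgroups inside a large group give the same closure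
  have hsub : ∀ A E : Subgroup G, IsElementaryAbelian p A → p ^ 3 ≤ Nat.card A → E ≤ A →
      p ^ 2 ≤ Nat.card E → signalizerClosure A θ = signalizerClosure E θ := by
    intro A E hA h3 hEA h2
    obtain ⟨hWp, hWC⟩ := hcl A hA h3
    set W := signalizerClosure A θ with hW
    have hle : ∀ x ∈ A, x ≠ 1 → θ x ≤ W := fun x hx hx1 =>
      le_iSup (fun a : {a : G // a ∈ A ∧ a ≠ 1} => θ (a : G)) ⟨x, hx, hx1⟩
    refine le_antisymm ?_ (iSup_le fun x => hle x (hEA x.2.1) x.2.2)
    have hEn : E ≤ normalizer (W : Set G) := by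
      intro g hg
      refine mem_normalizer_iff_map_conj_eq.mpr (eq_of_le_of_card_ge ?_
        (card_map_of_injective (MulAut.conj g).injective).ge)
      rw [hW, signalizerClosure, Subgroup.map_iSup]
      refine iSup_le fun x => ?_
      rw [← heq _ g (hdom A hA h3 x x.2.1 x.2.2)]
      exact hle _ (mul_mem (mul_mem (hEA hg) x.2.1) (inv_mem (hEA hg))) fun h =>
        x.2.2 (conj_eq_one_iff.mp h)
    have hE := H52.elem_mono hA hEA
    have hEne : E ≠ ⊥ := by
      rintro rfl
      rw [card_bot] at h2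
      have := Nat.one_lt_pow two_ne_zero hp.out.one_lt
      omega
    refine H52.le_of_hyperplane_centralizers_le hE hEne hEn hWp fun D hD hDi => ?_
    obtain ⟨d, hd, hd1⟩ : ∃ d ∈ D, d ≠ (1 : G) := (bot_or_exists_ne_one D).resolve_left (by
      rintro rfl
      rw [relIndex_bot_left] at hDi
      rw [hDi] at h2
      exact absurd h2 (not_le.mpr (lt_self_pow₀ hp.out.one_lt one_lt_two)))
    refine le_trans (inf_le_inf_left _ (centralizer_le (Set.singleton_subset_iff.mpr hd))) ?_
    rw [hWC d (hEA (hD hd)) hd1]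
    exact le_iSup (fun a : {a : G // a ∈ E ∧ a ≠ 1} => θ (a : G)) ⟨d, hD hd, hd1⟩
  -- a vertex lies in a large group
  have hext : ∀ E : Subgroup G, IsRankGraphVertex p 2 E →
      ∃ A : Subgroup G, IsElementaryAbelian p A ∧ p ^ 3 ≤ Nat.card A ∧ E ≤ A := by
    intro E hE
    obtain ⟨B, hBC, hB, hB3⟩ := exists_elem_of_not_pRankLE hE.2.2
    exact ⟨E ⊔ B, elem_sup hE.1 hB fun a ha b hb => mem_centralizer_iff.mp (hBC hb) a ha,
      hB3.trans (card_le_of_le le_sup_right), le_sup_left⟩
  have hedge : ∀ E E' : Subgroup G, IsRankGraphVertex p 2 E → IsRankGraphVertex p 2 E' →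
      (∀ a ∈ E, ∀ b ∈ E', a * b = b * a) → signalizerClosure E θ = signalizerClosure E' θ := by
    intro E E' hE hE' hcomm
    by_cases h3 : p ^ 3 ≤ Nat.card ↥(E ⊔ E')
    · rw [← hsub _ E (elem_sup hE.1 hE'.1 hcomm) h3 le_sup_left hE.2.1,
        ← hsub _ E' (elem_sup hE.1 hE'.1 hcomm) h3 le_sup_right hE'.2.1]
    have hcard : Nat.card ↥(E ⊔ E') ≤ p ^ 2 := by
      obtain ⟨m, hm⟩ := (H52.elem_isPGroup (elem_sup hE.1 hE'.1 hcomm)).exists_card_eq
      rw [hm] at h3 ⊢
      refine Nat.pow_le_pow_right hp.out.pos ?_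
      by_contra hlt
      exact h3 (Nat.pow_le_pow_right hp.out.pos (by omega))
    rw [eq_of_le_of_card_ge (le_sup_left : E ≤ E ⊔ E') (hcard.trans hE.2.1)]
    conv_rhs => rw [eq_of_le_of_card_ge (le_sup_right : E' ≤ E ⊔ E') (hcard.trans hE'.2.1)]
  -- a large group through `a`
  obtain ⟨B, hBC, hB, hB3⟩ := exists_elem_of_not_pRankLE ha.2
  have hz : IsElementaryAbelian p (zpowers a) := by
    refine ⟨inferInstance, fun x hx => ?_⟩
    obtain ⟨k, rfl⟩ := mem_zpowers_iff.mp hx
    rw [← zpow_natCast, ← zpow_mul, mul_comm, zpow_mul, zpow_natCast, ← ha.1, pow_orderOf_eq_one,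
      one_zpow]
  set A := zpowers a ⊔ B with hAdef
  have hA : IsElementaryAbelian p A := elem_sup hz hB fun x hx b hb => by
    obtain ⟨k, rfl⟩ := mem_zpowers_iff.mp hx
    exact ((show Commute b a from mem_centralizer_singleton_iff.mp (hBC hb)).zpow_right k).symm.eq
  have hA3 : p ^ 3 ≤ Nat.card A := hB3.trans (card_le_of_le le_sup_right)
  have hA2 : p ^ 2 ≤ Nat.card A := (Nat.pow_le_pow_right hp.out.pos (by norm_num)).trans hA3
  have hvert : ∀ A' : Subgroup G, IsElementaryAbelian p A' → p ^ 3 ≤ Nat.card A' →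
      IsRankGraphVertex p 2 A' := by
    intro A' h h3
    refine ⟨h, (Nat.pow_le_pow_right hp.out.pos (by norm_num)).trans h3, fun hle => ?_⟩
    haveI := h.1
    have hAC : A' ≤ centralizer (A' : Set G) := le_centralizer_iff_isMulCommutative.mpr h.1
    have := hle (A'.subgroupOf (centralizer (A' : Set G))) inferInstance
      (fun x hx => Subtype.ext (by simpa using h.2 x hx))
    rw [Nat.card_congr (subgroupOfEquivOfLe hAC).toEquiv] at this
    have := (Nat.pow_le_pow_iff_right hp.out.two_le).mp (h3.trans this)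
    omega
  set W := signalizerClosure A θ with hWdef
  have hall : ∀ E : Subgroup G, IsRankGraphVertex p 2 E → signalizerClosure E θ = W := by
    intro E hE
    have hr := hconn A E (hvert A hA hA3) hE
    clear hE
    induction hr with
    | refl => rfl
    | tail _ h ih => rw [← hedge _ _ h.1 h.2.1 h.2.2, ih]
  haveI : W.Normal := by
    rw [← normalizer_eq_top_iff, eq_top_iff]
    intro g _
    rw [mem_normalizer_iff_map_conj_eq]
    set A' := A.map (MulAut.conj g).toMonoidHom with hA'
    have hA'e : IsElementaryAbelian p A' := H34.isElementaryAbelian_map hA _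
    have hA'3 : p ^ 3 ≤ Nat.card A' := by
      rwa [hA', card_map_of_injective (MulAut.conj g).injective]
    refine eq_of_le_of_card_ge ?_ (card_map_of_injective (MulAut.conj g).injective).ge
    rw [hWdef, signalizerClosure, Subgroup.map_iSup, ← signalizerClosure, ← hWdef,
      ← hall A' (hvert A' hA'e hA'3)]
    refine iSup_le fun x => ?_
    rw [← heq _ g (hdom A hA hA3 x x.2.1 x.2.2)]
    exact le_iSup (fun a : {a : G // a ∈ A' ∧ a ≠ 1} => θ (a : G))
      ⟨g * x * g⁻¹, mem_map_of_mem _ x.2.1, fun h => x.2.2 (conj_eq_one_iff.mp h)⟩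
  have hW1 : W = ⊥ := by
    rw [eq_bot_iff, ← hO]
    exact le_pPrimeCore inferInstance ((hp.out.coprime_iff_not_dvd.mpr (hcl A hA hA3).1).symm)
  have ha1 : a ≠ 1 := fun h => hp.out.ne_one (by rw [← ha.1, h, orderOf_one])
  rw [eq_bot_iff, ← hW1]
  exact le_iSup (fun a : {a : G // a ∈ A ∧ a ≠ 1} => θ (a : G))
    ⟨a, mem_sup_left (mem_zpowers a), ha1⟩

/-- Equivariant solvable signalizer functors are trivial, given completeness. -/
theorem equivariant_functor_trivial (hSF : ∀ (A : Subgroup G) (θ : G → Subgroup G),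
      IsElementaryAbelian p A → p ^ 3 ≤ Nat.card A → IsSolvableSignalizerFunctor p A θ →
        ¬ p ∣ Nat.card ↥(signalizerClosure A θ) ∧
        ∀ a ∈ A, a ≠ 1 → signalizerClosure A θ ⊓ centralizer ({a} : Set G) = θ a)
    (hO : pPrimeCore p G = ⊥) (hconn : IsRankGraphConnected p 2 G) (θ : G → Subgroup G)
    (hC : ∀ a, HasRankThreeCentralizer p a →
      θ a ≤ centralizer ({a} : Set G) ∧ ¬ p ∣ Nat.card ↥(θ a) ∧ Group.IsSolvable ↥(θ a))
    (heq : ∀ a g : G, HasRankThreeCentralizer p a →
      θ (g * a * g⁻¹) = (θ a).map (MulAut.conj g).toMonoidHom)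
    (hbal : ∀ a b : G, HasRankThreeCentralizer p a → HasRankThreeCentralizer p b → a * b = b * a →
      θ a ⊓ centralizer {b} ≤ θ b)
    {a : G} (ha : HasRankThreeCentralizer p a) : θ a = ⊥ := by
  refine connected_functor_eq_bot hO hconn θ (fun x hx => ⟨(hC x hx).1, (hC x hx).2.1⟩) heq
    (fun A hA h3 => hSF A θ hA h3 ?_) ha
  have hdom : ∀ x ∈ A, x ≠ 1 → HasRankThreeCentralizer p x :=
    fun x hx hx1 => ⟨orderOf_eq_prime (hA.2 x hx) hx1, not_pRankLE_centralizer hA h3 hx⟩
  refine ⟨⟨fun x hx hx1 => (hC x (hdom x hx hx1)).1, fun x hx hx1 => (hC x (hdom x hx hx1)).2.1,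
    fun x hx hx1 b hb y hy => ?_,
    fun x hx hx1 b hb hb1 => hbal x b (hdom x hx hx1) (hdom b hb hb1) (H52.elem_comm hA hx hb)⟩,
    fun x hx hx1 => (hC x (hdom x hx hx1)).2.2⟩
  have h := heq x b (hdom x hx hx1)
  rw [H52.elem_comm hA hb hx, mul_inv_cancel_right] at h
  rw [h]
  exact mem_map_of_mem _ hy

/-- `O_{p'} = 1` and a trivial `p`-layer give `F* = O_p`. -/
theorem generalizedFitting_eq_pCore {X : Type*} [Group X] [Finite X] (hO : pPrimeCore p X = ⊥)
    (hL : pLayer p X = ⊥) : generalizedFittingSubgroup X = pCore p X := by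
  have hlay : layer X = ⊥ := by
    have h := (pLayer_eq_bot_iff p).mp hL
    haveI := pPrimeCore_normal p X
    let e : X ⧸ pPrimeCore p X ≃* X :=
      (QuotientGroup.quotientMulEquivOfEq hO).trans QuotientGroup.quotientBot
    rw [← layer_map_equiv e, h, Subgroup.map_bot]
  rw [generalizedFitting_eq_fitting_of_layer_eq_bot hlay]
  refine le_antisymm ?_ (pCore_le_fittingSubgroup p X)
  rw [fittingSubgroup_eq_iSup_pCore]
  refine iSup_le fun q => ?_
  by_cases hqp : (q : ℕ) = p
  · rw [hqp]
  · refine le_trans ?_ (bot_le (a := pCore p X))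
    rw [← hO]
    haveI : Fact (q : ℕ).Prime := ⟨Nat.prime_of_mem_primeFactors q.2⟩
    refine le_pPrimeCore (pCore_normal q X) ?_
    obtain ⟨k, hk⟩ := (pCore_isPGroup q X).exists_card_eq
    rw [hk]
    exact ((Nat.coprime_primes (Fact.out : (q : ℕ).Prime) hp.out).mpr hqp).pow_left k

/-- Cores of centralizers with trivial `p`-layers vanish, given completeness. -/
theorem fStar_centralizer_eq_pCore (hSF : ∀ (A : Subgroup G) (θ : G → Subgroup G),
      IsElementaryAbelian p A → p ^ 3 ≤ Nat.card A → IsSolvableSignalizerFunctor p A θ →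
        ¬ p ∣ Nat.card ↥(signalizerClosure A θ) ∧
        ∀ a ∈ A, a ≠ 1 → signalizerClosure A θ ⊓ centralizer ({a} : Set G) = θ a)
    (hO : pPrimeCore p G = ⊥) (hconn : IsRankGraphConnected p 2 G)
    (hL : ∀ a : G, HasRankThreeCentralizer p a → pLayer p ↥(centralizer ({a} : Set G)) = ⊥ ∧
      Group.IsSolvable ↥(centralizerPPrimeCore p a))
    {a : G} (ha : HasRankThreeCentralizer p a) :
    generalizedFittingSubgroup ↥(centralizer ({a} : Set G)) =
      pCore p ↥(centralizer ({a} : Set G)) := by
  have hbot : centralizerPPrimeCore p a = ⊥ := by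
    refine equivariant_functor_trivial hSF hO hconn (centralizerPPrimeCore p) (fun x hx => ?_)
      (fun x g _ => (centralizerPPrimeCore_map_aut p (MulAut.conj g) x).symm)
      (fun x y hx hy hxy => ?_) ha
    · exact ⟨H59.centralizerPPrimeCore_le p x,
        hp.out.coprime_iff_not_dvd.mp (H59.centralizerPPrimeCore_coprime p x).symm, (hL x hx).2⟩
    · exact core_inf_centralizer_le_of_pConstrained (isPGroup_zpowers_of_orderOf hx.1) hxy
        (isPConstrained_iff_pLayer_eq_bot.mpr (hL y hy).1)
  refine generalizedFitting_eq_pCore ?_ (hL a ha).1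
  have h : (pPrimeCore p ↥(centralizer ({a} : Set G))).map
      (centralizer ({a} : Set G)).subtype = ⊥ := hbot
  exact (map_eq_bot_iff_of_injective _ (centralizer ({a} : Set G)).subtype_injective).mp h

end Cfsg.Agent.H51
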