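import Cfsg.Agent.H51.ExtremelyClosedBasic
import Cfsg.Agent.H20.Generation

/-!
# Extremely closed abelian `p`-subgroups: colouring of conjugates

The core statement: if some element of `H` is moved by `N(H)` and the local hypotheses hold, then
`G = N(H) O_{p'}(G)`.
-/

set_option autoImplicit false
set_option linter.style.haveILetI false
set_option linter.unusedSectionVars false

namespace Cfsg.Agent.H51.ExtClosed

open Subgroup

variable {G : Type*} [Group G]

/-- Local factorization `L = N_L(H) O_{p'}(L)`. -/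
def Factors (p : ℕ) (H L : Subgroup G) : Prop :=
  ∀ x ∈ L, ∃ o ∈ core p L, o⁻¹ * x ∈ normalizer (H : Set G)

/-- `y ∈ H` is the colour of `d` when `y⁻¹ d` has order prime to `p`. -/
def Col (p : ℕ) (H : Subgroup G) (d y : G) : Prop := y ∈ H ∧ ¬ p ∣ orderOf (y⁻¹ * d)

variable [Finite G] {p : ℕ} [hp : Fact p.Prime] {H : Subgroup G}

omit hp in
/-- Each pair of conjugates generates `H` times a normal `p'`-subgroup. -/
theorem pair_decomp (hec : Cfsg.IsExtremelyClosed H) {g x : G}
    (hX : Factors p H (H ⊔ cj H g)) (hx : x ∈ H ⊔ cj H g) :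
    ∃ o ∈ core p (H ⊔ cj H g), o⁻¹ * x ∈ H := by
  obtain ⟨o, ho, hn⟩ := hX x hx
  refine ⟨o, ho, ?_⟩
  have : o⁻¹ * x ∈ (H ⊔ cj H g) ⊓ normalizer (H : Set G) :=
    ⟨Subgroup.mul_mem _ (Subgroup.inv_mem _ (core_le _ _ ho)) hx, hn⟩
  rwa [hec g] at this

/-- Each conjugate of `H` is conjugate to it under a core. -/
theorem cj_eq_of_core (hH : IsPGroup p H) (hec : Cfsg.IsExtremelyClosed H) {g : G}
    (hX : Factors p H (H ⊔ cj H g)) :
    ∃ o ∈ core p (H ⊔ cj H g), o⁻¹ * g ∈ normalizer (H : Set G) := by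
  set X := H ⊔ cj H g with hXdef
  -- transport everything to the group `X`
  haveI : ((core p X).subgroupOf X).Normal := ⟨fun r hr a => by
    rw [mem_subgroupOf] at hr ⊢
    simpa using core_normalized p X a.2 hr⟩
  have hcop : (Nat.card ((core p X).subgroupOf X)).Coprime p := by
    rw [Nat.card_congr (subgroupOfEquivOfLe (core_le p X)).toEquiv]
    exact core_coprime p X
  have htop : (H.subgroupOf X) ⊔ (core p X).subgroupOf X = ⊤ := by
    refine eq_top_iff.mpr fun x _ => ?_
    obtain ⟨o, ho, hh⟩ := pair_decomp hec hX x.2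
    have hox : o ∈ X := core_le p X ho
    have : x = ⟨o, hox⟩ * ⟨o⁻¹ * x, X.mul_mem (X.inv_mem hox) x.2⟩ := Subtype.ext (by simp)
    rw [this]
    exact Subgroup.mul_mem _ (mem_sup_right (by rwa [mem_subgroupOf]))
      (mem_sup_left (by rwa [mem_subgroupOf]))
  have hP : IsPGroup p ((cj H g).subgroupOf X) :=
    (hH.map _).comap_subtype
  obtain ⟨c, hc⟩ := exists_conj_le hcop htop hP
  obtain ⟨o, ho, hh⟩ := pair_decomp hec hX c.2
  set a := o⁻¹ * (c : G) with ha
  have hoN : ∀ x ∈ X, x ∈ H → a⁻¹ * x * a ∈ H := fun x _ hxH => by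
    exact H.mul_mem (H.mul_mem (H.inv_mem hh) hxH) hh
  -- `(c⁻¹)`-conjugate: `c (g H g⁻¹) c⁻¹ ≤ H`
  have hmem : (c : G) * g ∈ normalizer (H : Set G) := by
    apply Subgroup.mem_normalizer_fintype
    intro y hy
    have hyX : g * y * g⁻¹ ∈ X := mem_sup_right (by rw [mem_cj]; simpa [mul_assoc] using hy)
    have := hc ⟨g * y * g⁻¹, hyX⟩ (by rw [mem_subgroupOf, mem_cj]; simpa [mul_assoc] using hy)
    rw [mem_subgroupOf] at this
    simpa [mul_assoc] using this
  refine ⟨(a⁻¹ * o⁻¹ * a), ?_, ?_⟩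
  · have haX : a ∈ X := mem_sup_left hh
    simpa using core_normalized p X (X.inv_mem haX) ((core p X).inv_mem ho)
  · have : (a⁻¹ * o⁻¹ * a)⁻¹ * g = a⁻¹ * ((c : G) * g) := by
      rw [ha]; group
    rw [this]
    exact Subgroup.mul_mem _ (Subgroup.inv_mem _ (le_normalizer hh)) hmem

omit hp [Finite G] in
theorem h_mem_pair (g : G) {x : G} (hx : x ∈ H) : g * x * g⁻¹ ∈ H ⊔ cj H g :=
  mem_sup_right (by rw [mem_cj]; simpa [mul_assoc] using hx)

omit [Finite G] hp in
theorem H_normalizes_core (g : G) : ∀ a ∈ H, ∀ r ∈ core p (H ⊔ cj H g),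
    a * r * a⁻¹ ∈ core p (H ⊔ cj H g) :=
  fun _ ha _ hr => core_normalized p _ (mem_sup_left ha) hr

/-- An element of order prime to `p` in a pair lies in its core. -/
theorem mem_core_of_not_dvd (hH : IsPGroup p H) (hec : Cfsg.IsExtremelyClosed H) {g z : G}
    (hX : Factors p H (H ⊔ cj H g)) (hz : z ∈ H ⊔ cj H g) (hord : ¬ p ∣ orderOf z) :
    z ∈ core p (H ⊔ cj H g) := by
  obtain ⟨o, ho, ha⟩ := pair_decomp hec hX hz
  exact mem_of_prime_to hH (H_normalizes_core g) ho ha (by simp) hord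

/-- Colours exist. -/
theorem exists_col (hec : Cfsg.IsExtremelyClosed H) {g d : G}
    (hX : Factors p H (H ⊔ cj H g)) (hd : d ∈ cj H g) : ∃ y, Col p H d y := by
  obtain ⟨o, ho, hy⟩ := pair_decomp hec hX (mem_sup_right hd)
  refine ⟨_, hy, not_dvd_orderOf_of_mem (core_coprime p (H ⊔ cj H g)) ?_⟩
  have := H_normalizes_core (p := p) g _ (H.inv_mem hy) _ ho
  convert this using 1
  group

/-- Colours are unique. -/
theorem col_unique (hH : IsPGroup p H) (hec : Cfsg.IsExtremelyClosed H) {g d y y' : G}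
    (hX : Factors p H (H ⊔ cj H g)) (hd : d ∈ cj H g) (hy : Col p H d y) (hy' : Col p H d y') :
    y = y' := by
  set X := H ⊔ cj H g
  have h1 := mem_core_of_not_dvd hH hec hX
    (X.mul_mem (X.inv_mem (mem_sup_left hy.1)) (mem_sup_right hd)) hy.2
  have h2 := mem_core_of_not_dvd hH hec hX
    (X.mul_mem (X.inv_mem (mem_sup_left hy'.1)) (mem_sup_right hd)) hy'.2
  have h3 : y⁻¹ * y' ∈ core p X := by
    have := (core p X).mul_mem h1 ((core p X).inv_mem h2)
    simpa [mul_assoc] using this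
  exact inv_mul_eq_one.mp
    (eq_one_of_mem_of_coprime (core_coprime p X) hH h3 (H.mul_mem (H.inv_mem hy.1) hy'.1))

/-- Centralized parts of pair cores lie in the core of the centralizer. -/
theorem core_centralized_le [IsMulCommutative H] (hH : IsPGroup p H)
    (hec : Cfsg.IsExtremelyClosed H) {g h x : G} (hh : h ∈ H)
    (hX : Factors p H (H ⊔ cj H g)) (hC : Factors p H (centralizer ({h} : Set G)))
    (hx : x ∈ core p (H ⊔ cj H g)) (hxh : x ∈ centralizer ({h} : Set G)) :
    x ∈ core p (centralizer ({h} : Set G)) := by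
  set X := H ⊔ cj H g
  set C := centralizer ({h} : Set G)
  have hHC : ∀ a ∈ H, a ∈ C := fun a ha => mem_centralizer_singleton_iff.mpr (by
    exact (setLike_mul_comm ha hh))
  obtain ⟨o, ho, hn⟩ := hC x hxh
  set n := o⁻¹ * x with hndef
  have hnC : n ∈ C := C.mul_mem (C.inv_mem (core_le _ _ ho)) hxh
  have key : ∀ a ∈ H, a * x * a⁻¹ * x⁻¹ ∈ core p C := by
    intro a ha
    have hh0 : a * (n * a⁻¹ * n⁻¹) ∈ H :=
      H.mul_mem ha ((mem_normalizer_iff.mp hn _).mp (H.inv_mem ha))
    set h0 := a * (n * a⁻¹ * n⁻¹) with hh0def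
    refine mem_of_prime_to hH (fun b hb r hr => core_normalized p C (hHC b hb) hr)
      (o := a * o * a⁻¹ * (h0 * o⁻¹ * h0⁻¹)) (a := h0) ?_ hh0 ?_ ?_
    · exact (core p C).mul_mem (core_normalized p C (hHC a ha) ho)
        (core_normalized p C (hHC _ hh0) ((core p C).inv_mem ho))
    · rw [hh0def, hndef]; group
    · refine not_dvd_orderOf_of_mem (core_coprime p X) ?_
      exact (core p X).mul_mem (H_normalizes_core g a ha x hx) ((core p X).inv_mem hx)
  have hcop : (Nat.card (core p X ⊓ core p C : Subgroup G)).Coprime p :=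
    (core_coprime p X).coprime_dvd_left (card_dvd_of_le inf_le_left)
  obtain ⟨e, he, hcomm⟩ := exists_commute_in_coset hH hcop
    (fun a ha r hr => ⟨H_normalizes_core g a ha r hr.1, core_normalized p C (hHC a ha) hr.2⟩) x
    (fun a ha => ⟨by
      simpa [mul_assoc] using (core p X).mul_mem ((core p X).inv_mem hx) (H_normalizes_core g a ha x hx),
      by
      have := core_normalized p C (C.inv_mem hxh) (key a ha)
      simpa [mul_assoc] using this⟩)
  have hxe : x * e ∈ X ⊓ normalizer (H : Set G) := by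
    refine ⟨core_le p X ((core p X).mul_mem hx he.1), ?_⟩
    show x * e ∈ normalizer (H : Set G)
    rw [mem_normalizer_iff]
    intro a
    constructor
    · intro ha
      rwa [← hcomm a ha, mul_assoc, mul_inv_cancel, mul_one]
    · intro ha
      have h2 := hcomm _ ha
      have h3 : a = x * e * a * (x * e)⁻¹ := by
        apply mul_left_cancel (a := x * e)
        rw [← h2]
        group
      rw [h3]
      exact ha
  rw [hec g] at hxe
  have h1 := eq_one_of_mem_of_coprime (core_coprime p X) hH ((core p X).mul_mem hx he.1) hxe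
  rw [eq_inv_of_mul_eq_one_left h1]
  exact (core p C).inv_mem he.2

/-- A `p'`-close element of `⟨h, d⟩` commuting with `h`. -/
theorem exists_link [IsMulCommutative H] (hH : IsPGroup p H) (hec : Cfsg.IsExtremelyClosed H)
    {g d h : G} (hX : Factors p H (H ⊔ cj H g)) (hd : d ∈ cj H g) (hh : h ∈ H) :
    ∃ j ∈ closure ({h, d} : Set G), h * j = j * h ∧ ¬ p ∣ orderOf (d⁻¹ * j) := by
  set X := H ⊔ cj H g
  set X0 := closure ({h, d} : Set G)
  have hX0 : X0 ≤ X := (closure_le X).mpr fun z hz => by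
    rcases hz with rfl | rfl
    · exact mem_sup_left hh
    · exact mem_sup_right hd
  have hhX0 : h ∈ X0 := subset_closure (Set.mem_insert _ _)
  have hdX0 : d ∈ X0 := subset_closure (Set.mem_insert_of_mem _ rfl)
  obtain ⟨o, ho, hy⟩ := pair_decomp hec hX (mem_sup_right hd)
  set D := core p X ⊓ X0
  have hD : (Nat.card D).Coprime p :=
    (core_coprime p X).coprime_dvd_left (card_dvd_of_le inf_le_left)
  have hP : IsPGroup p (zpowers h) := hH.to_le ((zpowers_le).mpr hh)
  obtain ⟨e, he, hc⟩ := exists_commute_in_coset hP hD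
    (fun a ha r hr => ⟨H_normalizes_core g a (zpowers_le.mpr hh ha) r hr.1,
      X0.mul_mem (X0.mul_mem (zpowers_le.mpr hhX0 ha) hr.2)
        (X0.inv_mem (zpowers_le.mpr hhX0 ha))⟩) d
    (fun a ha => ⟨by
      have haH : a ∈ H := zpowers_le.mpr hh ha
      have hay : a * (o⁻¹ * d) = o⁻¹ * d * a := setLike_mul_comm haH hy
      have h1 : o⁻¹ * (a * o * a⁻¹) ∈ core p X :=
        (core p X).mul_mem ((core p X).inv_mem ho) (H_normalizes_core g a haH o ho)
      have h2 := H_normalizes_core (p := p) g _ (H.inv_mem hy) _ h1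
      have e1 : d⁻¹ * a * d * a⁻¹ =
          (o⁻¹ * d)⁻¹ * (o⁻¹ * (a * o * a⁻¹)) * (o⁻¹ * d)⁻¹⁻¹ := by
        calc d⁻¹ * a * d * a⁻¹
            = (o⁻¹ * d)⁻¹ * o⁻¹ * a * o * (a⁻¹ * (a * (o⁻¹ * d))) * a⁻¹ := by group
          _ = _ := by rw [hay]; group
      show d⁻¹ * a * d * a⁻¹ ∈ core p X
      rw [e1]
      exact h2,
      X0.mul_mem (X0.mul_mem (X0.mul_mem (X0.inv_mem hdX0) (zpowers_le.mpr hhX0 ha)) hdX0)
        (X0.inv_mem (zpowers_le.mpr hhX0 ha))⟩)
  exact ⟨d * e, X0.mul_mem hdX0 he.2, hc h (mem_zpowers h),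
    not_dvd_orderOf_of_mem (core_coprime p X) (by simpa using he.1)⟩

/-- Colours are invariant under the cores of centralizers. -/
theorem col_conj [IsMulCommutative H] (hH : IsPGroup p H) (hec : Cfsg.IsExtremelyClosed H)
    (hpair : ∀ g, Factors p H (H ⊔ cj H g)) {g d y h k : G} (hh : h ∈ H)
    (hC : Factors p H (centralizer ({h} : Set G)))
    (hk : k ∈ core p (centralizer ({h} : Set G))) (hd : d ∈ cj H g) (hy : Col p H d y) :
    Col p H (k * d * k⁻¹) y := by
  set C := centralizer ({h} : Set G)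
  set d' := k * d * k⁻¹
  have hd' : d' ∈ cj H (k * g) := by
    rw [mem_cj] at hd ⊢
    simpa [d', mul_assoc] using hd
  obtain ⟨y'', hy''⟩ := exists_col hec (hpair (k * g)) hd'
  suffices heq : y = y'' by rwa [← heq] at hy''
  obtain ⟨j, hjX0, hjh, hjd⟩ := exists_link hH hec (hpair g) hd hh
  have hkh : h * k = k * h := (mem_centralizer_singleton_iff.mp (core_le _ _ hk)).symm
  have hkh' : k * h * k⁻¹ = h := by rw [← hkh]; group
  have link : ∀ (g : G) (d j y : G), d ∈ cj H g → j ∈ closure ({h, d} : Set G) → h * j = j * h →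
      ¬ p ∣ orderOf (d⁻¹ * j) → Col p H d y → y⁻¹ * j ∈ core p C := by
    intro g d j y hd hjX0 hjh hjd hy
    set X := H ⊔ cj H g
    have hjX : j ∈ X := (closure_le X).mpr (fun z hz => by
      rcases hz with rfl | rfl
      · exact mem_sup_left hh
      · exact mem_sup_right hd) hjX0
    have h1 := mem_core_of_not_dvd hH hec (hpair g)
      (X.mul_mem (X.inv_mem (mem_sup_right hd)) hjX) hjd
    have h2 := mem_core_of_not_dvd hH hec (hpair g)
      (X.mul_mem (X.inv_mem (mem_sup_left hy.1)) (mem_sup_right hd)) hy.2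
    refine core_centralized_le hH hec hh (hpair g) hC ?_ ?_
    · simpa [mul_assoc] using (core p X).mul_mem h2 h1
    · refine C.mul_mem (C.inv_mem (mem_centralizer_singleton_iff.mpr ?_))
        (mem_centralizer_singleton_iff.mpr hjh.symm)
      exact setLike_mul_comm hy.1 hh
  have h1 := link g d j y hd hjX0 hjh hjd hy
  have h2 := link (k * g) d' (k * j * k⁻¹) y'' hd' (by
      have hm := mem_map_of_mem (MulAut.conj k).toMonoidHom hjX0
      rw [MonoidHom.map_closure] at hm
      simpa [Set.image_insert_eq, hkh', d'] using hm)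
    (by
      calc h * (k * j * k⁻¹) = k * h * k⁻¹ * (k * j * k⁻¹) := by rw [hkh']
        _ = k * (h * j) * k⁻¹ := by group
        _ = k * (j * h) * k⁻¹ := by rw [hjh]
        _ = k * j * k⁻¹ * (k * h * k⁻¹) := by group
        _ = _ := by rw [hkh'])
    (by
      have : d'⁻¹ * (k * j * k⁻¹) = k * (d⁻¹ * j) * k⁻¹ := by simp only [d']; group
      rw [this, show k * (d⁻¹ * j) * k⁻¹ = MulAut.conj k (d⁻¹ * j) from rfl,
        MulEquiv.orderOf_eq]
      exact hjd) hy''
  have h3 : j⁻¹ * (k * j * k⁻¹) ∈ core p C := by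
    have hjC : j ∈ C := mem_centralizer_singleton_iff.mpr hjh.symm
    have := core_normalized p C (C.inv_mem hjC) hk
    simpa [mul_assoc] using (core p C).mul_mem this ((core p C).inv_mem hk)
  have h4 : y⁻¹ * y'' ∈ core p C := by
    have := (core p C).mul_mem ((core p C).mul_mem h1 h3) ((core p C).inv_mem h2)
    simpa [mul_assoc] using this
  exact inv_mul_eq_one.mp
    (eq_one_of_mem_of_coprime (core_coprime p C) hH h4 (H.mul_mem (H.inv_mem hy.1) hy''.1))

omit [Finite G] hp in
theorem le_normalizer_core (p : ℕ) (L : Subgroup G) :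
    L ≤ normalizer ((core p L : Subgroup G) : Set G) := fun x hx => by
  rw [mem_normalizer_iff]
  intro r
  refine ⟨core_normalized p L hx, fun hr => ?_⟩
  simpa [mul_assoc] using core_normalized p L (L.inv_mem hx) hr

omit [Finite G] hp in
theorem core_centralizer_conj (p : ℕ) (m : G) {a x : G}
    (hx : x ∈ core p (centralizer ({a} : Set G))) :
    m * x * m⁻¹ ∈ core p (centralizer ({m * a * m⁻¹} : Set G)) := by
  obtain ⟨x, hx, rfl⟩ := hx
  let e : (centralizer ({a} : Set G)) ≃* (centralizer ({m * a * m⁻¹} : Set G)) :=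
    ((MulAut.conj m).subgroupMap _).trans (MulEquiv.subgroupCongr (by
      ext z
      show z ∈ (centralizer ({a} : Set G)).map (MulAut.conj m).toMonoidHom ↔ _
      rw [mem_map_equiv, mem_centralizer_singleton_iff, mem_centralizer_singleton_iff]
      simp only [MulAut.conj_symm_apply]
      constructor
      · intro hz
        calc z * (m * a * m⁻¹) = m * ((m⁻¹ * z * m) * a) * m⁻¹ := by group
          _ = m * (a * (m⁻¹ * z * m)) * m⁻¹ := by rw [hz]
          _ = _ := by group
      · intro hz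
        calc m⁻¹ * z * m * a = m⁻¹ * (z * (m * a * m⁻¹)) * m := by group
          _ = m⁻¹ * (m * a * m⁻¹ * z) * m := by rw [hz]
          _ = _ := by group))
  refine ⟨e x, ?_, rfl⟩
  rw [← pPrimeCore_map_equiv p e]
  exact mem_map_of_mem _ hx

/-- **The colouring argument.** If some element of `H` is moved by its normalizer, `G` factors. -/
theorem sup_eq_top_of_moved [IsMulCommutative H] (hH : IsPGroup p H)
    (hec : Cfsg.IsExtremelyClosed H) (hcyc : ¬ IsCyclic H)
    (hpair : ∀ g, Factors p H (H ⊔ cj H g))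
    (hcent : ∀ h ∈ H, h ≠ 1 → Factors p H (centralizer ({h} : Set G)))
    (hproper : ∀ L : Subgroup G, L ≠ ⊤ → H ≤ L → Factors p H L)
    {h n : G} (hh : h ∈ H) (hn : n ∈ normalizer (H : Set G)) (hne : n * h * n⁻¹ ≠ h) :
    normalizer (H : Set G) ⊔ Cfsg.pPrimeCore p G = ⊤ := by
  set N := normalizer (H : Set G) with hN
  set K := ⨆ a : {a : G // a ∈ H ∧ a ≠ 1}, core p (centralizer ({(a : G)} : Set G)) with hK
  -- the cores of the pairs lie in `K`
  have hXK : ∀ g, core p (H ⊔ cj H g) ≤ K := by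
    intro g
    have hgen := H20.iSup_centralizers_eq (A := H) (K := core p (H ⊔ cj H g)) hcyc
      ((le_sup_left (b := cj H g)).trans (le_normalizer_core p _))
      (by
        obtain ⟨k, hk⟩ := hH.exists_card_eq
        rw [hk]
        exact (core_coprime p _).symm.pow_left k)
    rw [← hgen]
    refine iSup₂_le fun a ha x hx => ?_
    exact mem_iSup_of_mem ⟨a, ha⟩
      (core_centralized_le hH hec ha.1 (hpair g) (hcent a ha.1 ha.2) hx.1 hx.2)
  have hGKN : ∀ g : G, ∃ k ∈ K, k⁻¹ * g ∈ N := fun g => by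
    obtain ⟨o, ho, ho'⟩ := cj_eq_of_core hH hec (hpair g)
    exact ⟨o, hXK g ho, ho'⟩
  -- colours are `K`-invariant
  have hinv : ∀ k ∈ K, ∀ g d y, d ∈ cj H g → Col p H d y → Col p H (k * d * k⁻¹) y := by
    intro k hk
    refine Subgroup.iSup_induction (C := fun k => ∀ g d y, d ∈ cj H g → Col p H d y →
      Col p H (k * d * k⁻¹) y) _ hk ?_ ?_ ?_
    · rintro ⟨a, ha, ha1⟩ x hx g d y hd hy
      exact col_conj hH hec hpair ha (hcent a ha ha1) hx hd hy
    · intro g d y _ hy
      simpa using hy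
    · intro x x' hx hx' g d y hd hy
      have h1 := hx' g d y hd hy
      have h2 : x' * d * x'⁻¹ ∈ cj H (x' * g) := by
        rw [mem_cj] at hd ⊢
        simpa [mul_assoc] using hd
      simpa [mul_assoc] using hx _ _ y h2 h1
  -- `K` is normal
  have hKN : ∀ m ∈ N, ∀ x ∈ K, m * x * m⁻¹ ∈ K := by
    intro m hm x hx
    refine Subgroup.iSup_induction (C := fun x => m * x * m⁻¹ ∈ K) _ hx ?_ (by simp) ?_
    · rintro ⟨a, ha, ha1⟩ x hx
      refine mem_iSup_of_mem ⟨m * a * m⁻¹, (mem_normalizer_iff.mp hm a).mp ha,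
        fun he => ha1 (conj_eq_one_iff.mp he)⟩ ?_
      exact core_centralizer_conj p m hx
    · intro u v hu hv
      simpa [mul_assoc] using K.mul_mem hu hv
  haveI hKn : K.Normal := ⟨fun x hx g => by
    obtain ⟨k, hk, hm⟩ := hGKN g
    have := K.mul_mem (K.mul_mem hk (hKN _ hm x hx)) (K.inv_mem hk)
    simpa [mul_assoc] using this⟩
  set L := K ⊔ H
  by_cases hL : L = ⊤
  · exfalso
    obtain ⟨k, hk, a, ha, rfl⟩ : ∃ k ∈ K, ∃ a ∈ H, k * a = n := by
      have hnL : n ∈ L := hL ▸ mem_top n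
      rw [← SetLike.mem_coe, Subgroup.normal_mul] at hnL
      exact hnL
    have hkN : k ∈ N := by
      have := N.mul_mem hn (N.inv_mem (le_normalizer ha))
      simpa using this
    have hhcj : h ∈ cj H 1 := by rw [mem_cj]; simpa using hh
    have h0 : Col p H h h := ⟨hh, by simpa using hp.out.ne_one⟩
    have h1 := hinv k hk 1 h h hhcj h0
    have hk1 : k * h * k⁻¹ ∈ H := (mem_normalizer_iff.mp hkN h).mp hh
    have h2 : Col p H (k * h * k⁻¹) (k * h * k⁻¹) := ⟨hk1, by
      rw [inv_mul_cancel, orderOf_one]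
      exact fun hd => hp.out.ne_one (Nat.dvd_one.mp hd)⟩
    have h3 := col_unique hH hec (hpair 1) (by rw [mem_cj]; simpa using hk1) h2 h1
    apply hne
    have hah : a * h = h * a := setLike_mul_comm ha hh
    calc k * a * h * (k * a)⁻¹ = k * (a * h) * a⁻¹ * k⁻¹ := by group
      _ = k * h * k⁻¹ := by rw [hah]; group
      _ = h := h3
  · haveI hLn : L.Normal := by
      refine normalizer_eq_top_iff.mp (eq_top_iff.mpr fun g _ => ?_)
      obtain ⟨k, hk, hm⟩ := hGKN g
      have h1 : k ∈ normalizer (L : Set G) := le_normalizer (mem_sup_left hk)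
      have h2 : k⁻¹ * g ∈ normalizer (L : Set G) := by
        apply Subgroup.mem_normalizer_fintype
        intro x hx
        rw [Subgroup.normal_mul] at hx
        obtain ⟨u, hu, v, hv, rfl⟩ := hx
        show k⁻¹ * g * (u * v) * (k⁻¹ * g)⁻¹ ∈ L
        rw [← conj_mul]
        exact L.mul_mem (mem_sup_left (hKn.conj_mem u hu _))
          (mem_sup_right ((mem_normalizer_iff.mp hm v).mp hv))
      simpa using Subgroup.mul_mem _ h1 h2
    refine eq_top_iff.mpr fun g _ => ?_
    obtain ⟨k, hk, hm⟩ := hGKN g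
    obtain ⟨o, ho, ho'⟩ := hproper L hL le_sup_right k (mem_sup_left hk)
    have hoG : o ∈ Cfsg.pPrimeCore p G := pPrimeCore_map_subtype_le p ho
    rw [show g = o * ((o⁻¹ * k) * (k⁻¹ * g)) by group]
    exact Subgroup.mul_mem _ (mem_sup_right hoG) (mem_sup_left (N.mul_mem ho' hm))

end Cfsg.Agent.H51.ExtClosed
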