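import Mathlib
import Cfsg.Prelude.Def_SubgroupEmbedding
import Cfsg.Agent.H51.Basic

/-!
# Extremely closed abelian `p`-subgroups: elementary tools
-/

set_option autoImplicit false
set_option linter.style.haveILetI false

namespace Cfsg.Agent.H51.ExtClosed

open Subgroup

variable {G : Type*} [Group G]

/-- The conjugate `g H g⁻¹`. -/
abbrev cj (H : Subgroup G) (g : G) : Subgroup G := H.map (MulAut.conj g).toMonoidHom

/-- `O_{p'}(L)` seen inside `G`. -/
abbrev core (p : ℕ) (L : Subgroup G) : Subgroup G := (Cfsg.pPrimeCore p L).map L.subtype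

theorem mem_cj {H : Subgroup G} {g x : G} : x ∈ cj H g ↔ g⁻¹ * x * g ∈ H := by
  rw [cj, Subgroup.mem_map_equiv]
  simp

theorem core_le (p : ℕ) (L : Subgroup G) : core p L ≤ L := map_subtype_le _

theorem core_normalized (p : ℕ) (L : Subgroup G) {x r : G} (hx : x ∈ L) (hr : r ∈ core p L) :
    x * r * x⁻¹ ∈ core p L := by
  obtain ⟨r', hr', rfl⟩ := hr
  exact ⟨⟨x, hx⟩ * r' * ⟨x, hx⟩⁻¹, (pPrimeCore_normal p L).conj_mem r' hr' _, rfl⟩

theorem core_coprime [Finite G] (p : ℕ) (L : Subgroup G) : (Nat.card (core p L)).Coprime p :=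
  (pPrimeCore_coprime p L).coprime_dvd_left (card_map_dvd _ _)

/-- A power `z ^ n ∈ R` with `n` prime to the order of `z` forces `z ∈ R`. -/
theorem mem_of_pow_mem {R : Subgroup G} {z : G} {n : ℕ} (hc : (orderOf z).Coprime n)
    (h : z ^ n ∈ R) : z ∈ R := by
  obtain ⟨m, hm⟩ := exists_pow_eq_self_of_coprime hc.symm
  rw [← hm]
  exact R.pow_mem h m

/-- Powers of a product `o * a` with `a` normalizing `R ∋ o`. -/
theorem mul_pow_mem {R : Subgroup G} {o a : G} (ho : o ∈ R)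
    (hn : ∀ r ∈ R, a * r * a⁻¹ ∈ R) (n : ℕ) : (o * a) ^ n * (a ^ n)⁻¹ ∈ R := by
  induction n with
  | zero => simp
  | succ n ih =>
    have : (o * a) ^ (n + 1) * (a ^ (n + 1))⁻¹ = o * (a * ((o * a) ^ n * (a ^ n)⁻¹) * a⁻¹) := by
      rw [pow_succ' (o * a), pow_succ' a]
      group
    rw [this]
    exact R.mul_mem ho (hn _ ih)

/-- An element of order prime to `p` of `R * H` lies in `R`. -/
theorem mem_of_prime_to [Finite G] {p : ℕ} [hp : Fact p.Prime] {R H : Subgroup G}
    (hH : IsPGroup p H) (hn : ∀ a ∈ H, ∀ r ∈ R, a * r * a⁻¹ ∈ R) {o a z : G} (ho : o ∈ R)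
    (ha : a ∈ H) (hz : z = o * a) (hord : ¬ p ∣ orderOf z) : z ∈ R := by
  obtain ⟨k, hk⟩ := hH ⟨a, ha⟩
  have hk' : a ^ p ^ k = 1 := congrArg Subtype.val hk
  refine mem_of_pow_mem (n := p ^ k) ((hp.out.coprime_iff_not_dvd.mpr hord).symm.pow_right k) ?_
  have := mul_pow_mem ho (hn a ha) (p ^ k)
  rwa [hk', inv_one, mul_one, ← hz] at this

theorem not_dvd_orderOf_of_mem [Finite G] {p : ℕ} [hp : Fact p.Prime] {R : Subgroup G}
    (hR : (Nat.card R).Coprime p) {z : G} (hz : z ∈ R) : ¬ p ∣ orderOf z :=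
  fun hdvd => hp.out.coprime_iff_not_dvd.mp hR.symm
    (hdvd.trans (Subgroup.orderOf_dvd_natCard R hz))

theorem eq_one_of_mem_of_coprime [Finite G] {p : ℕ} [hp : Fact p.Prime] {R H : Subgroup G}
    (hR : (Nat.card R).Coprime p) (hH : IsPGroup p H) {z : G} (hzR : z ∈ R) (hzH : z ∈ H) :
    z = 1 := by
  obtain ⟨k, hk⟩ := hH.exists_card_eq
  refine orderOf_eq_one_iff.mp (Nat.eq_one_of_dvd_coprimes (hR.pow_right k)
    (Subgroup.orderOf_dvd_natCard R hzR) (hk ▸ Subgroup.orderOf_dvd_natCard H hzH))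

/-- A `p`-group stabilizing a coset of a normalized `p'`-subgroup fixes an element of it. -/
theorem exists_commute_in_coset [Finite G] {p : ℕ} [hp : Fact p.Prime] {P D : Subgroup G}
    (hP : IsPGroup p P) (hD : (Nat.card D).Coprime p) (hn : ∀ a ∈ P, ∀ r ∈ D, a * r * a⁻¹ ∈ D)
    (d : G) (hd : ∀ a ∈ P, d⁻¹ * a * d * a⁻¹ ∈ D) :
    ∃ e ∈ D, ∀ a ∈ P, a * (d * e) = d * e * a := by
  have hmem : ∀ (a : P) (e : D), d⁻¹ * (a : G) * d * (e : G) * (a : G)⁻¹ ∈ D := fun a e => by
    have : d⁻¹ * (a : G) * d * (e : G) * (a : G)⁻¹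
        = (d⁻¹ * (a : G) * d * (a : G)⁻¹) * ((a : G) * e * (a : G)⁻¹) := by group
    rw [this]
    exact D.mul_mem (hd _ a.2) (hn _ a.2 _ e.2)
  letI : MulAction P D :=
    { smul := fun a e => ⟨_, hmem a e⟩
      one_smul := fun e => Subtype.ext (by
        change d⁻¹ * ((1 : P) : G) * d * (e : G) * ((1 : P) : G)⁻¹ = e
        simp)
      mul_smul := fun a b e => Subtype.ext (by
        change d⁻¹ * ((a * b : P) : G) * d * (e : G) * ((a * b : P) : G)⁻¹
          = d⁻¹ * (a : G) * d * (d⁻¹ * (b : G) * d * (e : G) * (b : G)⁻¹) * (a : G)⁻¹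
        rw [Subgroup.coe_mul]
        group) }
  obtain ⟨e, he⟩ := hP.nonempty_fixed_point_of_prime_not_dvd_card D
    (hp.out.coprime_iff_not_dvd.mp hD.symm)
  refine ⟨e, e.2, fun a ha => ?_⟩
  have h1 : d⁻¹ * a * d * (e : G) * a⁻¹ = e := congrArg Subtype.val (he ⟨a, ha⟩)
  calc a * (d * e) = d * (d⁻¹ * a * d * (e : G) * a⁻¹) * a := by group
    _ = d * e * a := by rw [h1]

/-- A `p`-subgroup of `G = N D`, `D` a normal `p'`-subgroup, has a conjugate in `N`. -/
theorem exists_conj_le [Finite G] {p : ℕ} [hp : Fact p.Prime] {N D : Subgroup G} [D.Normal]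
    (hD : (Nat.card D).Coprime p) (h : N ⊔ D = ⊤) {P : Subgroup G} (hP : IsPGroup p P) :
    ∃ c : G, ∀ x ∈ P, c * x * c⁻¹ ∈ N := by
  let Q : Sylow p N := default
  have hidx : ¬ p ∣ ((Q : Subgroup N).map N.subtype).index := by
    rw [index_map_subtype]
    refine hp.out.not_dvd_mul Q.not_dvd_index ?_
    have h1 : N.index ∣ Nat.card D := by
      have h2 : D.index = D.relIndex N := by
        rw [← relIndex_top_right D, ← h, relIndex_sup_right]
      have e1 : Nat.card D * D.relIndex N = Nat.card N * N.index := by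
        rw [← h2, card_mul_index, card_mul_index]
      have e2 : Nat.card (D.subgroupOf N) * D.relIndex N = Nat.card N :=
        (D.subgroupOf N).card_mul_index
      refine ⟨Nat.card (D.subgroupOf N), ?_⟩
      have hne : D.relIndex N ≠ 0 := fun h0 => by
        rw [h0, mul_zero] at e2
        exact Nat.card_pos.ne' e2.symm
      apply Nat.eq_of_mul_eq_mul_right (Nat.pos_of_ne_zero hne)
      rw [e1, ← e2]
      ring
    exact fun hd => hp.out.coprime_iff_not_dvd.mp hD.symm (hd.trans h1)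
  let Q' : Sylow p G := (Q.2.map N.subtype).toSylow hidx
  obtain ⟨R, hR⟩ := hP.exists_le_sylow
  obtain ⟨c, hc⟩ := MulAction.exists_smul_eq G R Q'
  refine ⟨c, fun x hx => ?_⟩
  have hxQ : c * x * c⁻¹ ∈ (Q' : Subgroup G) := by
    rw [← hc, Sylow.coe_subgroup_smul, Subgroup.mem_pointwise_smul_iff_inv_smul_mem]
    simpa [mul_assoc] using hR hx
  exact map_subtype_le _ hxQ

/-- A self-normalizing `p`-subgroup is a Sylow subgroup. -/
theorem not_dvd_index_of_self_normalizing [Finite G] {p : ℕ} [hp : Fact p.Prime] {H : Subgroup G}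
    (hH : IsPGroup p H) (hN : normalizer (H : Set G) ≤ H) : ¬ p ∣ H.index := by
  obtain ⟨R, hR⟩ := hH.exists_le_sylow
  suffices heq : H = R by rw [heq]; exact R.not_dvd_index
  by_contra hne
  haveI := R.2.isNilpotent
  have hlt : H.subgroupOf R < ⊤ := by
    refine lt_top_iff_ne_top.mpr fun ht => hne (le_antisymm hR ?_)
    exact subgroupOf_eq_top.mp ht
  obtain ⟨x, hx, hxH⟩ := SetLike.exists_of_lt
    (Group.normalizerCondition_of_isNilpotent (G := R) _ hlt)
  refine hxH (hN ?_)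
  rw [Subgroup.mem_normalizer_iff]
  intro y
  rw [Subgroup.mem_normalizer_iff] at hx
  constructor
  · intro hy
    exact (hx ⟨y, hR hy⟩).mp hy
  · intro hy
    have hyR : y ∈ (R : Subgroup G) := by
      have hh : (x : G) * y * (x : G)⁻¹ ∈ (R : Subgroup G) := hR hy
      have := R.toSubgroup.mul_mem (R.toSubgroup.mul_mem (R.toSubgroup.inv_mem x.2) hh) x.2
      simpa [mul_assoc] using this
    exact (hx ⟨y, hyR⟩).mpr hy

end Cfsg.Agent.H51.ExtClosed
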