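import Cfsg.Agent.H51.ExtremelyClosed
import Cfsg.Agent.H28.ZStar

/-!
# Extremely closed abelian 2-subgroups: `G = N(H) O(G)`
-/

set_option autoImplicit false
set_option linter.style.haveILetI false
set_option linter.unusedSectionVars false

universe u

namespace Cfsg.Agent.H51.ExtClosed

open Subgroup

variable {G : Type u} [Group G] [Finite G] {p : ℕ} [hp : Fact p.Prime] {H : Subgroup G}

/-- The hypothesis passes to subgroups. -/
theorem extremelyClosed_subgroupOf (hec : Cfsg.IsExtremelyClosed H) {L : Subgroup G} (hHL : H ≤ L) :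
    Cfsg.IsExtremelyClosed (H.subgroupOf L) := by
  intro g
  refine le_antisymm (fun x hx => ?_) (le_inf le_sup_left le_normalizer)
  rw [mem_subgroupOf]
  rw [← hec (g : G)]
  refine ⟨?_, ?_⟩
  · have hle : (H.subgroupOf L ⊔ (H.subgroupOf L).map (MulAut.conj g).toMonoidHom) ≤
        (H ⊔ cj H (g : G)).subgroupOf L := by
      refine sup_le (fun y hy => mem_sup_left (hy : (y : G) ∈ H)) ?_
      rintro _ ⟨y, hy, rfl⟩
      refine mem_sup_right ?_
      exact mem_map_of_mem (MulAut.conj (g : G)).toMonoidHom (hy : (y : G) ∈ H)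
    exact hle hx.1
  · apply Subgroup.mem_normalizer_fintype
    intro y hy
    exact (mem_normalizer_iff.mp hx.2 ⟨y, hHL hy⟩).mp hy

/-- From the factorization of `L` as an abstract group to `Factors`. -/
theorem factors_of_sup_eq_top {L : Subgroup G} (hHL : H ≤ L)
    (h : normalizer ((H.subgroupOf L : Subgroup L) : Set L) ⊔ Cfsg.pPrimeCore p L = ⊤) :
    Factors p H L := by
  intro x hx
  haveI := pPrimeCore_normal p L
  have hm : (⟨x, hx⟩ : L) ∈ Cfsg.pPrimeCore p L ⊔ normalizer ((H.subgroupOf L : Subgroup L) : Set L) := by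
    rw [sup_comm, h]; exact mem_top _
  rw [← SetLike.mem_coe, Subgroup.normal_mul] at hm
  obtain ⟨o, ho, n, hn, hon⟩ := hm
  refine ⟨o, mem_map_of_mem _ ho, ?_⟩
  have hon' : (o : G) * n = x := congrArg Subtype.val hon
  rw [← hon', inv_mul_cancel_left]
  apply Subgroup.mem_normalizer_fintype
  intro y hy
  exact (mem_normalizer_iff.mp hn ⟨y, hHL hy⟩).mp hy

/-- The self-normalizing case: Burnside's transfer. -/
theorem sup_eq_top_of_self_normalizing [IsMulCommutative H] (hH : IsPGroup p H)
    (hN : normalizer (H : Set G) ≤ H) :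
    normalizer (H : Set G) ⊔ Cfsg.pPrimeCore p G = ⊤ := by
  let P : Sylow p G := hH.toSylow (not_dvd_index_of_self_normalizing hH hN)
  have hP : normalizer ((P : Subgroup G) : Set G) ≤ centralizer ((P : Subgroup G) : Set G) := by
    intro x hx
    rw [mem_centralizer_iff]
    intro y hy
    exact setLike_mul_comm (S := Subgroup G) (s := H) hy (hN hx)
  set M := (MonoidHom.transferSylow P hP).ker
  have hM : M ≤ Cfsg.pPrimeCore p G := le_pPrimeCore inferInstance
    ((hp.out.coprime_iff_not_dvd.mpr (MonoidHom.not_dvd_card_ker_transferSylow P hP)).symm)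
  have h1 := (MonoidHom.ker_transferSylow_isComplement' P hP).sup_eq_top
  refine eq_top_iff.mpr (h1 ▸ sup_le (hM.trans le_sup_right) ?_)
  exact le_sup_of_le_left (le_normalizer (H := H))

/-- A central subgroup of order prime power: passing to the quotient. -/
theorem sup_eq_top_of_quotient (hH : IsPGroup p H) (Z : Subgroup G) [Z.Normal] (hZH : Z ≤ H)
    (hZc : Z ≤ Subgroup.center G)
    (h : normalizer ((H.map (QuotientGroup.mk' Z) : Subgroup (G ⧸ Z)) : Set (G ⧸ Z)) ⊔
      Cfsg.pPrimeCore p (G ⧸ Z) = ⊤) :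
    normalizer (H : Set G) ⊔ Cfsg.pPrimeCore p G = ⊤ := by
  set f := QuotientGroup.mk' Z
  haveI := pPrimeCore_normal p (G ⧸ Z)
  set M := (Cfsg.pPrimeCore p (G ⧸ Z)).comap f with hMdef
  have hZM : Z ≤ M := fun z hz => by
    rw [hMdef, mem_comap, show f z = 1 from (QuotientGroup.eq_one_iff z).mpr hz]
    exact one_mem _
  have hidx : ¬ p ∣ (Z.subgroupOf M).index := by
    have e : (Z.subgroupOf M).index = Nat.card (Cfsg.pPrimeCore p (G ⧸ Z)) := by
      rw [← Subgroup.relIndex, ← relIndex_bot_left (Cfsg.pPrimeCore p (G ⧸ Z))]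
      have hb : (⊥ : Subgroup (G ⧸ Z)).comap f = Z := by
        rw [MonoidHom.comap_bot, QuotientGroup.ker_mk']
      conv_lhs => rw [← hb, relIndex_comap, hMdef,
        map_comap_eq_self_of_surjective (QuotientGroup.mk'_surjective Z)]
    rw [e]
    exact hp.out.coprime_iff_not_dvd.mp (pPrimeCore_coprime p _).symm
  let P : Sylow p M := ((hH.to_le hZH).comap_subtype (K := M)).toSylow hidx
  have hP : normalizer ((P : Subgroup M) : Set M) ≤ centralizer ((P : Subgroup M) : Set M) := by
    intro x _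
    rw [mem_centralizer_iff]
    intro y hy
    exact Subtype.ext (mem_center_iff.mp (hZc hy) x).symm
  set T := (MonoidHom.transferSylow P hP).ker
  have hT : T.map M.subtype ≤ Cfsg.pPrimeCore p G := by
    refine (map_mono (le_pPrimeCore inferInstance ?_)).trans (pPrimeCore_map_subtype_le p)
    exact (hp.out.coprime_iff_not_dvd.mpr (MonoidHom.not_dvd_card_ker_transferSylow P hP)).symm
  have hM : M ≤ normalizer (H : Set G) ⊔ Cfsg.pPrimeCore p G := by
    intro x hx
    have h1 := (MonoidHom.ker_transferSylow_isComplement' P hP).sup_eq_top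
    have h2 : (⟨x, hx⟩ : M) ∈ T ⊔ (P : Subgroup M) := h1 ▸ mem_top _
    have h3 := mem_map_of_mem M.subtype h2
    rw [Subgroup.map_sup] at h3
    refine (sup_le (hT.trans le_sup_right) ?_) h3
    rintro _ ⟨y, hy, rfl⟩
    exact mem_sup_left (le_normalizer (hZH hy))
  have hcomap : (H.map f).comap f = H := by
    rw [comap_map_eq, QuotientGroup.ker_mk']
    exact sup_eq_left.mpr hZH
  refine eq_top_iff.mpr fun g _ => ?_
  have hg : f g ∈ Cfsg.pPrimeCore p (G ⧸ Z) ⊔ normalizer ((H.map f : Subgroup (G ⧸ Z)) : Set _) := by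
    rw [sup_comm, h]; exact mem_top _
  rw [← SetLike.mem_coe, Subgroup.normal_mul] at hg
  obtain ⟨o, ho, n, hn, hon⟩ := hg
  obtain ⟨o', rfl⟩ := QuotientGroup.mk'_surjective Z o
  have h1 : f (o'⁻¹ * g) = n := by rw [map_mul, map_inv, ← hon]; exact inv_mul_cancel_left _ _
  have h2 : o'⁻¹ * g ∈ normalizer (H : Set G) := by
    apply Subgroup.mem_normalizer_fintype
    intro y hy
    show o'⁻¹ * g * y * (o'⁻¹ * g)⁻¹ ∈ H
    rw [← hcomap, mem_comap, map_mul, map_mul, map_inv f (o'⁻¹ * g), h1]
    exact (mem_normalizer_iff.mp hn (f y)).mp (mem_map_of_mem f hy)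
  rw [show g = o' * (o'⁻¹ * g) by group]
  exact Subgroup.mul_mem _ (hM (mem_comap.mpr ho)) (mem_sup_left h2)

/-- The hypothesis passes to the quotient by a central subgroup of `H`. -/
theorem extremelyClosed_map (hec : Cfsg.IsExtremelyClosed H) (Z : Subgroup G) [Z.Normal]
    (hZH : Z ≤ H) : Cfsg.IsExtremelyClosed (H.map (QuotientGroup.mk' Z)) := by
  set f := QuotientGroup.mk' Z
  intro gb
  obtain ⟨g, rfl⟩ := QuotientGroup.mk'_surjective Z gb
  refine le_antisymm (fun xb hx => ?_) (le_inf le_sup_left le_normalizer)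
  obtain ⟨x, rfl⟩ := QuotientGroup.mk'_surjective Z xb
  have hsup : H.map f ⊔ (H.map f).map (MulAut.conj (f g)).toMonoidHom = (H ⊔ cj H g).map f := by
    rw [Subgroup.map_sup, cj, map_map, map_map]
    congr 2
  have hxX : x ∈ H ⊔ cj H g := by
    have h1 : x ∈ ((H ⊔ cj H g).map f).comap f := by rw [mem_comap, ← hsup]; exact hx.1
    rwa [comap_map_eq, QuotientGroup.ker_mk', sup_eq_left.mpr (hZH.trans le_sup_left)] at h1
  have hcomap : (H.map f).comap f = H := by
    rw [comap_map_eq, QuotientGroup.ker_mk']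
    exact sup_eq_left.mpr hZH
  have hxN : x ∈ normalizer (H : Set G) := by
    apply Subgroup.mem_normalizer_fintype
    intro y hy
    show x * y * x⁻¹ ∈ H
    rw [← hcomap, mem_comap, map_mul, map_mul, map_inv]
    exact (mem_normalizer_iff.mp hx.2 (f y)).mp (mem_map_of_mem f hy)
  exact mem_map_of_mem f (hec g ▸ (⟨hxX, hxN⟩ : x ∈ (H ⊔ cj H g) ⊓ normalizer (H : Set G)))

/-- The `Z*` case: an involution of `H` fixed by `N(H)`. -/
theorem sup_eq_top_of_fixed_involution {H : Subgroup G} [IsMulCommutative H] (hH : IsPGroup 2 H)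
    (hec : Cfsg.IsExtremelyClosed H) {h : G} (hh : h ∈ H) (hord : orderOf h = 2)
    (hfix : ∀ n ∈ normalizer (H : Set G), n * h * n⁻¹ = h)
    (hcent : ∀ a ∈ H, a ≠ 1 → Factors 2 H (centralizer ({a} : Set G))) :
    normalizer (H : Set G) ⊔ Cfsg.pPrimeCore 2 G = ⊤ := by
  haveI := Fact.mk Nat.prime_two
  -- move any `p`-subgroup of a centralizer into the normalizer of `H`
  have move : ∀ a ∈ H, a ≠ 1 → ∀ P : Subgroup G, IsPGroup 2 P → P ≤ centralizer ({a} : Set G) →
      ∃ c ∈ centralizer ({a} : Set G), ∀ x ∈ P, c * x * c⁻¹ ∈ normalizer (H : Set G) := by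
    intro a ha ha1 P hP hPC
    set C := centralizer ({a} : Set G)
    haveI := pPrimeCore_normal 2 C
    have htop : (normalizer (H : Set G)).subgroupOf C ⊔ Cfsg.pPrimeCore 2 C = ⊤ := by
      refine eq_top_iff.mpr fun x _ => ?_
      obtain ⟨o, ho, hn⟩ := hcent a ha ha1 x x.2
      obtain ⟨o, ho', rfl⟩ := ho
      rw [show x = o * (o⁻¹ * x) by group]
      exact Subgroup.mul_mem _ (mem_sup_right ho') (mem_sup_left (by rw [mem_subgroupOf]; exact hn))
    obtain ⟨c, hc⟩ := exists_conj_le (pPrimeCore_coprime 2 C) htop (hP.comap_subtype (K := C))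
    exact ⟨c, c.2, fun x hx => hc ⟨x, hPC hx⟩ hx⟩
  have hh1 : h ≠ 1 := fun e => by simp [e] at hord
  have hiso : H28.IsIsolatedInvolution h := by
    refine ⟨hord, fun g hg => ?_⟩
    set h' := g * h * g⁻¹ with hh'
    have hh'C : zpowers h' ≤ centralizer ({h} : Set G) :=
      zpowers_le.mpr (mem_centralizer_singleton_iff.mpr hg.symm)
    have hh'p : IsPGroup 2 (zpowers h') := by
      refine IsPGroup.of_card (n := 1) ?_
      rw [Nat.card_zpowers, hh', show g * h * g⁻¹ = MulAut.conj g h from rfl, MulEquiv.orderOf_eq,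
        hord, pow_one]
    obtain ⟨c, hcC, hc⟩ := move h hh hh1 _ hh'p hh'C
    set w := c * h' * c⁻¹ with hw
    have hwcj : w ∈ cj H (c * g) := by rw [mem_cj, hw, hh']; simpa [mul_assoc] using hh
    have hwH : w ∈ H := by
      rw [← hec (c * g)]
      exact ⟨mem_sup_right hwcj, hc h' (mem_zpowers _)⟩
    have hw1 : w ≠ 1 := by simp [hw, hh', hh1]
    have hP2 : cj H (c * g) ≤ centralizer ({w} : Set G) := fun x hx => by
      haveI : IsMulCommutative (cj H (c * g)) := map_isMulCommutative H _
      exact mem_centralizer_singleton_iff.mpr (setLike_mul_comm hx hwcj)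
    obtain ⟨c2, hc2C, hc2⟩ := move w hwH hw1 _ (hH.map _) hP2
    have hm : c2 * (c * g) ∈ normalizer (H : Set G) := by
      apply Subgroup.mem_normalizer_fintype
      intro y hy
      show c2 * (c * g) * y * (c2 * (c * g))⁻¹ ∈ H
      rw [← hec (c2 * (c * g))]
      refine ⟨mem_sup_right (by rw [mem_cj]; simpa [mul_assoc] using hy), ?_⟩
      have := hc2 ((c * g) * y * (c * g)⁻¹) (by rw [mem_cj]; simpa [mul_assoc] using hy)
      simpa [mul_assoc] using this
    have h1 := hfix _ hm
    have h2 : c2 * w * c2⁻¹ = h := by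
      rw [← h1, hw, hh']
      group
    have h3 : c2 * w * c2⁻¹ = w := by
      rw [mem_centralizer_singleton_iff.mp hc2C, mul_inv_cancel_right]
    have hwh : w = h := h3.symm.trans h2
    have hch : c * h * c⁻¹ = h := by
      rw [mem_centralizer_singleton_iff.mp hcC, mul_inv_cancel_right]
    exact (MulAut.conj c).injective (show c * h' * c⁻¹ = c * h * c⁻¹ by rw [← hw, hwh, hch])
  have hz := H28.zStar hiso
  set D := Cfsg.pPrimeCore 2 G
  haveI := pPrimeCore_normal 2 G
  set C := centralizer ({h} : Set G)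
  have hCD : C ⊔ D = ⊤ := by
    refine eq_top_iff.mpr fun g _ => ?_
    have hP : IsPGroup 2 (zpowers h) := hH.to_le (zpowers_le.mpr hh)
    obtain ⟨e, he, hcomm⟩ := exists_commute_in_coset hP (pPrimeCore_coprime 2 G)
      (fun a _ r hr => Subgroup.Normal.conj_mem inferInstance r hr a) g (fun a ha => by
        obtain ⟨k, rfl⟩ := mem_zpowers_iff.mp ha
        have hmem : ∀ k : ℤ, h ^ k * g * (h ^ k)⁻¹ * g⁻¹ ∈ D := by
          intro k
          have hq : Commute (QuotientGroup.mk' D h) (QuotientGroup.mk' D g) := by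
            refine commute_iff_eq _ _ |>.mpr ?_
            rw [← commutatorElement_eq_one_iff_mul_comm, ← map_commutatorElement]
            exact (QuotientGroup.eq_one_iff _).mpr (by simpa [commutatorElement_def] using hz g)
          rw [← QuotientGroup.eq_one_iff]
          show QuotientGroup.mk' D (h ^ k * g * (h ^ k)⁻¹ * g⁻¹) = 1
          rw [map_mul, map_mul, map_mul, map_inv, map_inv, map_zpow, (hq.zpow_left k).eq,
            mul_inv_cancel_right, mul_inv_cancel]
        have := Subgroup.Normal.conj_mem (inferInstance : D.Normal) _ (hmem k) g⁻¹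
        simpa [mul_assoc] using this)
    have hge : g * e ∈ C := mem_centralizer_singleton_iff.mpr (hcomm h (mem_zpowers h)).symm
    rw [show g = g * e * e⁻¹ by group]
    exact Subgroup.mul_mem _ (mem_sup_left hge) (mem_sup_right (D.inv_mem he))
  haveI hn : ((core 2 C) ⊔ D).Normal := by
    refine normalizer_eq_top_iff.mp (eq_top_iff.mpr ?_)
    rw [← hCD]
    refine sup_le (fun x hx => ?_) ((le_sup_right : D ≤ core 2 C ⊔ D).trans le_normalizer)
    apply Subgroup.mem_normalizer_fintype
    intro y hy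
    rw [Subgroup.mul_normal] at hy
    obtain ⟨r, hr, d, hd, rfl⟩ := hy
    show x * (r * d) * x⁻¹ ∈ core 2 C ⊔ D
    rw [← conj_mul]
    exact Subgroup.mul_mem _ (mem_sup_left (core_normalized 2 C hx hr))
      (mem_sup_right (Subgroup.Normal.conj_mem inferInstance d hd x))
  have hcD : core 2 C ≤ D := le_sup_left.trans (le_pPrimeCore hn
    (((core_coprime 2 C).mul_left (pPrimeCore_coprime 2 G)).coprime_dvd_left
      (card_sup_dvd_mul_of_normal _ _)))
  refine eq_top_iff.mpr (hCD ▸ sup_le (fun x hx => ?_) le_sup_right)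
  obtain ⟨o, ho, hn'⟩ := hcent h hh hh1 x hx
  rw [show x = o * (o⁻¹ * x) by group]
  exact Subgroup.mul_mem _ (mem_sup_right (hcD ho)) (mem_sup_left hn')

/-- A cyclic 2-group has only one involution. -/
theorem eq_of_involutions_cyclic {H : Subgroup G} [IsCyclic H] {a b : G} (ha : a ∈ H) (hb : b ∈ H)
    (ha2 : orderOf a = 2) (hb2 : orderOf b = 2) : a = b := by
  classical
  haveI := Fintype.ofFinite H
  by_contra hne
  have hsub : ({1, ⟨a, ha⟩, ⟨b, hb⟩} : Finset H) ⊆ Finset.univ.filter (fun x => x ^ 2 = 1) := by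
    intro x hx
    simp only [Finset.mem_insert, Finset.mem_singleton] at hx
    refine Finset.mem_filter.mpr ⟨Finset.mem_univ _, ?_⟩
    rcases hx with rfl | rfl | rfl
    · exact one_pow 2
    · exact Subtype.ext (by simp [← ha2, pow_orderOf_eq_one a])
    · exact Subtype.ext (by simp [← hb2, pow_orderOf_eq_one b])
  have h3 : ({1, ⟨a, ha⟩, ⟨b, hb⟩} : Finset H).card = 3 := by
    have e1 : a ≠ 1 := fun e => by simp [e] at ha2
    have e2 : b ≠ 1 := fun e => by simp [e] at hb2
    simp [Finset.card_insert_of_notMem, Subtype.ext_iff, e1.symm, e2.symm, hne]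
  have := (Finset.card_le_card hsub).trans (IsCyclic.card_pow_eq_one_le (α := H) two_pos)
  omega

/-- **Extremely closed abelian 2-subgroups.** -/
theorem sup_oddCore_eq_top : ∀ n : ℕ, ∀ (G : Type u) [Group G] [Finite G], Nat.card G ≤ n →
    ∀ (H : Subgroup G), IsMulCommutative H → IsPGroup 2 H → Cfsg.IsExtremelyClosed H →
      normalizer (H : Set G) ⊔ Cfsg.pPrimeCore 2 G = ⊤ := by
  intro n
  induction n with
  | zero => intro G _ _ hn; exact absurd hn (by have := Nat.card_pos (α := G); omega)
  | succ n ih =>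
    intro G _ _ hn H hab hH hec
    haveI := hab
    haveI := Fact.mk Nat.prime_two
    have hfac : ∀ L : Subgroup G, L ≠ ⊤ → H ≤ L → Factors 2 H L := by
      intro L hL hHL
      refine factors_of_sup_eq_top hHL (ih L ?_ _ inferInstance hH.comap_subtype
        (extremelyClosed_subgroupOf hec hHL))
      have : Nat.card L < Nat.card G :=
        (Subgroup.card_le_card_group L).lt_of_ne fun h => hL ((Subgroup.card_eq_iff_eq_top L).mp h)
      omega
    by_cases hNtop : normalizer (H : Set G) = ⊤
    · rw [hNtop, top_sup_eq]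
    by_cases hgen : ∃ g, H ⊔ cj H g = ⊤
    · obtain ⟨g, hg⟩ := hgen
      refine sup_eq_top_of_self_normalizing hH ?_
      have := hec g
      rw [show H.map (MulAut.conj g).toMonoidHom = cj H g from rfl, hg, top_inf_eq] at this
      exact this.le
    push Not at hgen
    have hpair : ∀ g, Factors 2 H (H ⊔ cj H g) := fun g => hfac _ (hgen g) le_sup_left
    -- a central involution of `H`
    by_cases hz : ∃ z ∈ H, orderOf z = 2 ∧ z ∈ Subgroup.center G
    · obtain ⟨z, hzH, hz2, hzc⟩ := hz
      have hZc : zpowers z ≤ Subgroup.center G := zpowers_le.mpr hzc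
      haveI hZn : (zpowers z).Normal :=
        ⟨fun x hx g => by rwa [mem_center_iff.mp (hZc hx) g, mul_inv_cancel_right]⟩
      refine sup_eq_top_of_quotient hH (zpowers z) (zpowers_le.mpr hzH) hZc ?_
      refine ih (G ⧸ zpowers z) ?_ _ inferInstance (hH.map _)
        (extremelyClosed_map hec _ (zpowers_le.mpr hzH))
      have h2 := card_eq_card_quotient_mul_card_subgroup (zpowers z)
      rw [Nat.card_zpowers, hz2] at h2
      have := Nat.card_pos (α := G ⧸ zpowers z)
      omega
    push Not at hz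
    have hcent : ∀ a ∈ H, a ≠ 1 → Factors 2 H (centralizer ({a} : Set G)) := by
      intro a ha ha1
      refine hfac _ (fun htop => ?_) fun x hx => mem_centralizer_singleton_iff.mpr
        (setLike_mul_comm hx ha)
      have hac : a ∈ Subgroup.center G := mem_center_iff.mpr fun g =>
        mem_centralizer_singleton_iff.mp (htop ▸ mem_top g)
      obtain ⟨k, hk⟩ := hH.exists_card_eq
      obtain ⟨m, -, hm⟩ := (Nat.dvd_prime_pow Nat.prime_two).mp
        (hk ▸ Subgroup.orderOf_dvd_natCard H ha)
      have hm0 : m ≠ 0 := fun e => ha1 (orderOf_eq_one_iff.mp (by rw [hm, e, pow_zero]))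
      refine hz (a ^ (orderOf a / 2)) (H.pow_mem ha _) ?_ (Subgroup.pow_mem _ hac _)
      refine orderOf_pow_orderOf_div (orderOf_pos a).ne' ?_
      rw [hm]
      exact dvd_pow_self 2 hm0
    by_cases hfix : ∃ h ∈ H, orderOf h = 2 ∧ ∀ x ∈ normalizer (H : Set G), x * h * x⁻¹ = h
    · obtain ⟨h, hh, h2, hx⟩ := hfix
      exact sup_eq_top_of_fixed_involution hH hec hh h2 hx hcent
    push Not at hfix
    -- `H` is non-trivial and non-cyclic, with a moved involution
    have hne : H ≠ ⊥ := by
      rintro rfl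
      exact hNtop (normalizer_eq_top (H := (⊥ : Subgroup G)))
    obtain ⟨k, hk⟩ := hH.exists_card_eq
    have h2H : 2 ∣ Nat.card H := by
      rw [hk]
      refine dvd_pow_self 2 fun e => ?_
      rw [e, pow_zero] at hk
      exact hne (Subgroup.card_eq_one.mp hk)
    obtain ⟨⟨h, hh⟩, ht⟩ := exists_prime_orderOf_dvd_card' 2 h2H
    rw [Subgroup.orderOf_mk] at ht
    obtain ⟨x, hx, hxne⟩ := hfix h hh ht
    refine sup_eq_top_of_moved hH hec ?_ hpair hcent hfac hh hx hxne
    intro hcyc
    exact hxne (eq_of_involutions_cyclic ((mem_normalizer_iff.mp hx h).mp hh) hh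
      (by rw [show x * h * x⁻¹ = MulAut.conj x h from rfl, MulEquiv.orderOf_eq, ht]) ht)

end Cfsg.Agent.H51.ExtClosed
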