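import Cfsg.Agent.S0111
import Cfsg.Agent.H24.SmallRank
import Cfsg.Agent.H22.PResidual

/-!
A four-group of operators all of whose elements fix only one involution of a perfect group: the
group has a single involution in each Sylow 2-subgroup.
-/

set_option autoImplicit false
set_option linter.style.haveILetI false

namespace Cfsg.Agent.H51.FourGroupRankOne

open Subgroup
open scoped commutatorElement

/-- A normal subgroup strictly inside another one of a 2-group grows by a central step. -/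
theorem exists_central_step {T : Type*} [Group T] [Finite T] (hT : IsPGroup 2 T)
    (A B : Subgroup T) [A.Normal] [B.Normal] (hAB : ¬ B ≤ A) :
    ∃ x ∈ B, x ∉ A ∧ x * x ∈ A ∧ ∀ g : T, g * x * g⁻¹ * x⁻¹ ∈ A := by
  set π := QuotientGroup.mk' A with hπ
  set Bb := B.map π with hBb
  haveI : Bb.Normal := Normal.map inferInstance π (QuotientGroup.mk'_surjective A)
  obtain ⟨k, hk⟩ := ((hT.to_quotient A).to_subgroup Bb).exists_card_eq
  have hk1 : 1 ≤ k := by
    by_contra hk0
    apply hAB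
    rw [show k = 0 by omega, pow_zero] at hk
    have h := Subgroup.eq_bot_of_card_eq Bb hk
    rwa [hBb, Subgroup.map_eq_bot_iff, hπ, QuotientGroup.ker_mk'] at h
  obtain ⟨D, hD, hDB, hDc⟩ := H24.exists_normal_le_card (hT.to_quotient A) hk hk1
  rw [pow_one] at hDc
  obtain ⟨d, hd1, hd⟩ := Nat.card_eq_two_iff.1 hDc
  have hall : ∀ e ∈ D, e = (d : T ⧸ A) ∨ e = (hd1 : T ⧸ A) := fun e he => by
    obtain ⟨-, hu⟩ := hd
    have : (⟨e, he⟩ : D) ∈ ({d, hd1} : Set D) := hu ▸ Set.mem_univ _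
    rcases this with h | h
    exacts [Or.inl (congrArg Subtype.val h), Or.inr (congrArg Subtype.val h)]
  obtain ⟨y, hyD, hy1⟩ : ∃ y ∈ D, y ≠ 1 :=
    D.bot_or_exists_ne_one.resolve_left fun h => by
      rw [h, card_bot] at hDc
      omega
  have huniq : ∀ e ∈ D, e = 1 ∨ e = y := fun e he => by
    rcases hall e he with h | h <;> rcases hall y hyD with h' | h' <;>
      rcases hall 1 D.one_mem with h'' | h'' <;>
      first
        | exact Or.inl (h.trans h''.symm)
        | exact Or.inr (h.trans h'.symm)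
        | exact absurd (h'.trans h''.symm) hy1
  obtain ⟨x, hxB, rfl⟩ := hDB hyD
  refine ⟨x, hxB, fun hxA => hy1 ((QuotientGroup.eq_one_iff x).2 hxA), ?_, fun g => ?_⟩
  · rw [← QuotientGroup.eq_one_iff, QuotientGroup.mk_mul]
    rcases huniq _ (mul_mem hyD hyD) with h | h
    · exact h
    · exact absurd (mul_eq_left.1 h) hy1
  · rw [← QuotientGroup.eq_one_iff, QuotientGroup.mk_mul, QuotientGroup.mk_inv, mul_inv_eq_one,
      QuotientGroup.mk_mul, QuotientGroup.mk_mul, QuotientGroup.mk_inv]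
    refine (huniq _ (hD.conj_mem _ hyD (π g))).resolve_left fun h => hy1 ?_
    exact conj_eq_one_iff.1 h

/-- An abelian 2-group with at most one involution is cyclic. -/
theorem exists_generator_of_unique_involution {K : Type*} [Group K] [Finite K] {A : Subgroup K}
    (hA : IsPGroup 2 A) (hc : ∀ a ∈ A, ∀ b ∈ A, a * b = b * a) {z : K}
    (hz : ∀ a ∈ A, a * a = 1 → a = 1 ∨ a = z) : ∃ a ∈ A, ∀ b ∈ A, b ∈ zpowers a := by
  classical
  have : Fintype A := Fintype.ofFinite A
  obtain ⟨a, -, ha⟩ := Finset.exists_max_image (Finset.univ : Finset A)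
    (fun a : A => orderOf (a : K)) Finset.univ_nonempty
  refine ⟨a, a.2, ?_⟩
  by_contra hcon
  push Not at hcon
  obtain ⟨b, hb, hbA⟩ := hcon
  obtain ⟨n, hn⟩ := hA ⟨b, hb⟩
  have hn' : b ^ 2 ^ n = 1 := congrArg Subtype.val hn
  -- the last power of `b` outside
  have : ∃ j, b ^ 2 ^ j ∈ zpowers (a : K) := ⟨n, hn' ▸ one_mem _⟩
  obtain ⟨y, hyA, hy, hy2⟩ : ∃ y ∈ A, y ∉ zpowers (a : K) ∧ y * y ∈ zpowers (a : K) := by
    cases hj : Nat.find this with
    | zero => exact absurd (by simpa [hj] using Nat.find_spec this) hbA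
    | succ j =>
      refine ⟨b ^ 2 ^ j, pow_mem hb _, Nat.find_min this (by omega), ?_⟩
      have := Nat.find_spec this
      rwa [hj, pow_succ, pow_mul, sq] at this
  obtain ⟨i, hi⟩ := mem_zpowers_iff.1 hy2
  obtain ⟨e, he⟩ := IsPGroup.iff_orderOf.1 hA a
  rw [← Subgroup.orderOf_coe] at he
  obtain ⟨i, rfl⟩ | ⟨i, rfl⟩ := Int.even_or_odd i
  · -- an even power: an involution outside
    have h1 : (y * ((a : K) ^ i)⁻¹) * (y * ((a : K) ^ i)⁻¹) = 1 := by
      have hca : Commute y ((a : K) ^ i)⁻¹ :=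
        (Commute.zpow_right (show Commute y (a : K) from hc y hyA a a.2) i).inv_right
      calc _ = y * y * (((a : K) ^ i)⁻¹ * ((a : K) ^ i)⁻¹) := hca.mul_mul_mul_comm _ _ |>.symm ▸ by
            group
        _ = 1 := by rw [← hi, zpow_add]; group
    rcases hz _ (mul_mem hyA (inv_mem (zpow_mem a.2 i))) h1 with h | h
    · exact hy (by rw [mul_inv_eq_one] at h; exact h ▸ zpow_mem (mem_zpowers _) i)
    · -- `z` is a power of `a`
      have hzA : z ∈ zpowers (a : K) := by
        rcases Nat.eq_zero_or_pos e with rfl | hepos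
        · exfalso
          rw [pow_zero] at he
          have hb1 := ha ⟨y, hyA⟩ (Finset.mem_univ _)
          rw [he] at hb1
          have := orderOf_pos y
          exact hy ((orderOf_eq_one_iff.1 (by
            simp only at hb1; omega) : y = 1) ▸ one_mem _)
        · have hne : (a : K) ^ 2 ^ (e - 1) ≠ 1 := pow_ne_one_of_lt_orderOf (by positivity) (by
            rw [he]; exact Nat.pow_lt_pow_right (by norm_num) (by omega))
          have hsq : (a : K) ^ 2 ^ (e - 1) * (a : K) ^ 2 ^ (e - 1) = 1 := by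
            rw [← pow_add, ← two_mul, ← pow_succ', show e - 1 + 1 = e by omega, ← he,
              pow_orderOf_eq_one]
          rcases hz _ (pow_mem a.2 _) hsq with h' | h'
          · exact absurd h' hne
          · exact h' ▸ pow_mem (mem_zpowers _) _
      refine hy ?_
      rw [show y = z * (a : K) ^ i by rw [← h, inv_mul_cancel_right]]
      exact mul_mem hzA (zpow_mem (mem_zpowers _) i)
  · -- an odd power: `y` has larger order
    obtain ⟨f, hf⟩ := IsPGroup.iff_orderOf.1 hA ⟨y, hyA⟩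
    rw [← Subgroup.orderOf_coe] at hf
    have hle := ha ⟨y, hyA⟩ (Finset.mem_univ _)
    simp only at hle
    have hfe : f ≤ e := (Nat.pow_le_pow_iff_right (by norm_num : 1 < 2)).1 (hf ▸ he ▸ hle)
    rcases Nat.eq_zero_or_pos f with rfl | hfpos
    · rw [pow_zero, orderOf_eq_one_iff] at hf
      exact hy ((show y = 1 from hf) ▸ one_mem _)
    have h1 : ((a : K) ^ (2 * i + 1)) ^ 2 ^ (f - 1) = 1 := by
      rw [hi, ← sq, ← pow_mul, ← pow_succ', show f - 1 + 1 = f by omega]
      simpa [hf] using pow_orderOf_eq_one y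
    rw [← zpow_natCast, ← zpow_mul, ← orderOf_dvd_iff_zpow_eq_one, he] at h1
    push_cast at h1
    have hodd : IsCoprime ((2 : ℤ) ^ e) (2 * i + 1) :=
      (show IsCoprime (2 : ℤ) (2 * i + 1) from ⟨-i, 1, by ring⟩).pow_left
    have h2 := hodd.dvd_of_dvd_mul_left h1
    have h3 : 2 ^ e ∣ 2 ^ (f - 1) := by exact_mod_cast h2
    have := (Nat.pow_dvd_pow_iff_le_right (by norm_num : 1 < 2)).1 h3
    omega

/-- The core of the argument, inside `AU`. -/
theorem involution_unique {K : Type*} [Group K] [Finite K] (A : Subgroup K) [hAn : A.Normal]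
    (hperf : ⁅A, A⁆ = A) (T : Sylow 2 K) (U : Subgroup K) (hU4 : Nat.card U = 4)
    (hUe : ∀ u ∈ U, u * u = 1) (hUT : U ≤ (T : Subgroup K)) (hgen : A ⊔ U = ⊤)
    (hΓ : ∀ u ∈ U, u ≠ 1 → ∀ y ∈ A, ∀ z ∈ A, y * y = 1 → z * z = 1 → y ≠ 1 → z ≠ 1 →
      Commute y u → Commute z u → Commute y z → y = z) :
    ∃ z : K, ∀ r ∈ A ⊓ (T : Subgroup K), r * r = 1 → r = 1 ∨ r = z := by
  classical
  set P := A ⊓ (T : Subgroup K) with hPdef
  by_cases hPbot : ∀ r ∈ P, r = 1
  · exact ⟨1, fun r hr _ => Or.inl (hPbot r hr)⟩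
  push Not at hPbot
  obtain ⟨r0, hr0, hr01⟩ := hPbot
  have hTp : IsPGroup 2 (T : Subgroup K) := T.isPGroup'
  have hPn : ∀ g ∈ (T : Subgroup K), ∀ p ∈ P, g * p * g⁻¹ ∈ P := fun g hg p hp =>
    ⟨hAn.conj_mem p hp.1 g,
      (T : Subgroup K).mul_mem ((T : Subgroup K).mul_mem hg hp.2) ((T : Subgroup K).inv_mem hg)⟩
  haveI : (P.subgroupOf (T : Subgroup K)).Normal := ⟨fun p hp g => hPn g g.2 p hp⟩
  -- a central involution
  obtain ⟨z', hz'P, hz'1, hz'2, hz'c⟩ :=
    exists_central_step hTp ⊥ (P.subgroupOf (T : Subgroup K)) (fun h => hr01 (by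
      have := h (show (⟨r0, hr0.2⟩ : (T : Subgroup K)) ∈ P.subgroupOf (T : Subgroup K) from hr0)
      exact congrArg Subtype.val (mem_bot.1 this)))
  set z : K := (z' : K) with hzdef
  have hz1 : z ≠ 1 := fun h => hz'1 (mem_bot.2 (Subtype.ext h))
  have hzP : z ∈ P := hz'P
  have hz2 : z * z = 1 := congrArg Subtype.val (mem_bot.1 hz'2)
  have hzT : ∀ g ∈ (T : Subgroup K), g * z = z * g := fun g hg =>
    mul_inv_eq_iff_eq_mul.1 (congrArg Subtype.val (mul_inv_eq_one.1
      (mem_bot.1 (hz'c ⟨g, hg⟩))))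
  refine ⟨z, fun r1 hr1 hr1s => ?_⟩
  by_contra hne
  push Not at hne
  obtain ⟨hr11, hr1z⟩ := hne
  -- `U` fixes no involution of `P` other than `z`, even up to `z`
  have hU3 : ∀ (S : K → Prop), (∀ u ∈ U, ∀ v ∈ U, ¬ S u → ¬ S v → S (u * v)) →
      ∃ u ∈ U, u ≠ 1 ∧ S u := by
    intro S hS
    have h1 : ∃ a ∈ U, a ≠ 1 := U.bot_or_exists_ne_one.resolve_left fun h => by
      rw [h, card_bot] at hU4; omega
    obtain ⟨a, ha, ha1⟩ := h1
    obtain ⟨b, hb, hba⟩ : ∃ b ∈ U, b ∉ zpowers a := by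
      by_contra hall
      push Not at hall
      have h := Subgroup.card_le_of_le (show U ≤ zpowers a from hall)
      rw [hU4, Nat.card_zpowers] at h
      have := orderOf_le_of_pow_eq_one (n := 2) (x := a) (by norm_num) (by rw [sq]; exact hUe a ha)
      omega
    by_cases hSa : S a
    · exact ⟨a, ha, ha1, hSa⟩
    by_cases hSb : S b
    · exact ⟨b, hb, fun h => hba (h ▸ one_mem _), hSb⟩
    exact ⟨a * b, mul_mem ha hb, fun h => hba (by
      rw [show b = a⁻¹ from eq_inv_of_mul_eq_one_right h]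
      exact inv_mem (mem_zpowers a)), hS a ha b hb hSa hSb⟩
  have hnok : ∀ r ∈ P, r * r = 1 → r ≠ 1 → r ≠ z →
      (∀ g ∈ (T : Subgroup K), g * r * g⁻¹ = r ∨ g * r * g⁻¹ = z * r) → False := by
    intro r hr hr2 hr1' hrz horb
    obtain ⟨u, hu, hu1, hur⟩ := hU3 (fun u => u * r * u⁻¹ = r) (fun u hu v hv h1 h2 => by
      have e1 := (horb u (hUT hu)).resolve_left h1
      have e2 := (horb v (hUT hv)).resolve_left h2
      calc (u * v) * r * (u * v)⁻¹ = u * (v * r * v⁻¹) * u⁻¹ := by group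
        _ = (u * z * u⁻¹) * (u * r * u⁻¹) := by rw [e2]; group
        _ = r := by rw [e1, hzT u (hUT hu), mul_inv_cancel_right, ← mul_assoc, hz2, one_mul])
    exact hrz (hΓ u hu hu1 r hr.1 z hzP.1 hr2 hz2 hr1' hz1
      (mul_inv_eq_iff_eq_mul.1 hur).symm (hzT u (hUT hu)).symm (hzT r hr.2))
  -- a maximal abelian normal subgroup
  let F : Set (Subgroup K) := {X | X ≤ P ∧ (∀ a ∈ X, ∀ b ∈ X, a * b = b * a) ∧
    ∀ g ∈ (T : Subgroup K), ∀ a ∈ X, g * a * g⁻¹ ∈ X}
  have hF : (⊥ : Subgroup K) ∈ F := ⟨bot_le, fun a ha b hb => by rw [mem_bot.1 ha, mem_bot.1 hb],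
    fun g _ a ha => by rw [mem_bot.1 ha]; simp⟩
  obtain ⟨A0, hA0⟩ := (Set.toFinite F).exists_maximal ⟨⊥, hF⟩
  obtain ⟨hA0P, hA0c, hA0n⟩ := hA0.prop
  haveI hA0T : (A0.subgroupOf (T : Subgroup K)).Normal := ⟨fun a ha g => hA0n g g.2 a ha⟩
  have hA0p : IsPGroup 2 A0 := hTp.to_le (hA0P.trans inf_le_right)
  -- only one involution in it
  have hA0z : ∀ a ∈ A0, a * a = 1 → a = 1 ∨ a = z := by
    by_contra hcon
    push Not at hcon
    obtain ⟨a, ha, ha2, ha1, haz⟩ := hcon
    let W : Subgroup K :=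
      { carrier := {b | b ∈ A0 ∧ b * b = 1}
        one_mem' := ⟨one_mem _, one_mul 1⟩
        mul_mem' := fun {b c} hb hc => ⟨mul_mem hb.1 hc.1, by
          rw [show b * c * (b * c) = b * b * (c * c) by
            rw [mul_assoc, mul_assoc, ← mul_assoc c b, hA0c c hc.1 b hb.1, mul_assoc], hb.2, hc.2,
            one_mul]⟩
        inv_mem' := fun {b} hb => ⟨inv_mem hb.1, by rw [← mul_inv_rev, hb.2, inv_one]⟩ }
    haveI : (W.subgroupOf (T : Subgroup K)).Normal := ⟨fun b hb g => ⟨hA0n g g.2 b hb.1, by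
      show (g : K) * b * (g : K)⁻¹ * ((g : K) * b * (g : K)⁻¹) = 1
      rw [conj_mul, show (b : K) * b = 1 from hb.2, mul_one, mul_inv_cancel]⟩⟩
    haveI : (zpowers z'  : Subgroup (T : Subgroup K)).Normal := ⟨fun b hb g => by
      obtain ⟨i, rfl⟩ := mem_zpowers_iff.1 hb
      have : g * z' * g⁻¹ = z' := Subtype.ext (mul_inv_eq_iff_eq_mul.2 (hzT g g.2))
      rw [← conj_zpow, this]
      exact zpow_mem (mem_zpowers _) i⟩
    obtain ⟨r, hrW, hrz, -, hrc⟩ := exists_central_step hTp (zpowers z')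
      (W.subgroupOf (T : Subgroup K)) (fun h => by
        obtain ⟨i, hi⟩ := mem_zpowers_iff.1
          (h (show (⟨a, (hA0P ha).2⟩ : (T : Subgroup K)) ∈ W.subgroupOf _ from ⟨ha, ha2⟩))
        have hi' : z ^ i = a := by simpa using congrArg Subtype.val hi
        obtain ⟨j, rfl⟩ | ⟨j, rfl⟩ := Int.even_or_odd i
        · exact ha1 (by rw [← hi', zpow_add, ← (Commute.refl z).mul_zpow, hz2, one_zpow])
        · exact haz (by rw [← hi', zpow_add, zpow_one, zpow_mul, zpow_two, hz2, one_zpow, one_mul]))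
    refine hnok r (hA0P hrW.1) hrW.2 (fun h => hrz ?_) (fun h => hrz ?_) fun g hg => ?_
    · rw [show r = 1 from Subtype.ext h]; exact one_mem _
    · rw [show r = z' from Subtype.ext h]; exact mem_zpowers _
    · obtain ⟨i, hi⟩ := mem_zpowers_iff.1 (hrc ⟨g, hg⟩)
      have hi' : z ^ i = g * r * g⁻¹ * (r : K)⁻¹ := by simpa using congrArg Subtype.val hi
      obtain ⟨j, rfl⟩ | ⟨j, rfl⟩ := Int.even_or_odd i
      · rw [zpow_add, ← (Commute.refl z).mul_zpow, hz2, one_zpow, eq_comm, mul_inv_eq_one] at hi'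
        exact Or.inl hi'
      · rw [zpow_add, zpow_one, zpow_mul, zpow_two, hz2, one_zpow, one_mul, eq_comm,
          mul_inv_eq_iff_eq_mul] at hi'
        exact Or.inr hi'
  obtain ⟨a, haA, hagen⟩ := exists_generator_of_unique_involution hA0p hA0c hA0z
  -- it is its own centralizer in `P`
  have hself : ∀ s ∈ P, (∀ b ∈ A0, s * b = b * s) → s ∈ A0 := by
    intro s hs hsc
    by_contra hsA
    haveI : ((P ⊓ centralizer (A0 : Set K)).subgroupOf (T : Subgroup K)).Normal := ⟨fun b hb g =>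
      ⟨hPn g g.2 b hb.1, mem_centralizer_iff.2 fun c hc => by
        have h := mem_centralizer_iff.1 hb.2 _ (hA0n g⁻¹ (inv_mem g.2) c hc)
        show c * ((g : K) * b * (g : K)⁻¹) = (g : K) * b * (g : K)⁻¹ * c
        calc c * ((g : K) * b * (g : K)⁻¹)
            = (g : K) * (((g : K)⁻¹ * c * ((g : K)⁻¹)⁻¹) * b) * (g : K)⁻¹ := by group
          _ = (g : K) * (b * ((g : K)⁻¹ * c * ((g : K)⁻¹)⁻¹)) * (g : K)⁻¹ := by
              simp only [SetLike.mem_coe, Subgroup.coe_subtype] at h ⊢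
              rw [h]
          _ = _ := by group⟩⟩
    obtain ⟨x, hxB, hxA, hx2, hxc⟩ := exists_central_step hTp (A0.subgroupOf (T : Subgroup K))
      ((P ⊓ centralizer (A0 : Set K)).subgroupOf (T : Subgroup K))
      (fun h => hsA (h (show (⟨s, hs.2⟩ : (T : Subgroup K)) ∈ _ from
        ⟨hs, mem_centralizer_iff.2 fun b hb => (hsc b hb).symm⟩)))
    have hxA0 : ∀ b ∈ A0, (x : K) * b = b * x := fun b hb =>
      ((mem_centralizer_iff.1 hxB.2) b hb).symm
    let X : Subgroup K := A0 ⊔ zpowers (x : K)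
    have hXc : ∀ b ∈ X, ∀ c ∈ X, b * c = c * b := by
      have hle : X ≤ centralizer ((A0 : Set K) ∪ {(x : K)}) := by
        refine sup_le (fun b hb => mem_centralizer_iff.2 ?_) (zpowers_le.2 (mem_centralizer_iff.2 ?_))
        · rintro c (hc | rfl)
          exacts [hA0c c hc b hb, hxA0 b hb]
        · rintro c (hc | rfl)
          exacts [(hxA0 c hc).symm, rfl]
      have hle2 : X ≤ centralizer (X : Set K) := le_centralizer_iff.2 (sup_le
        (fun b hb => mem_centralizer_iff.2 fun c hc =>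
          ((mem_centralizer_iff.1 (hle hc)) b (Or.inl hb)).symm)
        (zpowers_le.2 (mem_centralizer_iff.2 fun c hc =>
          ((mem_centralizer_iff.1 (hle hc)) x (Or.inr rfl)).symm)))
      exact fun b hb c hc => (mem_centralizer_iff.1 (hle2 hc)) b hb
    have hXn : ∀ g ∈ (T : Subgroup K), ∀ b ∈ X, g * b * g⁻¹ ∈ X := by
      intro g hg b hb
      have hle : X ≤ X.comap (MulAut.conj g).toMonoidHom := by
        refine sup_le (fun c hc => ?_) (zpowers_le.2 ?_)
        · exact mem_sup_left (hA0n g hg c hc)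
        · show g * x * g⁻¹ ∈ X
          have := mul_mem (mem_sup_left (S := A0) (T := zpowers (x : K)) (hxc ⟨g, hg⟩))
            (mem_sup_right (mem_zpowers (x : K)))
          simpa using this
      exact hle hb
    exact hxA ((hA0.le_of_ge
      ⟨sup_le hA0P (zpowers_le.2 hxB.1), hXc, hXn⟩ le_sup_left) (mem_sup_right (mem_zpowers _)))
  -- an element of order four
  have hr1A : r1 ∉ A0 := fun h => by rcases hA0z r1 h hr1s with h | h <;> contradiction
  have ha2 : a * a ≠ 1 := fun h => by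
    refine hr1A (hself r1 hr1 fun b hb => ?_)
    obtain ⟨i, rfl⟩ := mem_zpowers_iff.1 (hagen b hb)
    have haT : r1 * a = a * r1 := by
      rcases hA0z a haA h with rfl | rfl
      · rw [one_mul, mul_one]
      · exact hzT r1 hr1.2
    exact (Commute.zpow_right (show Commute r1 a from haT) i).eq
  obtain ⟨e, he⟩ := IsPGroup.iff_orderOf.1 hA0p ⟨a, haA⟩
  rw [Subgroup.orderOf_mk] at he
  have he2 : 2 ≤ e := by
    by_contra hlt
    apply ha2
    rw [← sq]
    exact orderOf_dvd_iff_pow_eq_one.1 (he ▸ pow_dvd_pow 2 (by omega : e ≤ 1))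
  set c := a ^ 2 ^ (e - 2) with hcdef
  have hcA : c ∈ A0 := pow_mem haA _
  have hc4 : orderOf c = 4 := by
    rw [hcdef, orderOf_pow' a (by positivity), he,
      Nat.gcd_eq_right (pow_dvd_pow 2 (by omega : e - 2 ≤ e)),
      Nat.pow_div (by omega) (by norm_num), show e - (e - 2) = 2 by omega]
  have hcz : c * c = z := by
    have h4 : c * c * (c * c) = 1 := by
      rw [← sq, ← sq, ← pow_mul, show 2 * 2 = orderOf c by rw [hc4], pow_orderOf_eq_one]
    refine (hA0z _ (mul_mem hcA hcA) h4).resolve_left fun h => ?_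
    have := orderOf_le_of_pow_eq_one (n := 2) (by norm_num) ((sq c).trans h)
    omega
  have hcne : c ≠ c⁻¹ := fun h => by
    have h' := congrArg (c * ·) h
    simp only [mul_inv_cancel] at h'
    exact hz1 (hcz ▸ h')
  have hfour : ∀ b ∈ A0, b * b ≠ 1 → ∃ n : ℕ, b ^ n = c := by
    intro b hb hb2
    obtain ⟨f, hf⟩ := IsPGroup.iff_orderOf.1 hA0p ⟨b, hb⟩
    rw [Subgroup.orderOf_mk] at hf
    have hf2 : 2 ≤ f := by
      by_contra hlt
      apply hb2
      rw [← sq]
      exact orderOf_dvd_iff_pow_eq_one.1 (hf ▸ pow_dvd_pow 2 (by omega : f ≤ 1))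
    set d := b ^ 2 ^ (f - 2) with hd
    have hd4 : orderOf d = 4 := by
      rw [hd, orderOf_pow' b (by positivity), hf,
        Nat.gcd_eq_right (pow_dvd_pow 2 (by omega : f - 2 ≤ f)),
        Nat.pow_div (by omega) (by norm_num), show f - (f - 2) = 2 by omega]
    have hdd : d * d = z := by
      have h4 : d * d * (d * d) = 1 := by
        rw [← sq, ← sq, ← pow_mul, show 2 * 2 = orderOf d by rw [hd4], pow_orderOf_eq_one]
      refine (hA0z _ (mul_mem (pow_mem hb _) (pow_mem hb _)) h4).resolve_left fun h => ?_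
      have := orderOf_le_of_pow_eq_one (n := 2) (by norm_num) ((sq d).trans h)
      omega
    have hcd : Commute d c := hA0c d (pow_mem hb _) c hcA
    have h5 : (d * c⁻¹) * (d * c⁻¹) = 1 := by
      rw [hcd.inv_right.symm.mul_mul_mul_comm, hdd, ← mul_inv_rev, hcz, mul_inv_cancel]
    rcases hA0z _ (mul_mem (pow_mem hb _) (inv_mem hcA)) h5 with h | h
    · exact ⟨2 ^ (f - 2), mul_inv_eq_one.1 h⟩
    · refine ⟨2 ^ (f - 2) * 3, ?_⟩
      rw [pow_mul]
      have hd' : b ^ 2 ^ (f - 2) = c ^ 3 := by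
        rw [mul_inv_eq_iff_eq_mul] at h
        rw [h, ← hcz, pow_succ, pow_succ, pow_one]
      rw [hd', ← pow_mul, show 3 * 3 = orderOf c * 2 + 1 by rw [hc4], pow_add, pow_mul,
        pow_orderOf_eq_one, one_pow, one_mul, pow_one]
  have hpm : ∀ g ∈ (T : Subgroup K), g * c * g⁻¹ = c ∨ g * c * g⁻¹ = c⁻¹ := by
    intro g hg
    have hgc : g * c * g⁻¹ ∈ A0 := hA0n g hg c hcA
    have hcd : Commute (g * c * g⁻¹) c := hA0c _ hgc c hcA
    have h5 : (g * c * g⁻¹ * c⁻¹) * (g * c * g⁻¹ * c⁻¹) = 1 := by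
      rw [hcd.inv_right.symm.mul_mul_mul_comm, conj_mul, hcz, hzT g hg, mul_inv_cancel_right,
        ← mul_inv_rev, hcz, mul_inv_cancel]
    rcases hA0z _ (mul_mem hgc (inv_mem hcA)) h5 with h | h
    · exact Or.inl (mul_inv_eq_one.1 h)
    · refine Or.inr ?_
      rw [mul_inv_eq_iff_eq_mul] at h
      rw [h, ← hcz]
      have : c ^ 4 = 1 := hc4 ▸ pow_orderOf_eq_one c
      rw [eq_inv_iff_mul_eq_one, ← this]
      simp only [pow_succ, pow_zero, one_mul, mul_assoc]
  -- `T / A0` centralizes `P / A0`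
  have hact : ∀ g ∈ (T : Subgroup K), ∀ s ∈ P, g * s * g⁻¹ * s⁻¹ ∈ A0 := by
    intro g hg s hs
    refine hself _ (mul_mem (hPn g hg s hs) (inv_mem hs)) fun b hb => ?_
    obtain ⟨i, hi⟩ := mem_zpowers_iff.1 (hagen _ (hA0n s hs.2 a haA))
    have hsA : ∀ d ∈ A0, s * d * s⁻¹ = d ^ i := fun d hd => by
      obtain ⟨j, rfl⟩ := mem_zpowers_iff.1 (hagen d hd)
      rw [← conj_zpow, ← hi, ← zpow_mul, mul_comm, zpow_mul]
    have hd := hA0n g⁻¹ (inv_mem hg) _ (hA0n s⁻¹ (inv_mem hs.2) b hb)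
    have key : g * s * g⁻¹ * s⁻¹ * b * (g * s * g⁻¹ * s⁻¹)⁻¹ = b := by
      calc g * s * g⁻¹ * s⁻¹ * b * (g * s * g⁻¹ * s⁻¹)⁻¹
          = g * (s * (g⁻¹ * (s⁻¹ * b * (s⁻¹)⁻¹) * (g⁻¹)⁻¹) * s⁻¹) * g⁻¹ := by group
        _ = g * (g⁻¹ * (s⁻¹ * b * (s⁻¹)⁻¹) * (g⁻¹)⁻¹) ^ i * g⁻¹ := by rw [hsA _ hd]
        _ = (s⁻¹ * b * (s⁻¹)⁻¹) ^ i := by rw [← conj_zpow]; group
        _ = s * (s⁻¹ * b * (s⁻¹)⁻¹) * s⁻¹ := (hsA _ (hA0n s⁻¹ (inv_mem hs.2) b hb)).symm
        _ = b := by group
    exact mul_inv_eq_iff_eq_mul.1 key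
  -- involutions outside `A0` invert `c`
  have hinv : ∀ r ∈ P, r * r = 1 → r ∉ A0 → r * c * r⁻¹ = c⁻¹ := by
    intro r hr hr2 hrA
    refine (hpm r hr.2).resolve_left fun hfix => hnok r hr hr2 (fun h => hrA (h ▸ one_mem _))
      (fun h => ?_) fun g hg => ?_
    · subst h
      exact hrA (hcz ▸ mul_mem hcA hcA)
    · have hd := hact g hg r hr
      set d := g * r * g⁻¹ * r⁻¹ with hddef
      have hrd : r * d * r⁻¹ = d⁻¹ := by
        have hr' : r⁻¹ = r := inv_eq_of_mul_eq_one_right hr2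
        have hg2 : g * r * g⁻¹ * (g * r * g⁻¹) = 1 := by rw [conj_mul, hr2, mul_one, mul_inv_cancel]
        rw [hddef, mul_inv_rev, inv_inv, inv_eq_of_mul_eq_one_right hg2, hr']
        simp only [mul_assoc, hr2, mul_one]
      have hdd : d * d = 1 := by
        by_contra hdd
        obtain ⟨n, hn⟩ := hfour d hd hdd
        apply hcne
        conv_lhs => rw [← hfix, ← hn, ← conj_pow, hrd, inv_pow, hn]
      rcases hA0z d hd hdd with h | h
      · exact Or.inl (mul_inv_eq_one.1 h)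
      · exact Or.inr (mul_inv_eq_iff_eq_mul.1 h)
  -- centralizers of such involutions in `P`
  have hcent : ∀ r ∈ P, r * r = 1 → r ∉ A0 → ∀ s ∈ P, Commute s r → s * c * s⁻¹ = c →
      s = 1 ∨ s = z := by
    intro r hr hr2 hrA
    have hinA : ∀ s ∈ A0, Commute s r → s = 1 ∨ s = z := fun s hs hsr => hA0z s hs (by
      by_contra h2
      obtain ⟨n, hn⟩ := hfour s hs h2
      refine hcne ?_
      rw [← hinv r hr hr2 hrA, ← hn]
      exact (mul_inv_eq_iff_eq_mul.2 ((hsr.pow_left n).eq.symm)).symm)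
    intro s hs hsr hsc
    refine hinA s ?_ hsr
    by_contra hsA
    obtain ⟨n, hn⟩ := hTp ⟨s, hs.2⟩
    have hn' : s ^ 2 ^ n = 1 := congrArg Subtype.val hn
    have : ∃ j, s ^ 2 ^ j ∈ A0 := ⟨n, hn' ▸ one_mem _⟩
    cases hj : Nat.find this with
    | zero => exact hsA (by simpa [hj] using Nat.find_spec this)
    | succ j =>
      have ht2 := Nat.find_spec this
      rw [hj, pow_succ, pow_mul, sq] at ht2
      have htA : s ^ 2 ^ j ∉ A0 := Nat.find_min this (by omega)
      set t := s ^ 2 ^ j with htdef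
      have htP : t ∈ P := pow_mem hs _
      have htc : Commute t c := (show Commute s c from mul_inv_eq_iff_eq_mul.1 hsc).pow_left _
      rcases hinA _ ht2 ((hsr.pow_left _).mul_left (hsr.pow_left _)) with h | h
      · exact hcne ((mul_inv_eq_iff_eq_mul.2 htc.eq).symm.trans (hinv t htP h htA))
      · have htcA : t * c ∉ A0 := fun hh => htA (by simpa using mul_mem hh (inv_mem hcA))
        have htc2 : t * c * (t * c) = 1 := by
          rw [htc.symm.mul_mul_mul_comm, h, hcz, hz2]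
        exact hcne ((mul_inv_eq_iff_eq_mul.2 (htc.mul_left (Commute.refl c)).eq).symm.trans
          (hinv _ (mul_mem htP (hA0P hcA)) htc2 htcA))
  -- an element of `U` centralizing `c`
  obtain ⟨u, huU, hu1, huc⟩ := hU3 (fun u => u * c * u⁻¹ = c) (fun u hu v hv h1 h2 => by
    have e1 := (hpm u (hUT hu)).resolve_left h1
    have e2 := (hpm v (hUT hv)).resolve_left h2
    calc (u * v) * c * (u * v)⁻¹ = u * (v * c * v⁻¹) * u⁻¹ := by group
      _ = (u * c * u⁻¹)⁻¹ := by rw [e2]; group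
      _ = c := by rw [e1, inv_inv])
  have hu2 : u⁻¹ = u := inv_eq_of_mul_eq_one_right (hUe u huU)
  set x := c * u with hxdef
  have hx2 : x * x = z := by
    have huc' : u * c = c * u := mul_inv_eq_iff_eq_mul.1 huc
    calc c * u * (c * u) = c * (u * c) * u := by group
      _ = c * c * (u * u) := by rw [huc']; group
      _ = z := by rw [hUe u huU, mul_one, hcz]
  -- `u` moves every such involution by `z`
  have hxr : ∀ r ∈ P, r * r = 1 → r ∉ A0 → Commute x r := by
    intro r hr hr2 hrA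
    have hd := hact u (hUT huU) r hr
    set d := u * r * u⁻¹ * r⁻¹ with hddef
    have hud : u * d * u⁻¹ = d⁻¹ := by
      have hr' : r⁻¹ = r := inv_eq_of_mul_eq_one_right hr2
      rw [hddef, mul_inv_rev, mul_inv_rev, mul_inv_rev, inv_inv, inv_inv, hu2, hr']
      calc u * (u * r * u * r) * u = (u * u) * (r * (u * (r * u))) := by group
        _ = _ := by rw [hUe u huU, one_mul]
    have hdd : d * d = 1 := by
      by_contra hdd
      obtain ⟨n, hn⟩ := hfour d hd hdd
      apply hcne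
      conv_lhs => rw [← huc, ← hn, ← conj_pow, hud, inv_pow, hn]
    rcases hA0z d hd hdd with h | h
    · -- `u` would fix `r`
      exfalso
      have hrz : r ≠ z := fun h => by
        subst h
        exact hrA (hcz ▸ mul_mem hcA hcA)
      exact hrz (hΓ u huU hu1 r hr.1 z hzP.1 hr2 hz2 (fun h => hrA (h ▸ one_mem _)) hz1
        (mul_inv_eq_iff_eq_mul.1 (mul_inv_eq_one.1 h)).symm (hzT u (hUT huU)).symm
        (hzT r hr.2))
    · have hur : u * r * u⁻¹ = z * r := mul_inv_eq_iff_eq_mul.1 h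
      refine mul_inv_eq_iff_eq_mul.1 ?_
      have hrc := hinv r hr hr2 hrA
      have hcr : c * r * c⁻¹ = z * r := by
        calc c * r * c⁻¹ = c * (r * c * r⁻¹)⁻¹⁻¹⁻¹ * r := by group
          _ = c * c * r := by rw [hrc, inv_inv, inv_inv]
          _ = z * r := by rw [hcz]
      calc x * r * x⁻¹ = c * (u * r * u⁻¹) * c⁻¹ := by rw [hxdef]; group
        _ = (c * z * c⁻¹) * (c * r * c⁻¹) := by rw [hur]; group
        _ = r := by
          rw [hcr, hzT c (hA0P hcA).2, mul_inv_cancel_right, ← mul_assoc, hz2, one_mul]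
  -- `A⟨u⟩` is normal
  set A1 := A ⊔ zpowers u with hA1
  haveI hA1n : A1.Normal := by
    rw [← normalizer_eq_top_iff, eq_top_iff, ← hgen]
    refine sup_le ((le_sup_left : A ≤ A1).trans le_normalizer) fun v hv => ?_
    have hvu : v * u * v⁻¹ = u := by
      have hv' : v⁻¹ = v := inv_eq_of_mul_eq_one_right (hUe v hv)
      have huv : (u * v) * (u * v) = 1 := hUe _ (mul_mem huU hv)
      have : u * v = v * u := by
        have h := eq_inv_of_mul_eq_one_left huv
        rwa [mul_inv_rev, hu2, hv'] at h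
      rw [← this, mul_inv_cancel_right]
    rw [mem_normalizer_iff]
    have hmem : ∀ (w : K), w * u * w⁻¹ = u → A1 ≤ A1.comap (MulAut.conj w).toMonoidHom :=
      fun w hw => sup_le (fun b hb => mem_sup_left (hAn.conj_mem b hb w))
        (zpowers_le.2 (show w * u * w⁻¹ ∈ A1 by rw [hw]; exact mem_sup_right (mem_zpowers u)))
    refine fun b => ⟨fun hb => hmem v hvu hb, fun hb => ?_⟩
    have h := hmem v⁻¹ (by
      conv_lhs => rw [← hvu]
      group) hb
    simpa [mul_assoc] using h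
  -- fusion
  obtain ⟨P', hP'⟩ : ∃ P' : Sylow 2 A, (P' : Subgroup A) = P.subgroupOf A := by
    have hp : IsPGroup 2 (P.subgroupOf A) := (hTp.to_le inf_le_right).comap_subtype
    have hnd : ¬ 2 ∣ (P.subgroupOf A).index := by
      show ¬ 2 ∣ P.relIndex A
      rw [hPdef, inf_relIndex_left]
      exact H22.sylow_not_dvd_relIndex_normal T A
    exact ⟨hp.toSylow hnd, IsPGroup.toSylow_coe hp hnd⟩
  set Q := (P ⊓ centralizer ({c} : Set K)).subgroupOf A with hQ
  have hQ2 : Q.relIndex (P' : Subgroup A) = 2 := by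
    rw [hP', hQ, relIndex_subgroupOf inf_le_left, inf_relIndex_left, Subgroup.relIndex,
      index_eq_two_iff]
    refine ⟨⟨r1, hr1⟩, fun b => ?_⟩
    simp only [mem_subgroupOf, mem_centralizer_singleton_iff, Subgroup.coe_mul]
    have hr1c := hinv r1 hr1 hr1s hr1A
    rcases hpm b b.2.2 with hb | hb
    · refine Or.inr ⟨mul_inv_eq_iff_eq_mul.1 hb, fun h => ?_⟩
      apply hcne
      have h' := mul_inv_eq_iff_eq_mul.2 h
      rw [show (b : K) * r1 * c * ((b : K) * r1)⁻¹ = (b : K) * (r1 * c * r1⁻¹) * (b : K)⁻¹ by group,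
        hr1c, ← conj_inv, hb] at h'
      exact h'.symm
    · refine Or.inl ⟨mul_inv_eq_iff_eq_mul.1 ?_, fun h => hcne ?_⟩
      · rw [show (b : K) * r1 * c * ((b : K) * r1)⁻¹ = (b : K) * (r1 * c * r1⁻¹) * (b : K)⁻¹ by
          group, hr1c, ← conj_inv, hb, inv_inv]
      · exact (mul_inv_eq_iff_eq_mul.2 h).symm.trans hb
  have hr1o : orderOf (⟨r1, hr1.1⟩ : A) = 2 := by
    rw [Subgroup.orderOf_mk]
    exact orderOf_eq_prime (by rw [sq, hr1s]) hr11
  rcases S0111.result P' Q (hP' ▸ subgroupOf_mono A inf_le_left) hQ2 ⟨r1, hr1.1⟩ hr1o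
    (hP' ▸ hr1) (fun h => hcne (by
      rw [← hinv r1 hr1 hr1s hr1A]
      exact (mul_inv_eq_iff_eq_mul.2 (mem_centralizer_singleton_iff.1 h.2)).symm)) with
    ⟨M, hMn, hMi, hMr⟩ | ⟨g, hg⟩
  · -- no subgroup of index two
    have hAA : commutator A = ⊤ := by
      apply map_injective A.subtype_injective
      rw [map_subtype_commutator, hperf, ← MonoidHom.range_eq_map, range_subtype]
    have hle : commutator A ≤ M := by
      rw [_root_.commutator_def, Subgroup.commutator_le]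
      intro b _ d _
      rw [← QuotientGroup.eq_one_iff, ← QuotientGroup.mk'_apply, map_commutatorElement,
        commutatorElement_eq_one_iff_mul_comm]
      haveI : IsCyclic (A ⧸ M) := isCyclic_of_prime_card (p := 2) hMi
      exact IsCyclic.isMulCommutative.is_comm.comm _ _
    exact hMr (hle (hAA ▸ mem_top _))
  -- `r1` is conjugate to `z`
  have hgz : (g : K) * r1 * (g : K)⁻¹ = z := by
    obtain ⟨hgP, hgc⟩ := hg
    simp only [Subgroup.coe_subtype, Subgroup.coe_mul, InvMemClass.coe_inv] at hgP hgc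
    have h2 : (g : K) * r1 * (g : K)⁻¹ * ((g : K) * r1 * (g : K)⁻¹) = 1 := by
      rw [conj_mul, hr1s, mul_one, mul_inv_cancel]
    by_cases hA : (g : K) * r1 * (g : K)⁻¹ ∈ A0
    · exact (hA0z _ hA h2).resolve_left fun h => hr11 (conj_eq_one_iff.1 h)
    · exact absurd ((mul_inv_eq_iff_eq_mul.2 (mem_centralizer_singleton_iff.1 hgc)).symm.trans
        (hinv _ hgP h2 hA)) hcne
  set Cz := centralizer ({z} : Set K) with hCz
  have hTC : (T : Subgroup K) ≤ Cz := fun t ht => mem_centralizer_singleton_iff.2 (hzT t ht)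
  set T' := T.subtype hTC with hT'
  set y := (g : K) * x * (g : K)⁻¹ with hydef
  have hyC : y ∈ Cz := by
    rw [hCz, mem_centralizer_singleton_iff, ← hgz, hydef, conj_mul, conj_mul,
      (hxr r1 hr1 hr1s hr1A).eq]
  have hxT : x ∈ (T : Subgroup K) := mul_mem (hA0P hcA).2 (hUT huU)
  have hyp : IsPGroup 2 (zpowers (⟨y, hyC⟩ : Cz)) := by
    obtain ⟨n, hn⟩ := IsPGroup.iff_orderOf.1 hTp ⟨x, hxT⟩
    rw [Subgroup.orderOf_mk] at hn
    refine IsPGroup.of_card (n := n) ?_
    rw [Nat.card_zpowers, Subgroup.orderOf_mk, hydef, ← hn]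
    exact (SemiconjBy.orderOf_eq (g : K) (by simp [SemiconjBy] :
      SemiconjBy (g : K) x ((g : K) * x * (g : K)⁻¹))).symm
  obtain ⟨T2, hT2⟩ := hyp.exists_le_sylow
  obtain ⟨k, hk⟩ := MulAction.exists_smul_eq Cz T2 T'
  set h := (k : K) * (g : K) with hhdef
  have hhr : h * r1 * h⁻¹ = z := by
    calc h * r1 * h⁻¹ = (k : K) * ((g : K) * r1 * (g : K)⁻¹) * (k : K)⁻¹ := by rw [hhdef]; group
      _ = z := by
        rw [hgz]
        exact mul_inv_eq_iff_eq_mul.2 (mem_centralizer_singleton_iff.1 k.2)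
  set w := h * x * h⁻¹ with hwdef
  have hwT : w ∈ (T : Subgroup K) := by
    have hmem : k * ⟨y, hyC⟩ * k⁻¹ ∈ (T' : Subgroup Cz) := by
      rw [← hk, Sylow.coe_subgroup_smul]
      exact ⟨_, hT2 (mem_zpowers _), rfl⟩
    have hmem' := mem_subgroupOf.1 hmem
    have : w = (k : K) * y * (k : K)⁻¹ := by rw [hwdef, hhdef, hydef]; group
    rw [this]
    simpa using hmem'
  have hwA : w ∈ A1 := hA1n.conj_mem x
    (mul_mem (mem_sup_left (hA0P hcA).1) (mem_sup_right (mem_zpowers u))) h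
  -- its square is `z`
  have hw2z : w * w ≠ z := fun h2 => by
    rw [hwdef, conj_mul, hx2, ← hhr] at h2
    exact hr1z ((mul_left_cancel (mul_right_cancel h2)).symm.trans hhr)
  have hww : w * w ∈ P ∧ w * w * (w * w) = 1 ∧ w * w ≠ 1 := by
    refine ⟨⟨?_, mul_mem hwT hwT⟩, ?_, ?_⟩
    · rw [hwdef, conj_mul, hx2]
      exact hAn.conj_mem z hzP.1 h
    · rw [hwdef, conj_mul, hx2, conj_mul, hz2, mul_one, mul_inv_cancel]
    · rw [hwdef, conj_mul, hx2]
      exact fun h' => hz1 (conj_eq_one_iff.1 h')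
  obtain ⟨hr'P, hr'2, hr'1⟩ := hww
  set r' := w * w with hr'def
  have hr'A : r' ∉ A0 := fun h' => (hA0z r' h' hr'2).elim hr'1 hw2z
  have hwr : Commute w r' := (Commute.refl w).mul_right (Commute.refl w)
  rw [hA1, ← SetLike.mem_coe, Subgroup.normal_mul] at hwA
  obtain ⟨b, hb, v, hv, hbv⟩ := hwA
  obtain ⟨i, rfl⟩ := mem_zpowers_iff.1 hv
  have hzr' : Commute z r' := (hzT r' hr'P.2).symm
  have hr'c := hinv r' hr'P hr'2 hr'A
  -- elements of `P` commuting with `r'`
  have hsq : ∀ s ∈ P, Commute s r' → s * s = 1 ∧ (s = 1 ∨ s = z ∨ s = r' ∨ s = z * r') := by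
    intro s hs hsr
    rcases hpm s hs.2 with hsc | hsc
    · rcases hcent r' hr'P hr'2 hr'A s hs hsr hsc with rfl | rfl
      · exact ⟨one_mul 1, Or.inl rfl⟩
      · exact ⟨hz2, Or.inr (Or.inl rfl)⟩
    · have hfix : (s * r') * c * (s * r')⁻¹ = c := by
        calc (s * r') * c * (s * r')⁻¹ = s * (r' * c * r'⁻¹) * s⁻¹ := by group
          _ = c := by rw [hr'c, ← conj_inv, hsc, inv_inv]
      rcases hcent r' hr'P hr'2 hr'A _ (mul_mem hs hr'P) (hsr.mul_left (Commute.refl r')) hfix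
        with h' | h'
      · have : s = r' := by rw [eq_inv_of_mul_eq_one_left h', inv_eq_of_mul_eq_one_right hr'2]
        subst this
        exact ⟨hr'2, Or.inr (Or.inr (Or.inl rfl))⟩
      · have : s = z * r' := by
          rw [← h', mul_assoc, hr'2, mul_one]
        subst this
        exact ⟨by rw [hzr'.symm.mul_mul_mul_comm, hz2, hr'2, one_mul],
          Or.inr (Or.inr (Or.inr rfl))⟩
  have hbT : b ∈ (T : Subgroup K) := by
    have : b = w * (u ^ i)⁻¹ := by rw [← hbv, mul_inv_cancel_right]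
    rw [this]
    exact mul_mem hwT (inv_mem (zpow_mem (hUT huU) i))
  change b * _ = w at hbv
  obtain ⟨j, rfl⟩ | ⟨j, rfl⟩ := Int.even_or_odd i
  · rw [zpow_add, ← (Commute.refl u).mul_zpow, hUe u huU, one_zpow, mul_one] at hbv
    exact hr'1 (hsq w ⟨hbv ▸ hb, hwT⟩ hwr).1
  · rw [zpow_add, zpow_one, zpow_mul, zpow_two, hUe u huU, one_zpow, one_mul] at hbv
    have hxr' : Commute x r' := hxr r' hr'P hr'2 hr'A
    have hsP : w * x⁻¹ ∈ P := by
      rw [← hbv, hxdef, mul_inv_rev, ← mul_assoc, mul_inv_cancel_right]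
      exact mul_mem (show b ∈ P from ⟨hb, hbT⟩) (inv_mem (hA0P hcA))
    obtain ⟨hs2, hs⟩ := hsq _ hsP (hwr.mul_left hxr'.inv_left)
    have hxz : Commute x z := by rw [← hx2]; exact (Commute.refl x).mul_right (Commute.refl x)
    have hcx : Commute (w * x⁻¹) x := by
      rcases hs with h' | h' | h' | h' <;> rw [h']
      exacts [Commute.one_left x, hxz.symm, hxr'.symm, hxz.symm.mul_left hxr'.symm]
    refine hw2z ?_
    calc w * w = (w * x⁻¹ * x) * (w * x⁻¹ * x) := by rw [inv_mul_cancel_right]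
      _ = (w * x⁻¹) * (w * x⁻¹) * (x * x) := hcx.symm.mul_mul_mul_comm _ _
      _ = z := by rw [hs2, hx2, one_mul]

end Cfsg.Agent.H51.FourGroupRankOne
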