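import Cfsg.Agent.H51.FourGroupRankOne
import Cfsg.Agent.H51.Component
import Mathlib.GroupTheory.SpecificGroups.KleinFour

/-!
A four-group of operators on a semisimple group with all fixed-point subgroups of 2-rank one.
-/

set_option autoImplicit false
set_option linter.style.haveILetI false

namespace Cfsg.Agent.H51.FourGroupRankOne

open Subgroup

variable {G : Type*} [Group G]

/-- In 2-rank one, commuting involutions coincide. -/
theorem eq_of_commute_of_pRankLE_one (hr : Cfsg.PRankLE 2 1 G) {y z : G} (hy : y * y = 1)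
    (hz : z * z = 1) (hy1 : y ≠ 1) (hz1 : z ≠ 1) (hc : Commute y z) : y = z := by
  by_contra hne
  let E : Subgroup G :=
    { carrier := {1, y, z, y * z}
      one_mem' := by simp
      mul_mem' := by
        intro a b ha hb
        simp only [Set.mem_insert_iff, Set.mem_singleton_iff] at ha hb ⊢
        have h1 : y * (y * z) = z := by rw [← mul_assoc, hy, one_mul]
        have h2 : z * (y * z) = y := by rw [hc.eq, ← mul_assoc, hz, one_mul]
        have h3 : z * y = y * z := hc.eq.symm
        have h4 : y * z * y = z := by rw [hc.eq, mul_assoc, hy, mul_one]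
        have h5 : y * z * z = y := by rw [mul_assoc, hz, mul_one]
        have h6 : y * z * (y * z) = 1 := by rw [mul_assoc, h2, hy]
        rcases ha with rfl | rfl | rfl | rfl <;> rcases hb with rfl | rfl | rfl | rfl <;>
          simp [hy, hz, h1, h2, h3, h4, h5, h6]
      inv_mem' := by
        intro a ha
        simp only [Set.mem_insert_iff, Set.mem_singleton_iff] at ha ⊢
        rcases ha with rfl | rfl | rfl | rfl
        · simp
        · exact Or.inr (Or.inl (inv_eq_of_mul_eq_one_right hy))
        · exact Or.inr (Or.inr (Or.inl (inv_eq_of_mul_eq_one_right hz)))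
        · refine Or.inr (Or.inr (Or.inr ?_))
          rw [mul_inv_rev, inv_eq_of_mul_eq_one_right hy, inv_eq_of_mul_eq_one_right hz, hc.eq] }
  have hsq : ∀ a ∈ E, a * a = 1 := by
    intro a ha
    change a ∈ ({1, y, z, y * z} : Set G) at ha
    simp only [Set.mem_insert_iff, Set.mem_singleton_iff] at ha
    rcases ha with rfl | rfl | rfl | rfl
    exacts [one_mul 1, hy, hz, by rw [hc.symm.mul_mul_mul_comm, hy, hz, one_mul]]
  have hEc : IsMulCommutative E := IsMulCommutative.of_comm fun a b => Subtype.ext <| by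
    have h := hsq _ (E.mul_mem a.2 b.2)
    have ha := inv_eq_of_mul_eq_one_right (hsq _ a.2)
    have hb := inv_eq_of_mul_eq_one_right (hsq _ b.2)
    calc (a : G) * b = ((a : G) * b)⁻¹ := (inv_eq_of_mul_eq_one_right h).symm
      _ = b * a := by rw [mul_inv_rev, ha, hb]
  have h := hr E hEc fun a ha => by rw [sq]; exact hsq a ha
  have h4 : Nat.card E = 4 := by
    show Nat.card ({1, y, z, y * z} : Set G) = 4
    rw [Nat.card_coe_set_eq]
    have hyz : y * z ≠ 1 := fun h => hne (by
      rw [← inv_eq_of_mul_eq_one_right h, inv_eq_of_mul_eq_one_right hy])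
    rw [Set.ncard_insert_of_notMem (by simp [hy1.symm, hz1.symm, hyz.symm]),
      Set.ncard_insert_of_notMem (by simp [hne, hz1]),
      Set.ncard_pair (by simp [hy1])]
  omega

/-- The rank of the whole group is one. -/
theorem pRankLE_one [Finite G] (A : Subgroup G) (hA : Cfsg.layer A = ⊤)
    (U : Subgroup G) (hU : IsKleinFour U) (hUA : U ≤ normalizer (A : Set G))
    (hΓ : Cfsg.PRankLE 2 1
      ↥(⨆ V : {V : Subgroup G // V ≤ U ∧ V ≠ ⊥}, A ⊓ normalizer ((V : Subgroup G) : Set G))) :
    Cfsg.PRankLE 2 1 A := by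
  set M := A ⊔ U with hM
  haveI : (A.subgroupOf M).Normal :=
    (normal_subgroupOf_iff_le_normalizer le_sup_left).2 (sup_le le_normalizer hUA)
  have hU2 : IsPGroup 2 (U.subgroupOf M) := IsPGroup.of_card (n := 2) (by
    rw [Nat.card_congr (subgroupOfEquivOfLe (le_sup_right : U ≤ M)).toEquiv, hU.card_four]
    norm_num)
  obtain ⟨T, hT⟩ := hU2.exists_le_sylow
  have hperf : ⁅A.subgroupOf M, A.subgroupOf M⁆ = A.subgroupOf M := by
    apply map_injective M.subtype_injective
    have h := layer_commutator_self A
    rw [hA] at h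
    have h' := congrArg (Subgroup.map A.subtype) h
    rw [map_commutator, ← MonoidHom.range_eq_map, range_subtype] at h'
    rw [map_commutator, map_subgroupOf_eq_of_le le_sup_left, h']
  obtain ⟨z, hz⟩ := involution_unique (A.subgroupOf M) hperf T (U.subgroupOf M)
    (by rw [Nat.card_congr (subgroupOfEquivOfLe (le_sup_right : U ≤ M)).toEquiv, hU.card_four])
    (fun u hu => Subtype.ext (by
      have := congrArg Subtype.val (hU.mul_self (⟨(u : G), hu⟩ : U))
      simpa using this)) hT
    (by
      apply map_injective M.subtype_injective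
      rw [Subgroup.map_sup, map_subgroupOf_eq_of_le le_sup_left,
        map_subgroupOf_eq_of_le le_sup_right, ← MonoidHom.range_eq_map, range_subtype])
    (fun u hu hu1 y hy w hw hy2 hw2 hy1 hw1 hyu hwu hyw => by
      have hmem : ∀ a : M, a ∈ A.subgroupOf M → Commute a u →
          (a : G) ∈ (⨆ V : {V : Subgroup G // V ≤ U ∧ V ≠ ⊥},
            A ⊓ normalizer ((V : Subgroup G) : Set G)) := fun a ha hau =>
        mem_iSup_of_mem (⟨zpowers (u : G), zpowers_le.2 hu, fun h => hu1 (Subtype.ext (by
          simpa using zpowers_eq_bot.1 h))⟩ : {V : Subgroup G // V ≤ U ∧ V ≠ ⊥})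
          ⟨ha, centralizer_le_normalizer _ (mem_centralizer_iff.2 fun b hb => by
            obtain ⟨i, rfl⟩ := mem_zpowers_iff.1 hb
            exact ((show Commute (a : G) u from congrArg Subtype.val hau.eq).zpow_right i).eq.symm)⟩
      have h := eq_of_commute_of_pRankLE_one hΓ (y := ⟨_, hmem y hy hyu⟩) (z := ⟨_, hmem w hw hwu⟩)
        (Subtype.ext (by simpa using congrArg Subtype.val hy2))
        (Subtype.ext (by simpa using congrArg Subtype.val hw2))
        (fun h => hy1 (Subtype.ext (by simpa using congrArg Subtype.val h)))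
        (fun h => hw1 (Subtype.ext (by simpa using congrArg Subtype.val h)))
        (Subtype.ext (by simpa using congrArg Subtype.val hyw.eq))
      exact Subtype.ext (congrArg (fun t : ↥(⨆ V : {V : Subgroup G // V ≤ U ∧ V ≠ ⊥},
        A ⊓ normalizer ((V : Subgroup G) : Set G)) => (t : G)) h))
  intro E hEc hEe
  set f := inclusion (le_sup_left : A ≤ M) with hf
  have hE : IsPGroup 2 (E.map f) := by
    refine IsPGroup.map (fun e => ⟨1, Subtype.ext ?_⟩) f
    rw [pow_one, SubmonoidClass.coe_pow, hEe e e.2, OneMemClass.coe_one]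
  obtain ⟨S, hS⟩ := hE.exists_le_sylow
  obtain ⟨k, hk⟩ := MulAction.exists_smul_eq M S T
  have hkey : ∀ e ∈ E, e ≠ 1 → k * f e * k⁻¹ = z := by
    intro e he he1
    refine (hz _ ⟨(‹(A.subgroupOf M).Normal›).conj_mem (f e) e.2 k, ?_⟩ ?_).resolve_left ?_
    · rw [← hk, Sylow.coe_subgroup_smul]
      exact ⟨_, hS ⟨e, he, rfl⟩, rfl⟩
    · rw [conj_mul, ← map_mul, ← sq, hEe e he, map_one, mul_one, mul_inv_cancel]
    · exact fun h => he1 (inclusion_injective le_sup_left (by rw [conj_eq_one_iff.1 h, map_one]))
  rw [pow_one]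
  by_contra hcon
  obtain ⟨e, he, he1⟩ := E.bot_or_exists_ne_one.resolve_left fun h => by
    rw [h, card_bot] at hcon; omega
  obtain ⟨e', he', he'e⟩ : ∃ e' ∈ E, e' ∉ zpowers e := by
    by_contra hall
    push Not at hall
    have h := Subgroup.card_le_of_le (show E ≤ zpowers e from hall)
    rw [Nat.card_zpowers] at h
    have := orderOf_le_of_pow_eq_one (n := 2) (x := e) (by norm_num) (hEe e he)
    omega
  have he'1 : e' ≠ 1 := fun h => he'e (h ▸ one_mem _)
  have h := (hkey e he he1).trans (hkey e' he' he'1).symm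
  exact he'e (inclusion_injective le_sup_left (mul_left_cancel (mul_right_cancel h)) ▸
    mem_zpowers e)

end Cfsg.Agent.H51.FourGroupRankOne
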