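import Cfsg.Agent.H72.Kieler
import Cfsg.Agent.S3028
import Cfsg.Agent.S0542
import Cfsg.Agent.H32.Subnormal

/-!
# Point stabilizers of subnormal subgroups in groups of local characteristic `p`
-/

set_option autoImplicit false

namespace Cfsg.Agent.H51

open Subgroup

variable {G : Type*} [Group G] {p : ℕ}

/-- `Ω₁(Z(T))`. -/
def zOmega (p : ℕ) (T : Subgroup G) : Subgroup G :=
  Cfsg.omegaOne p (T ⊓ Subgroup.centralizer (T : Set G))

theorem zOmega_le (T : Subgroup G) : zOmega p T ≤ T :=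
  (Subgroup.closure_le _).mpr fun _ hx => hx.1.1

theorem zOmega_subgroupOf {N T : Subgroup G} (hTN : T ≤ N) :
    (zOmega p (T.subgroupOf N)).map N.subtype = zOmega p T := by
  rw [zOmega, zOmega, Cfsg.omegaOne, Cfsg.omegaOne, MonoidHom.map_closure]
  congr 1
  ext x
  constructor
  · rintro ⟨y, ⟨⟨hy, hyc⟩, hyp⟩, rfl⟩
    refine ⟨⟨hy, fun t ht => ?_⟩, ?_⟩
    · exact congrArg Subtype.val (hyc ⟨t, hTN ht⟩ (show ((⟨t, hTN ht⟩ : ↥N) : G) ∈ T from ht))
    · rw [← map_pow, hyp, map_one]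
  · rintro ⟨⟨hx, hxc⟩, hxp⟩
    exact ⟨⟨x, hTN hx⟩, ⟨⟨hx, fun t ht => Subtype.ext (hxc t ht)⟩, Subtype.ext hxp⟩, rfl⟩

variable [Finite G] [hp : Fact p.Prime]

theorem zOmega_ne_bot {T : Subgroup G} (hT : IsPGroup p ↥T) (h : T ≠ ⊥) : zOmega p T ≠ ⊥ := by
  haveI : Nontrivial ↥T := (Subgroup.nontrivial_iff_ne_bot T).mpr h
  haveI := hT.center_nontrivial
  obtain ⟨z, hz⟩ := exists_prime_orderOf_dvd_card' (G := ↥(Subgroup.center ↥T)) p (by
    obtain ⟨k, hk⟩ := (hT.to_subgroup (Subgroup.center ↥T)).exists_card_eq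
    rw [hk]
    refine dvd_pow_self p fun h => ?_
    rw [h, pow_zero] at hk
    exact Finite.one_lt_card.ne hk.symm)
  intro hbot
  have h1 : ((z : ↥T) : G) ∈ zOmega p T := by
    refine Subgroup.subset_closure ⟨⟨(z : ↥T).2, fun t ht => ?_⟩, ?_⟩
    · exact congrArg Subtype.val (Subgroup.mem_center_iff.mp z.2 ⟨t, ht⟩)
    · have hz1 : z ^ p = 1 := hz ▸ pow_orderOf_eq_one z
      rw [← Subgroup.coe_pow, ← Subgroup.coe_pow, hz1]
      rfl
  rw [hbot, Subgroup.mem_bot] at h1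
  have h2 : z = 1 := Subtype.ext (Subtype.ext h1)
  rw [h2, orderOf_one] at hz
  exact hp.out.one_lt.ne hz

/-- Kieler's lemma inside a local subgroup `N` containing the Sylow part `T ⊓ K` of a subnormal
subgroup `K`. -/
theorem kieler_in {N : Subgroup G} (T : Sylow p G) {K : Subgroup G} (hK : K.IsSubnormal)
    (hTN : (T : Subgroup G) ⊓ K ≤ N)
    (hN : Subgroup.centralizer (Cfsg.pCore p ↥N : Set ↥N) ≤ Cfsg.pCore p ↥N) {L : Subgroup G}
    (hL : L.IsSubnormal) (hLK : L ≤ K) {x : G} (hxL : x ∈ L) (hxN : x ∈ N) :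
    x ∈ Subgroup.centralizer (zOmega p ((T : Subgroup G) ⊓ K) : Set G) ↔
      x ∈ Subgroup.centralizer (zOmega p ((T : Subgroup G) ⊓ L) : Set G) := by
  set S := (T : Subgroup G) ⊓ K with hS
  obtain ⟨T', hT'⟩ := ((T.isPGroup'.to_le inf_le_left : IsPGroup p ↥S).comap_of_injective N.subtype
    N.subtype_injective).exists_le_sylow
  set R : Subgroup G := (T' : Subgroup ↥N).map N.subtype with hR
  have hRp : IsPGroup p ↥R := T'.isPGroup'.map _
  have hSR : S ≤ R := fun y hy => ⟨⟨y, hTN hy⟩, hT' hy, rfl⟩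
  have hRK : R ⊓ K = S := by
    refine le_antisymm ?_ (le_inf hSR inf_le_right)
    have h1 : ¬ p ∣ S.relIndex K := by
      obtain ⟨Q, hQ⟩ := Cfsg.Agent.S0542.result p K hK T
      rw [hS, Subgroup.inf_relIndex_right, Subgroup.relIndex, ← hQ]
      exact Q.not_dvd_index
    obtain ⟨k, hk⟩ := (hRp.to_le (inf_le_left : R ⊓ K ≤ R)).exists_card_eq
    have h2 := Subgroup.relIndex_dvd_card (H := S) (K := R ⊓ K)
    rw [hk] at h2
    obtain ⟨j, -, hj⟩ := (Nat.dvd_prime_pow hp.out).mp h2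
    rcases Nat.eq_zero_or_pos j with rfl | hj0
    · exact Subgroup.relIndex_eq_one.mp (by simpa using hj)
    · refine absurd ?_ h1
      refine ((dvd_pow_self p hj0.ne').trans (dvd_of_eq hj.symm)).trans ?_
      exact Dvd.intro _ (Subgroup.relIndex_mul_relIndex _ _ _ (le_inf hSR inf_le_right) inf_le_right)
  have hRL : R ⊓ L = (T : Subgroup G) ⊓ L := by
    rw [← inf_eq_right.mpr hLK, ← inf_assoc, hRK, hS, inf_assoc]
  have hRN : R ≤ N := Subgroup.map_subtype_le _
  have hT'eq : (T' : Subgroup ↥N) = R.subgroupOf N := by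
    rw [hR, Subgroup.subgroupOf, Subgroup.comap_map_eq_self_of_injective N.subtype_injective]
  have key : ∀ (U : Subgroup G), U ≤ N →
      ((⟨x, hxN⟩ : ↥N) ∈ Subgroup.centralizer (zOmega p (U.subgroupOf N) : Set ↥N) ↔
        x ∈ Subgroup.centralizer (zOmega p U : Set G)) := by
    intro U hU
    rw [← zOmega_subgroupOf (p := p) hU]
    constructor
    · intro hx
      rintro _ ⟨z, hz, rfl⟩
      exact congrArg Subtype.val (hx z hz)
    · intro hx z hz
      exact Subtype.ext (hx _ ⟨z, hz, rfl⟩)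
  have main : ∀ M : Subgroup G, M.IsSubnormal → x ∈ M →
      (x ∈ Subgroup.centralizer (zOmega p R : Set G) ↔
        x ∈ Subgroup.centralizer (zOmega p (R ⊓ M) : Set G)) := by
    intro M hM hxM
    have h := (Cfsg.Agent.H72.kieler hN T' (L := M.subgroupOf N) hM.subgroupOf).2
    have h' := SetLike.ext_iff.mp h ⟨x, hxN⟩
    simp only [Subgroup.mem_inf] at h'
    rw [← key _ hRN, ← key _ (inf_le_left.trans hRN)]
    rw [hT'eq] at h'
    exact ⟨fun hx => (h'.mp ⟨hxM, hx⟩).2, fun hx => (h'.mpr ⟨hxM, hx⟩).2⟩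
  have e1 := main K hK (hLK hxL)
  have e2 := main L hL hxL
  rw [hRK] at e1
  rw [hRL] at e2
  exact e1.symm.trans e2

/-- A subnormal subgroup of index prime to `p` contains all `p`-elements. -/
theorem mem_of_isSubnormal_of_not_dvd_index {D : Type*} [Group D] [Finite D] {H : Subgroup D}
    (hH : H.IsSubnormal) : ¬ p ∣ H.index → ∀ x : D, (∃ k, orderOf x = p ^ k) → x ∈ H := by
  induction hH with
  | top => exact fun _ x _ => Subgroup.mem_top x
  | step H K hle _ hN ih =>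
    intro hidx x hx
    have hxK := ih (fun h => hidx (h.trans (Subgroup.index_dvd_of_le hle))) x hx
    haveI := hN
    obtain ⟨k, hk⟩ := hx
    have h1 : QuotientGroup.mk' (H.subgroupOf K) ⟨x, hxK⟩ = 1 := by
      rw [← orderOf_eq_one_iff]
      refine Nat.eq_one_of_dvd_coprimes (Nat.Coprime.pow_left k (hp.out.coprime_iff_not_dvd.mpr
        (fun h => hidx (h.trans (Dvd.intro _ (Subgroup.relIndex_mul_index hle)))))) ?_
        (orderOf_dvd_natCard _)
      exact (orderOf_map_dvd _ _).trans (by rw [Subgroup.orderOf_mk, hk])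
    exact Subgroup.mem_subgroupOf.mp ((QuotientGroup.eq_one_iff _).mp h1)

/-- The two centralizers have the same `p`-elements in a subnormal subgroup. -/
theorem mem_centralizer_zOmega_iff (hH : Cfsg.IsOfLocalCharacteristic p G) (T : Sylow p G)
    {L : Subgroup G} (hL : L.IsSubnormal) :
    ∀ x ∈ L, (∃ k, orderOf x = p ^ k) →
      (x ∈ Subgroup.centralizer (zOmega p ((T : Subgroup G) ⊓ L) : Set G) ↔
        x ∈ Subgroup.centralizer (zOmega p (T : Subgroup G) : Set G)) := by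
  induction hL with
  | top => intro x _ _; rw [inf_top_eq]
  | step L K hle hK hN ih =>
    intro x hxL hx
    have hL : L.IsSubnormal := .step L K hle hK hN
    refine Iff.trans ?_ (ih x (hle hxL) hx)
    by_cases hT0 : (T : Subgroup G) ⊓ L = ⊥
    · -- `L` has no nontrivial `p`-element
      obtain ⟨k, hk⟩ := hx
      obtain ⟨Q, hQ⟩ := Cfsg.Agent.S0542.result p L hL T
      have h1 : (Q : Subgroup ↥L) = ⊥ := by
        rw [hQ, Subgroup.subgroupOf_eq_bot, disjoint_iff, hT0]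
      have h2 : ¬ p ∣ Nat.card ↥L := by
        have := Q.not_dvd_index
        rwa [h1, Subgroup.index_bot] at this
      have h3 : x = 1 := orderOf_eq_one_iff.mp (Nat.eq_one_of_dvd_coprimes
        (Nat.Coprime.pow_left k (hp.out.coprime_iff_not_dvd.mpr h2)) (dvd_of_eq hk)
        (Subgroup.orderOf_dvd_natCard L hxL))
      subst h3
      exact ⟨fun _ => Subgroup.one_mem _, fun _ => Subgroup.one_mem _⟩
    have hTK : (T : Subgroup G) ⊓ K ≠ ⊥ := fun h =>
      hT0 (le_bot_iff.mp (h ▸ inf_le_inf_left _ hle))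
    have hLn : ∀ t ∈ K, ∀ a ∈ L, t * a * t⁻¹ ∈ L := by
      intro t ht a ha
      exact Subgroup.mem_subgroupOf.mp
        (hN.conj_mem ⟨a, hle ha⟩ (Subgroup.mem_subgroupOf.mpr ha) ⟨t, ht⟩)
    have hnorm : ∀ A : Subgroup G, (∀ t ∈ (T : Subgroup G) ⊓ K, ∀ a ∈ A, t * a * t⁻¹ ∈ A) →
        (T : Subgroup G) ⊓ K ≤ Subgroup.normalizer (A : Set G) := by
      intro A h t ht
      rw [Subgroup.mem_normalizer_iff]
      refine fun a => ⟨h t ht a, fun ha => ?_⟩
      have := h t⁻¹ (inv_mem ht) _ ha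
      simpa [mul_assoc] using this
    set Z := zOmega p ((T : Subgroup G) ⊓ K) with hZ
    set Z0 := zOmega p ((T : Subgroup G) ⊓ L) with hZ0
    have hp0 : IsPGroup p ↥((T : Subgroup G) ⊓ L) := T.isPGroup'.to_le inf_le_left
    have hpK : IsPGroup p ↥((T : Subgroup G) ⊓ K) := T.isPGroup'.to_le inf_le_left
    have hzmap : ∀ (A : Subgroup G), (∀ t ∈ (T : Subgroup G) ⊓ K, ∀ a ∈ A, t * a * t⁻¹ ∈ A) →
        ∀ t ∈ (T : Subgroup G) ⊓ K, ∀ a ∈ zOmega p A, t * a * t⁻¹ ∈ zOmega p A := by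
      intro A hA t ht a ha
      have hle' : zOmega p A ≤ (zOmega p A).comap (MulAut.conj t).toMonoidHom := by
        refine (Subgroup.closure_le _).mpr fun y hy => Subgroup.subset_closure ⟨⟨hA t ht y hy.1.1,
          fun b hb => ?_⟩, ?_⟩
        · have hb' := hA t⁻¹ (inv_mem ht) b hb
          rw [inv_inv] at hb'
          change b * (t * y * t⁻¹) = t * y * t⁻¹ * b
          calc b * (t * y * t⁻¹) = t * ((t⁻¹ * b * t) * y) * t⁻¹ := by group
            _ = t * (y * (t⁻¹ * b * t)) * t⁻¹ := by rw [hy.1.2 _ hb']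
            _ = t * y * t⁻¹ * b := by group
        · change (MulAut.conj t y) ^ p = 1
          rw [← map_pow, hy.2, map_one]
      exact hle' ha
    have hTN : (T : Subgroup G) ⊓ K ≤ Subgroup.normalizer (Z : Set G) :=
      hnorm _ (hzmap _ fun t ht a ha => mul_mem (mul_mem ht ha) (inv_mem ht))
    have hTN0 : (T : Subgroup G) ⊓ K ≤ Subgroup.normalizer (Z0 : Set G) :=
      hnorm _ (hzmap _ fun t ht a ha =>
        ⟨Subgroup.mul_mem _ (Subgroup.mul_mem _ ht.1 ha.1) (Subgroup.inv_mem _ ht.1),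
          hLn t ht.2 a ha.2⟩)
    constructor
    · intro hxc
      exact (kieler_in T hK hTN0 (hH.2 Z0 (hp0.to_le (zOmega_le _)) (zOmega_ne_bot hp0 hT0)) hL hle
        hxL (Subgroup.centralizer_le_normalizer _ hxc)).mpr hxc
    · intro hxc
      exact (kieler_in T hK hTN (hH.2 Z (hpK.to_le (zOmega_le _)) (zOmega_ne_bot hpK hTK)) hL hle
        hxL (Subgroup.centralizer_le_normalizer _ hxc)).mp hxc

/-- The point stabilizer of a join of subnormal subgroups. -/
theorem pointStabilizer_sup (hH : Cfsg.IsOfLocalCharacteristic p G) (T : Sylow p G)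
    {L₁ L₂ : Subgroup G} (h₁ : L₁.IsSubnormal) (h₂ : L₂.IsSubnormal) :
    Cfsg.pointStabilizer p (L₁ ⊔ L₂) ((T : Subgroup G) ⊓ (L₁ ⊔ L₂)) =
      Cfsg.pointStabilizer p L₁ ((T : Subgroup G) ⊓ L₁) ⊔
        Cfsg.pointStabilizer p L₂ ((T : Subgroup G) ⊓ L₂) := by
  set C := Subgroup.centralizer (zOmega p (T : Subgroup G) : Set G) with hC
  have hTC : (T : Subgroup G) ≤ C := by
    intro t ht
    rintro z hz
    exact (((Subgroup.closure_le _).mpr fun y hy => hy.1.2 :
      zOmega p (T : Subgroup G) ≤ Subgroup.centralizer ((T : Subgroup G) : Set G)) hz t ht).symm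
  have hps : ∀ L : Subgroup G, L.IsSubnormal →
      Cfsg.pointStabilizer p L ((T : Subgroup G) ⊓ L) =
        Subgroup.closure {x : G | x ∈ L ⊓ C ∧ ∃ k : ℕ, orderOf x = p ^ k} := by
    intro L hL
    rw [Cfsg.pointStabilizer]
    congr 1
    ext x
    exact and_congr_left fun hx => and_congr_right fun hxL =>
      mem_centralizer_zOmega_iff hH T hL x hxL hx
  rw [hps _ (Cfsg.Agent.H32.isSubnormal_sup h₁ h₂), hps _ h₁, hps _ h₂]
  set P : Subgroup G → Subgroup G :=
    fun L => Subgroup.closure {x : G | x ∈ L ⊓ C ∧ ∃ k : ℕ, orderOf x = p ^ k} with hP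
  change P (L₁ ⊔ L₂) = P L₁ ⊔ P L₂
  have hPle : ∀ L, P L ≤ L ⊓ C := fun L => (Subgroup.closure_le _).mpr fun x hx => hx.1
  have hPmono : ∀ {L L' : Subgroup G}, L ≤ L' → P L ≤ P L' := fun h =>
    Subgroup.closure_mono fun x hx => ⟨⟨h hx.1.1, hx.1.2⟩, hx.2⟩
  refine le_antisymm ?_ (sup_le (hPmono le_sup_left) (hPmono le_sup_right))
  have hPn : ∀ L, (P L).subgroupOf (L ⊓ C) ≤ (P L).subgroupOf (L ⊓ C) ∧
      ((P L).subgroupOf (L ⊓ C)).Normal := by
    intro L
    refine ⟨le_rfl, ⟨fun a ha b => ?_⟩⟩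
    have hconj : P L ≤ (P L).comap (MulAut.conj (b : G)).toMonoidHom := by
      refine (Subgroup.closure_le _).mpr fun y hy => Subgroup.subset_closure
        ⟨mul_mem (mul_mem b.2 hy.1) (inv_mem b.2), ?_⟩
      obtain ⟨k, hk⟩ := hy.2
      exact ⟨k, (MulEquiv.orderOf_eq (MulAut.conj (b : G)) y).trans hk⟩
    exact hconj ha
  have hsn : ∀ L, L.IsSubnormal → ((P L).subgroupOf C).IsSubnormal := by
    intro L hL
    have hLC : ((L ⊓ C).subgroupOf C).IsSubnormal := by
      rw [Subgroup.inf_subgroupOf_right]; exact hL.subgroupOf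
    refine .step _ _ (Subgroup.comap_mono (hPle L)) hLC ⟨fun a ha b => ?_⟩
    exact (hPn L).2.conj_mem ⟨((a : ↥C) : G), a.2⟩ ha ⟨((b : ↥C) : G), b.2⟩
  set X := P L₁ ⊔ P L₂ with hX
  have hXC : X ≤ C := sup_le ((hPle _).trans inf_le_right) ((hPle _).trans inf_le_right)
  have hXsn : (X.subgroupOf C).IsSubnormal := by
    rw [hX, Subgroup.subgroupOf_sup ((hPle _).trans inf_le_right) ((hPle _).trans inf_le_right)]
    exact Cfsg.Agent.H32.isSubnormal_sup (hsn _ h₁) (hsn _ h₂)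
  set D := (L₁ ⊔ L₂) ⊓ C with hD
  have hXD : X ≤ D := sup_le ((hPle _).trans (inf_le_inf_right _ le_sup_left))
    ((hPle _).trans (inf_le_inf_right _ le_sup_right))
  have hTX : (L₁ ⊔ L₂) ⊓ (T : Subgroup G) ≤ X := by
    rw [Cfsg.Agent.S3028.result T L₁ L₂ h₁ h₂]
    have hin : ∀ L : Subgroup G, L ⊓ (T : Subgroup G) ≤ P L := by
      intro L t ht
      obtain ⟨k, hk⟩ := IsPGroup.iff_orderOf.mp T.isPGroup' ⟨t, ht.2⟩
      rw [Subgroup.orderOf_mk] at hk
      exact Subgroup.subset_closure ⟨⟨ht.1, hTC ht.2⟩, k, hk⟩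
    exact sup_le_sup (hin _) (hin _)
  have hXDsn : (X.subgroupOf D).IsSubnormal := by
    have h := hXsn.comap (Subgroup.inclusion (inf_le_right : D ≤ C))
    exact h
  have hidx : ¬ p ∣ (X.subgroupOf D).index := by
    obtain ⟨Q, hQ⟩ := Cfsg.Agent.S0542.result p _
      ((Cfsg.Agent.H32.isSubnormal_sup h₁ h₂).subgroupOf : ((L₁ ⊔ L₂).subgroupOf C).IsSubnormal)
      (T.subtype hTC)
    intro hd
    apply Q.not_dvd_index
    rw [hQ, Sylow.coe_subtype]
    change p ∣ ((T : Subgroup G).subgroupOf C).relIndex ((L₁ ⊔ L₂).subgroupOf C)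
    rw [← Subgroup.inf_subgroupOf_right (L₁ ⊔ L₂) C, Subgroup.relIndex_subgroupOf inf_le_right]
    refine hd.trans ?_
    change X.relIndex D ∣ _
    rw [← Subgroup.inf_relIndex_right (T : Subgroup G) D]
    exact Subgroup.relIndex_dvd_of_le_left D
      ((le_inf (inf_le_right.trans inf_le_left) inf_le_left).trans hTX)
  refine (Subgroup.closure_le _).mpr fun x hx => ?_
  exact mem_of_isSubnormal_of_not_dvd_index hXDsn hidx ⟨x, hx.1⟩
    (by rw [Subgroup.orderOf_mk]; exact hx.2)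

end Cfsg.Agent.H51
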